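import Groth.Agent.DispLib.Iterate
import Mathlib.RingTheory.Flat.FaithfullyFlat.Algebra
import Mathlib.RingTheory.Finiteness.Projective
import Mathlib.Algebra.Module.Submodule.EqLocus
import Mathlib.Algebra.Module.RingHom

/-!
# Base change of displays
-/

namespace DispLib

open WittVector W4c1extbt610 Dieu

universe u v

variable {p : ℕ} [Fact p.Prime] {S R : Type u} [CommRing S] [CommRing R] (f : S →+* R)
variable {P : Type v} [AddCommGroup P] [Module (WittVector p S) P]

lemma map_frobenius (x : WittVector p S) :
    (WittVector.map f : WittVector p S →+* WittVector p R) (frobenius x) = frobenius ((WittVector.map f : WittVector p S →+* WittVector p R) x) := by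
  exact (frobenius_isPoly p).map f x

lemma pow_frob_map (N : ℕ) (x : WittVector p S) :
    (WittVector.map f : WittVector p S →+* WittVector p R)
        (((WittVector.frobenius : WittVector p S →+* WittVector p S) ^ N) x) =
      ((WittVector.frobenius : WittVector p R →+* WittVector p R) ^ N)
        ((WittVector.map f : WittVector p S →+* WittVector p R) x) := by
  induction N generalizing x with
  | zero => rfl
  | succ N ih =>
    rw [pow_succ' _ N, pow_succ' _ N, RingHom.mul_def, RingHom.mul_def, RingHom.comp_apply, RingHom.comp_apply,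
      map_frobenius, ih]

/-- The auxiliary semilinear map `y ↦ 1 ⊗ (1 ⊗ y)`. -/
noncomputable def thetaAux (N : ℕ) :
    P →ₛₗ[(WittVector.map f : WittVector p S →+* WittVector p R).comp
        ((WittVector.frobenius : WittVector p S →+* WittVector p S) ^ N)]
      BC ((WittVector.frobenius : WittVector p R →+* WittVector p R) ^ N) (BC (WittVector.map f : WittVector p S →+* WittVector p R) P) where
  toFun y := BC.tmul _ 1 (BC.tmul _ 1 y)
  map_add' a b := by rw [BC.tmul_add, BC.tmul_add]
  map_smul' c a := by
    rw [← BC.tmul_apply_eq, BC.tmul_eq_smul_tmul_one (b := (WittVector.map f : WittVector p S →+* WittVector p R) c),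
      ← BC.tmul_apply_eq, BC.tmul_eq_smul_tmul_one, RingHom.comp_apply, pow_frob_map]

/-- `u ⊗ y ↦ f u ⊗ (1 ⊗ y)`. -/
noncomputable def theta (N : ℕ) :
    BC ((WittVector.frobenius : WittVector p S →+* WittVector p S) ^ N) P
      →ₛₗ[(WittVector.map f : WittVector p S →+* WittVector p R)]
      BC ((WittVector.frobenius : WittVector p R →+* WittVector p R) ^ N) (BC (WittVector.map f : WittVector p S →+* WittVector p R) P) :=
  (BC.lift _ (thetaAux f N)).comp
    (BC.push ((WittVector.frobenius : WittVector p S →+* WittVector p S) ^ N)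
      (WittVector.map f : WittVector p S →+* WittVector p R))

lemma theta_tmul (N : ℕ) (u : WittVector p S) (y : P) :
    theta f N (BC.tmul _ u y) = BC.tmul _ ((WittVector.map f : WittVector p S →+* WittVector p R) u)
      (BC.tmul (WittVector.map f : WittVector p S →+* WittVector p R) 1 y) := by
  rw [theta, LinearMap.comp_apply, BC.push_tmul, BC.lift_tmul]
  change _ • BC.tmul _ 1 _ = _
  rw [BC.smul_tmul, mul_one]

/-- The base change of `V^#`, before linearisation. -/
noncomputable def vsBCAux
    (Vs : P →ₗ[WittVector p S] BC (WittVector.frobenius : WittVector p S →+* WittVector p S) P) :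
    P →ₛₗ[(WittVector.map f : WittVector p S →+* WittVector p R)]
      BC (WittVector.frobenius : WittVector p R →+* WittVector p R) (BC (WittVector.map f : WittVector p S →+* WittVector p R) P) :=
  ((BC.castHom (pow_one (WittVector.frobenius : WittVector p R →+* WittVector p R))).comp (theta f 1)).comp
    ((BC.castHom (pow_one (WittVector.frobenius : WittVector p S →+* WittVector p S)).symm).comp Vs)

/-- The base change of `V^#`. -/
noncomputable def vsBC
    (Vs : P →ₗ[WittVector p S] BC (WittVector.frobenius : WittVector p S →+* WittVector p S) P) :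
    BC (WittVector.map f : WittVector p S →+* WittVector p R) P →ₗ[WittVector p R] BC (WittVector.frobenius : WittVector p R →+* WittVector p R) (BC (WittVector.map f : WittVector p S →+* WittVector p R) P) :=
  BC.lift _ (vsBCAux f Vs)

variable (Vs : P →ₗ[WittVector p S] BC (WittVector.frobenius : WittVector p S →+* WittVector p S) P)

lemma vsBC_tmul_of_eq {x : P} {u : WittVector p S} {y : P}
    (h : Vs x = u • BC.tmul (WittVector.frobenius : WittVector p S →+* WittVector p S) 1 y) (w : WittVector p R) :
    vsBC f Vs (BC.tmul _ w x) = BC.tmul (WittVector.frobenius : WittVector p R →+* WittVector p R)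
      (w * (WittVector.map f : WittVector p S →+* WittVector p R) u)
      (BC.tmul (WittVector.map f : WittVector p S →+* WittVector p R) 1 y) := by
  rw [vsBC, BC.lift_tmul]
  simp only [vsBCAux, LinearMap.comp_apply, h]
  rw [BC.smul_tmul, mul_one, BC.castHom_tmul, theta_tmul, BC.castHom_tmul, BC.smul_tmul]

lemma Q_le_span (D : Display3n p S P) (DR : Display3n p R (BC (WittVector.map f : WittVector p S →+* WittVector p R) P)) (hDR : IsDispBaseChange f D DR) :
    DR.Q ≤ Submodule.span (WittVector p R)
        (Set.range fun y : D.Q => BC.tmul (WittVector.map f : WittVector p S →+* WittVector p R) 1 (y : P)) ⊔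
      IV p R • (⊤ : Submodule (WittVector p R) (BC (WittVector.map f : WittVector p S →+* WittVector p R) P)) := by
  obtain ⟨L, T, hLT, hQ⟩ := D.exists_normal
  have := D.finite
  have := D.projective
  obtain ⟨n, d, c, -, -, hdc⟩ := Module.Finite.exists_comp_eq_id_of_projective (WittVector p S) P
  let πT : P →ₗ[WittVector p S] P := T.subtype ∘ₗ Submodule.projectionOnto T L hLT.symm
  have hπQ : ∀ y ∈ D.Q, πT y ∈ IV p S • (⊤ : Submodule (WittVector p S) P) := by
    intro y hy
    rw [hQ, Submodule.mem_sup] at hy
    obtain ⟨l, hl, t, ht, rfl⟩ := hy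
    rw [map_add]
    have h0 : πT l = 0 := by
      simp [πT, Submodule.projectionOnto_apply_of_mem_right hLT.symm hl]
    rw [h0, zero_add]
    refine Submodule.smul_induction_on ht (fun a ha z _ => ?_) (fun a b ha hb => ?_)
    · rw [map_smul]; exact Submodule.smul_mem_smul ha Submodule.mem_top
    · rw [map_add]; exact add_mem ha hb
  intro z hz
  rw [hDR.Q_eq, LinearMap.mem_ker] at hz
  let G := (WittVector.map f : WittVector p S →+* WittVector p R)
  have key : ∀ i, BC.lift G ((semilinearOfRingHom G).comp (LinearMap.proj i ∘ₗ c ∘ₗ πT)) z ∈ IV p R := by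
    intro i
    let ψ : P →ₛₗ[(WittVector.constantCoeff : WittVector p R →+* R).comp G] R :=
      { toFun := fun y => WittVector.constantCoeff (G (c (πT y) i))
        map_add' := fun a b => by rw [map_add, map_add, Pi.add_apply, map_add, map_add]
        map_smul' := fun a b => by
          rw [map_smul, map_smul, Pi.smul_apply, smul_eq_mul, map_mul, map_mul]; rfl }
    have hψ : D.Q ≤ LinearMap.ker ψ := fun y hy => by
      have h1 : c (πT y) i ∈ IV p S := by
        refine Submodule.smul_induction_on (hπQ y hy) (fun a ha w _ => ?_) (fun a b ha hb => ?_)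
        · rw [map_smul]; exact Ideal.mul_mem_right _ _ ha
        · rw [map_add]; exact add_mem ha hb
      rw [IV_eq_ker, RingHom.mem_ker] at h1
      change f ((c (πT y) i).coeff 0) = 0
      rw [show (c (πT y) i).coeff 0 = 0 from h1, map_zero]
    have hfac : ∀ z, WittVector.constantCoeff
        (BC.lift G ((semilinearOfRingHom G).comp (LinearMap.proj i ∘ₗ c ∘ₗ πT)) z) =
          BC.lift _ (D.Q.liftQ ψ hψ) (bcQuotMap f D.Q z) := by
      intro z
      induction z using BC.induction_on _ with
      | zero => simp
      | add a b ha hb => simp only [map_add, ha, hb]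
      | tmul w y =>
        rw [bcQuotMap_tmul, BC.lift_tmul, BC.lift_tmul, smul_eq_mul, map_mul]
        rfl
    rw [IV_eq_ker, RingHom.mem_ker, hfac, hz, map_zero]
  have e : ∀ z, z = BC.map G (L.subtype ∘ₗ Submodule.projectionOnto L T hLT) z +
      ∑ i, BC.lift G ((semilinearOfRingHom G).comp (LinearMap.proj i ∘ₗ c ∘ₗ πT)) z •
        BC.tmul G 1 (d (Pi.single i 1)) := by
    intro z
    induction z using BC.induction_on _ with
    | zero => simp
    | add a b ha hb =>
      conv_lhs => rw [ha, hb]
      simp only [map_add, add_smul, Finset.sum_add_distrib]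
      abel
    | tmul w y =>
      have hy : y = (Submodule.projectionOnto L T hLT y : P) + ∑ i, c (πT y) i • d (Pi.single i 1) := by
        have e1 : d (c (πT y)) = πT y := LinearMap.congr_fun hdc _
        simp only [← map_smul, ← map_sum, ← pi_eq_sum_univ']
        rw [e1]
        exact (Submodule.projection_add_projection_eq_self hLT y).symm
      conv_lhs => rw [hy]
      rw [BC.map_tmul, BC.tmul_add]
      congr 1
      rw [BC.tmul_eq_smul_tmul_one, ← BC.ι_apply, map_sum, Finset.smul_sum]
      refine Finset.sum_congr rfl fun i _ => ?_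
      rw [map_smulₛₗ, smul_smul, BC.lift_tmul, BC.ι_apply]
      rfl
  rw [e z]
  refine Submodule.add_mem _ (Submodule.mem_sup_left ?_) (Submodule.sum_mem _ fun i _ => Submodule.mem_sup_right
    (Submodule.smul_mem_smul (key i) Submodule.mem_top))
  generalize z = z'
  induction z' using BC.induction_on _ with
  | zero => rw [map_zero]; exact Submodule.zero_mem _
  | add a b ha hb => rw [map_add]; exact add_mem ha hb
  | tmul w y =>
    rw [BC.map_tmul, BC.tmul_eq_smul_tmul_one]
    exact Submodule.smul_mem _ _ (Submodule.subset_span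
      ⟨⟨_, hQ ▸ Submodule.mem_sup_left (Submodule.projectionOnto L T hLT y).2⟩, rfl⟩)

lemma isVSharp_vsBC (D : Display3n p S P) (DR : Display3n p R (BC (WittVector.map f : WittVector p S →+* WittVector p R) P)) (hDR : IsDispBaseChange f D DR)
    (hVs : IsVSharp D Vs) : IsVSharp DR (vsBC f Vs) := by
  let G := (WittVector.map f : WittVector p S →+* WittVector p R)
  have hF : ∀ x, vsBC f Vs (DR.F x) = (p : WittVector p R) • BC.tmul _ 1 x := by
    intro x
    induction x using BC.induction_on _ with
    | zero => simp
    | add a b ha hb => simp only [map_add, ha, hb, BC.tmul_add, smul_add]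
    | tmul w y =>
      have h := hVs.app_smul_F 1 y
      rw [one_smul] at h
      rw [hDR.F_tmul, vsBC_tmul_of_eq f Vs h, map_natCast, BC.smul_tmul, mul_one,
        BC.tmul_eq_smul_tmul_one (g := G) w y, ← BC.tmul_mul_apply, mul_comm (frobenius w)]
  have hV : ∀ z : DR.Q, vsBC f Vs (DR.Vinv z) = BC.tmul _ 1 (z : BC (WittVector.map f : WittVector p S →+* WittVector p R) P) := by
    let A := (vsBC f Vs).comp DR.Vinv
    let B := (BC.ι (WittVector.frobenius : WittVector p R →+* WittVector p R) (BC (WittVector.map f : WittVector p S →+* WittVector p R) P)).comp DR.Q.subtype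
    have hle : DR.Q ≤ (LinearMap.eqLocus A B).map DR.Q.subtype := by
      refine le_trans (Q_le_span f D DR hDR) (sup_le (Submodule.span_le.mpr ?_) ?_)
      · rintro _ ⟨y, rfl⟩
        have hm : BC.tmul G 1 (y : P) ∈ DR.Q := by
          rw [hDR.Q_eq, LinearMap.mem_ker, bcQuotMap_tmul, show D.Q.mkQ (y : P) = 0 from
            (Submodule.Quotient.mk_eq_zero _).mpr y.2, BC.tmul_zero]
        refine ⟨⟨_, hm⟩, ?_, rfl⟩
        rw [SetLike.mem_coe, LinearMap.mem_eqLocus]
        change vsBC f Vs (DR.Vinv _) = BC.tmul _ 1 (BC.tmul G 1 (y : P))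
        have h := hVs.app_smul_Vinv 1 y
        rw [one_smul, BC.tmul_eq_smul_tmul_one] at h
        rw [hDR.Vinv_tmul, map_one, vsBC_tmul_of_eq f Vs h, map_one, one_mul]
      · refine Submodule.smul_le.mpr fun a ha z _ => ?_
        obtain ⟨u, rfl⟩ := mem_IV_iff.mp ha
        have hm : verschiebung u • z ∈ DR.Q :=
          DR.IV_smul_le (Submodule.smul_mem_smul (verschiebung_mem_IV p R u) Submodule.mem_top)
        refine ⟨⟨_, hm⟩, ?_, rfl⟩
        rw [SetLike.mem_coe, LinearMap.mem_eqLocus]
        change vsBC f Vs (DR.Vinv _) = BC.tmul _ 1 (verschiebung u • z)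
        rw [DR.Vinv_verschiebung_smul, map_smul, hF, smul_smul, ← BC.tmul_apply_eq,
          frobenius_verschiebung, BC.smul_tmul, mul_one]
    intro z
    obtain ⟨z', hz', e⟩ := hle z.2
    obtain rfl : z' = z := Subtype.ext e
    exact hz'
  refine ⟨fun w x => ?_, fun w y => ?_⟩
  · rw [map_smul, hF, smul_comm, BC.smul_tmul, mul_one]
  · rw [map_smul, hV, BC.smul_tmul, mul_one]

lemma vSharpPow_vsBC (n : ℕ) : ∀ x, vSharpPow (vsBC f Vs) n
    (BC.tmul (WittVector.map f : WittVector p S →+* WittVector p R) 1 x) = theta f (n + 1) (vSharpPow Vs n x) := by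
  induction n with
  | zero =>
    intro x
    rw [vSharpPow_zero_apply, vSharpPow_zero_apply, vsBC, BC.lift_tmul, one_smul]
    simp only [vsBCAux, LinearMap.comp_apply]
    induction Vs x using BC.induction_on _ with
    | zero => simp
    | add a b ha hb => simp only [map_add, ha, hb]
    | tmul u y => simp [theta_tmul]
  | succ n ih =>
    intro x
    have hA : vsBC f Vs (BC.tmul _ 1 x) =
        BC.castHom (pow_one _) (theta f 1 (BC.castHom (pow_one _).symm (Vs x))) := by
      rw [vsBC, BC.lift_tmul, one_smul]; rfl
    rw [vSharpPow_succ_eq, vSharpPow_succ_eq, hA]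
    induction Vs x using BC.induction_on _ with
    | zero => simp
    | add a b ha hb => simp only [map_add] at ha hb ⊢; rw [ha, hb]
    | tmul u y =>
      rw [BC.castHom_tmul, theta_tmul, BC.castHom_tmul, stepMap_tmul, stepMap_tmul, map_smulₛₗ]
      congr 1
      rw [ih y]
      induction vSharpPow Vs n y using BC.induction_on _ with
      | zero => simp
      | add a b ha hb => simp only [map_add, ha, hb]
      | tmul v z => rw [theta_tmul, shiftMap_tmul, shiftMap_tmul, theta_tmul, map_frobenius]

lemma isDisplay_baseChange (D : Display3n p S P) (hD : IsDisplay D)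
    (DR : Display3n p R (BC (WittVector.map f : WittVector p S →+* WittVector p R) P)) (hDR : IsDispBaseChange f D DR) : IsDisplay DR := by
  obtain ⟨Vs, hVs, n, hn⟩ := hD
  refine ⟨vsBC f Vs, isVSharp_vsBC f Vs D DR hDR hVs, n, fun z => ?_⟩
  have hJ : (IV p S ⊔ Ideal.span {(p : WittVector p S)}).map (WittVector.map f : WittVector p S →+* WittVector p R) ≤
      IV p R ⊔ Ideal.span {(p : WittVector p R)} := by
    rw [Ideal.map_sup, Ideal.map_span _ {(p : WittVector p S)}, Set.image_singleton, map_natCast]
    refine sup_le_sup ?_ le_rfl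
    rw [IV_eq_ker, IV_eq_ker, Ideal.map_le_iff_le_comap]
    intro x hx
    rw [Ideal.mem_comap, RingHom.mem_ker] at *
    change f (x.coeff 0) = 0
    rw [show x.coeff 0 = 0 from hx, map_zero]
  induction z using BC.induction_on _ with
  | zero => rw [map_zero]; exact Submodule.zero_mem _
  | add a b ha hb => rw [map_add]; exact add_mem ha hb
  | tmul w x =>
    rw [BC.tmul_eq_smul_tmul_one, map_smul, vSharpPow_vsBC]
    exact Submodule.smul_mem _ _ (semilin_smul_top_mem (theta f (n + 1)) hJ (hn x))

lemma mem_Q_iff_baseChange [Algebra S R] [Module.FaithfullyFlat S R] (D : Display3n p S P)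
    (DR : Display3n p R (BC (WittVector.map (algebraMap S R) : WittVector p S →+* WittVector p R) P)) (hDR : IsDispBaseChange (algebraMap S R) D DR) (x : P) :
    x ∈ D.Q ↔ BC.ι (WittVector.map (algebraMap S R) : WittVector p S →+* WittVector p R) P x ∈ DR.Q := by
  rw [hDR.Q_eq, LinearMap.mem_ker, BC.ι_apply, bcQuotMap_tmul, map_one]
  constructor
  · intro hx
    rw [show D.Q.mkQ x = 0 from (Submodule.Quotient.mk_eq_zero _).mpr hx, BC.tmul_zero]
  · intro h
    have hkill : ∀ (a : WittVector p S) (m : P ⧸ D.Q), a.coeff 0 = 0 → a • m = 0 := by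
      intro a m ha
      obtain ⟨y, rfl⟩ := Submodule.Quotient.mk_surjective _ m
      rw [← Submodule.Quotient.mk_smul, Submodule.Quotient.mk_eq_zero]
      exact D.IV_smul_le (Submodule.smul_mem_smul (IV_eq_ker (p := p) (R := S) ▸ ha) Submodule.mem_top)
    let : SMul S (P ⧸ D.Q) := ⟨fun s m => (teichmuller p s : WittVector p S) • m⟩
    let modS : Module S (P ⧸ D.Q) := Function.Surjective.moduleLeft
      (WittVector.constantCoeff : WittVector p S →+* S) (constantCoeff_surjective p) (fun c m => by
        change (teichmuller p (c.coeff 0) : WittVector p S) • m = c • m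
        rw [← sub_eq_zero, ← sub_smul]
        refine hkill _ m ?_
        change WittVector.constantCoeff (teichmuller p (c.coeff 0) - c) = 0
        rw [map_sub]
        exact sub_eq_zero.mpr (teichmuller_coeff_zero p _))
    let φ : (P ⧸ D.Q) →ₛₗ[(WittVector.constantCoeff : WittVector p R →+* R).comp
        (WittVector.map (algebraMap S R) : WittVector p S →+* WittVector p R)] TensorProduct S R (P ⧸ D.Q) :=
      { toFun := fun m => TensorProduct.tmul S 1 m
        map_add' := fun a b => TensorProduct.tmul_add _ a b
        map_smul' := fun c m => by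
          have : c • m = (c.coeff 0) • m := by
            change c • m = (teichmuller p (c.coeff 0) : WittVector p S) • m
            rw [← sub_eq_zero, ← sub_smul]
            refine hkill _ m ?_
            change WittVector.constantCoeff (c - teichmuller p (c.coeff 0)) = 0
            rw [map_sub]
            exact sub_eq_zero.mpr (teichmuller_coeff_zero p _).symm
          rw [this, TensorProduct.tmul_smul, ← algebraMap_smul R]
          rfl }
    have h1 := congrArg (BC.lift _ φ) h
    rw [BC.lift_tmul, one_smul, map_zero] at h1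
    have h2 : D.Q.mkQ x = 0 := Module.FaithfullyFlat.tensorProduct_mk_injective (A := S) (B := R) (P ⧸ D.Q)
      (h1.trans (TensorProduct.tmul_zero _ _).symm)
    exact (Submodule.Quotient.mk_eq_zero _).mp h2

end DispLib
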