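import Groth.Agent.DispLib.BaseChange

/-!
# Existence and uniqueness of the base change of a 3n-display
-/

namespace DispLib

open WittVector W4c1extbt610 Dieu

universe u v

section Ext

variable {p : ℕ} [Fact p.Prime] {R : Type u} [CommRing R] {P : Type v} [AddCommGroup P] [Module (WittVector p R) P]

lemma display_ext (D E : Display3n p R P) (hQ : D.Q = E.Q)
    (hV : ∀ (x : P) (hD : x ∈ D.Q) (hE : x ∈ E.Q), D.Vinv ⟨x, hD⟩ = E.Vinv ⟨x, hE⟩) : D = E := by
  have hF : D.F = E.F := LinearMap.ext fun x => by
    rw [F_eq_Vinv D, F_eq_Vinv E]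
    exact hV _ _ _
  obtain ⟨Q, F, V, _, _, _, _, _, _⟩ := D
  obtain ⟨Q', F', V', _, _, _, _, _, _⟩ := E
  obtain rfl : Q = Q' := hQ
  obtain rfl : F = F' := hF
  obtain rfl : V = V' := LinearMap.ext fun x => hV x.1 x.2 x.2
  rfl

/-- The inverse of the Verschiebung on its image. -/
noncomputable def vinvW : (IV p R) →ₛₗ[(WittVector.frobenius : WittVector p R →+* WittVector p R)] WittVector p R where
  toFun x := (mem_IV_iff.mp x.2).choose
  map_add' a b := verschiebung_injective p R (by
    rw [map_add, ← (mem_IV_iff.mp (a + b).2).choose_spec, ← (mem_IV_iff.mp a.2).choose_spec,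
      ← (mem_IV_iff.mp b.2).choose_spec]
    rfl)
  map_smul' c a := verschiebung_injective p R (by
    rw [smul_eq_mul, mul_comm, verschiebung_mul_frobenius, ← (mem_IV_iff.mp a.2).choose_spec,
      ← (mem_IV_iff.mp (c • a).2).choose_spec, mul_comm]
    rfl)

lemma vinvW_verschiebung (w : WittVector p R) (h : verschiebung w ∈ IV p R) :
    vinvW ⟨verschiebung w, h⟩ = w :=
  verschiebung_injective p R (mem_IV_iff.mp h).choose_spec.symm

end Ext

variable {p : ℕ} [Fact p.Prime] {S R : Type u} [CommRing S] [CommRing R] (f : S →+* R)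
variable {P : Type v} [AddCommGroup P] [Module (WittVector p S) P]

lemma map_verschiebung' (x : WittVector p S) :
    (WittVector.map f : WittVector p S →+* WittVector p R) (verschiebung x) =
      verschiebung ((WittVector.map f : WittVector p S →+* WittVector p R) x) :=
  (verschiebung_isPoly (p := p)).map f x

/-- The auxiliary map `y ↦ 1 ⊗ h y`. -/
noncomputable def bcSemiAux (h : P →ₛₗ[(WittVector.frobenius : WittVector p S →+* WittVector p S)] P) :
    P →ₛₗ[(WittVector.frobenius : WittVector p R →+* WittVector p R).comp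
        (WittVector.map f : WittVector p S →+* WittVector p R)]
      BC (WittVector.map f : WittVector p S →+* WittVector p R) P where
  toFun y := BC.tmul _ 1 (h y)
  map_add' a b := by rw [map_add, BC.tmul_add]
  map_smul' a b := by
    rw [map_smulₛₗ, ← BC.tmul_apply_eq, BC.tmul_eq_smul_tmul_one, map_frobenius]; rfl

/-- `w ⊗ y ↦ σ w ⊗ h y`. -/
noncomputable def bcSemi (h : P →ₛₗ[(WittVector.frobenius : WittVector p S →+* WittVector p S)] P) :
    BC (WittVector.map f : WittVector p S →+* WittVector p R) P
      →ₛₗ[(WittVector.frobenius : WittVector p R →+* WittVector p R)]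
      BC (WittVector.map f : WittVector p S →+* WittVector p R) P :=
  (BC.lift _ (bcSemiAux f h)).comp
    (BC.push (WittVector.map f : WittVector p S →+* WittVector p R)
      (WittVector.frobenius : WittVector p R →+* WittVector p R))

lemma bcSemi_tmul (h : P →ₛₗ[(WittVector.frobenius : WittVector p S →+* WittVector p S)] P)
    (w : WittVector p R) (x : P) :
    bcSemi f h (BC.tmul (WittVector.map f : WittVector p S →+* WittVector p R) w x) =
      BC.tmul (WittVector.map f : WittVector p S →+* WittVector p R) (frobenius w) (h x) := by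
  rw [bcSemi, LinearMap.comp_apply, BC.push_tmul, BC.lift_tmul]
  change _ • BC.tmul _ 1 _ = _
  rw [BC.smul_tmul, mul_one]

theorem existsUnique_baseChange (D : Display3n p S P) :
    ∃! DR : Display3n p R (BC (WittVector.map f : WittVector p S →+* WittVector p R) P),
      IsDispBaseChange f D DR := by
  obtain ⟨L, T, hLT, hQ⟩ := D.exists_normal
  have := D.finite
  have := D.projective
  obtain ⟨n, d, c, -, -, hdc⟩ := Module.Finite.exists_comp_eq_id_of_projective (WittVector p S) P
  let G := (WittVector.map f : WittVector p S →+* WittVector p R)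
  let PR := BC G P
  let πT : P →ₗ[WittVector p S] P := T.subtype ∘ₗ Submodule.projectionOnto T L hLT.symm
  let πL : P →ₗ[WittVector p S] P := L.subtype ∘ₗ Submodule.projectionOnto L T hLT
  let e : Fin n → P := fun i => d (Pi.single i 1)
  have hadd : ∀ y, πL y + πT y = y := Submodule.projection_add_projection_eq_self hLT
  have hπLQ : ∀ y, πL y ∈ D.Q := fun y => hQ ▸ Submodule.mem_sup_left (Submodule.projectionOnto L T hLT y).2
  have hsum : ∀ y, πT y = ∑ i, c (πT y) i • e i := fun y => by
    simp only [e, ← map_smul, ← map_sum, ← pi_eq_sum_univ']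
    exact (LinearMap.congr_fun hdc _).symm
  have hπT : ∀ y ∈ D.Q, ∀ i, c (πT y) i ∈ IV p S := by
    intro y hy i
    rw [hQ, Submodule.mem_sup] at hy
    obtain ⟨l, hl, t, ht, rfl⟩ := hy
    have h0 : πT l = 0 := by
      simp [πT, Submodule.projectionOnto_apply_of_mem_right hLT.symm hl]
    rw [map_add, h0, zero_add]
    refine Submodule.smul_induction_on ht (fun a ha w _ => ?_) (fun a b ha hb => ?_)
    · rw [map_smul, map_smul]; exact Ideal.mul_mem_right _ _ ha
    · rw [map_add, map_add]; exact add_mem ha hb
  let coef : Fin n → (PR →ₗ[WittVector p R] WittVector p R) := fun i =>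
    BC.lift G ((semilinearOfRingHom G).comp (LinearMap.proj i ∘ₗ c ∘ₗ πT))
  have hcoef : ∀ i w y, coef i (BC.tmul G w y) = w * G (c (πT y) i) := fun i w y => by
    simp only [coef, BC.lift_tmul, smul_eq_mul]
    rfl
  let Q' : Submodule (WittVector p R) PR := LinearMap.ker (bcQuotMap f D.Q)
  have hIV : IV p R • (⊤ : Submodule (WittVector p R) PR) ≤ Q' := by
    refine Submodule.smul_le.mpr fun a ha z _ => ?_
    rw [LinearMap.mem_ker, map_smulₛₗ]
    rw [IV_eq_ker, RingHom.mem_ker] at ha
    rw [ha, zero_smul]
  have hcoefQ : ∀ z ∈ Q', ∀ i, coef i z ∈ IV p R := by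
    intro z hz i
    let ψ : P →ₛₗ[(WittVector.constantCoeff : WittVector p R →+* R).comp G] R :=
      { toFun := fun y => WittVector.constantCoeff (G (c (πT y) i))
        map_add' := fun a b => by rw [map_add, map_add, Pi.add_apply, map_add, map_add]
        map_smul' := fun a b => by
          rw [map_smul, map_smul, Pi.smul_apply, smul_eq_mul, map_mul, map_mul]; rfl }
    have hψ : D.Q ≤ LinearMap.ker ψ := fun y hy => by
      have h1 := hπT y hy i
      rw [IV_eq_ker, RingHom.mem_ker] at h1
      change f ((c (πT y) i).coeff 0) = 0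
      rw [show (c (πT y) i).coeff 0 = 0 from h1, map_zero]
    have hfac : ∀ z, WittVector.constantCoeff (coef i z) = BC.lift _ (D.Q.liftQ ψ hψ) (bcQuotMap f D.Q z) := by
      intro z
      induction z using BC.induction_on _ with
      | zero => simp
      | add a b ha hb => simp only [map_add, ha, hb]
      | tmul w y =>
        rw [hcoef, bcQuotMap_tmul, BC.lift_tmul, smul_eq_mul, map_mul]
        rfl
    rw [IV_eq_ker, RingHom.mem_ker, hfac, LinearMap.mem_ker.mp hz, map_zero]
  -- the Frobenius and the inverse of the Verschiebung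
  let F' : PR →ₛₗ[(WittVector.frobenius : WittVector p R →+* WittVector p R)] PR := bcSemi f D.F
  have hF' : ∀ w x, F' (BC.tmul G w x) = BC.tmul G (frobenius w) (D.F x) := bcSemi_tmul f D.F
  let A : PR →ₛₗ[(WittVector.frobenius : WittVector p R →+* WittVector p R)] PR :=
    bcSemi f (D.Vinv.comp (πL.codRestrict D.Q hπLQ))
  have hA : ∀ w x, A (BC.tmul G w x) = BC.tmul G (frobenius w) (D.Vinv ⟨πL x, hπLQ x⟩) :=
    bcSemi_tmul f (D.Vinv.comp (πL.codRestrict D.Q hπLQ))
  let cQ : Fin n → (Q' →ₗ[WittVector p R] IV p R) := fun i =>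
    ((coef i).comp Q'.subtype).codRestrict (IV p R) fun z => hcoefQ z z.2 i
  let V' : Q' →ₛₗ[(WittVector.frobenius : WittVector p R →+* WittVector p R)] PR :=
    A.comp Q'.subtype +
      ∑ i, (LinearMap.toSpanSingleton (WittVector p R) PR (BC.tmul G 1 (D.F (e i)))).comp (vinvW.comp (cQ i))
  have hV' : ∀ z : Q', V' z = A z + ∑ i, vinvW ⟨coef i z, hcoefQ z z.2 i⟩ • BC.tmul G 1 (D.F (e i)) := fun z => by
    simp only [V', LinearMap.add_apply, LinearMap.sum_apply, LinearMap.comp_apply, LinearMap.toSpanSingleton_apply]
    rfl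
  have hV1 : ∀ (w : WittVector p R) (y : D.Q) (h : BC.tmul G w (y : P) ∈ Q'),
      V' ⟨_, h⟩ = BC.tmul G (frobenius w) (D.Vinv y) := by
    intro w y h
    choose b hb using fun i => mem_IV_iff.mp (hπT y y.2 i)
    have hy : y = ⟨πL y, hπLQ y⟩ + ∑ i, (⟨verschiebung (b i) • e i,
        D.IV_smul_le (Submodule.smul_mem_smul (verschiebung_mem_IV p S (b i)) Submodule.mem_top)⟩ : D.Q) := by
      apply Subtype.ext
      rw [Submodule.coe_add, Submodule.coe_sum]
      simp only [← hb, ← hsum, hadd]
    conv_rhs => rw [hy, map_add, map_sum, BC.tmul_add]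
    rw [hV']
    rw [hA]
    congr 1
    conv_rhs => rw [BC.tmul_eq_smul_tmul_one, ← BC.ι_apply, map_sum, Finset.smul_sum]
    refine Finset.sum_congr rfl fun i _ => ?_
    rw [D.Vinv_verschiebung_smul, map_smulₛₗ, smul_smul, BC.ι_apply]
    refine congrArg (fun t : WittVector p R => t • BC.tmul G 1 (D.F (e i))) ?_
    refine verschiebung_injective p R ((mem_IV_iff.mp (hcoefQ _ h i)).choose_spec.symm.trans ?_)
    change coef i (BC.tmul G w (y : P)) = _
    rw [hcoef, hb, map_verschiebung', mul_comm (frobenius w), verschiebung_mul_frobenius, mul_comm]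
  have hV2 : ∀ (w : WittVector p R) (x : P) (h : BC.tmul G (verschiebung w) x ∈ Q'),
      V' ⟨_, h⟩ = BC.tmul G w (D.F x) := by
    intro w x h
    have hFx : D.F x = D.F (πL x) + ∑ i, frobenius (c (πT x) i) • D.F (e i) := by
      conv_lhs => rw [← hadd x, hsum x, map_add, map_sum]
      exact congrArg (D.F (πL x) + ·) (Finset.sum_congr rfl fun i _ => by rw [map_smulₛₗ])
    rw [hFx, BC.tmul_add]
    rw [hV']
    rw [hA]
    congr 1
    · have := F_mem_Q D ⟨πL x, hπLQ x⟩
      rw [this, ← BC.tmul_mul_apply, map_natCast, ← frobenius_verschiebung]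
    · conv_rhs => rw [BC.tmul_eq_smul_tmul_one, ← BC.ι_apply, map_sum, Finset.smul_sum]
      refine Finset.sum_congr rfl fun i _ => ?_
      rw [map_smulₛₗ, smul_smul, BC.ι_apply]
      refine congrArg (fun t : WittVector p R => t • BC.tmul G 1 (D.F (e i))) ?_
      refine verschiebung_injective p R ((mem_IV_iff.mp (hcoefQ _ h i)).choose_spec.symm.trans ?_)
      change coef i (BC.tmul G (verschiebung w) x) = _
      rw [hcoef, map_frobenius, verschiebung_mul_frobenius]
  have hmemV : ∀ w x, BC.tmul G (verschiebung w) x ∈ Q' := fun w x => by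
    rw [BC.tmul_eq_smul_tmul_one]
    exact hIV (Submodule.smul_mem_smul (verschiebung_mem_IV p R w) Submodule.mem_top)
  -- finiteness
  let dR := Fintype.linearCombination (WittVector p R) (fun i => BC.tmul G 1 (e i))
  let cR : PR →ₗ[WittVector p R] Fin n → WittVector p R :=
    LinearMap.pi fun i => BC.lift G ((semilinearOfRingHom G).comp (LinearMap.proj i ∘ₗ c))
  have hdcR : dR ∘ₗ cR = LinearMap.id := BC.ext G fun y => by
    have hy : y = ∑ i, c y i • e i := by
      simp only [e, ← map_smul, ← map_sum, ← pi_eq_sum_univ']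
      exact (LinearMap.congr_fun hdc _).symm
    conv_rhs => rw [LinearMap.id_apply, hy, ← BC.ι_apply, map_sum]
    rw [LinearMap.comp_apply, Fintype.linearCombination_apply]
    refine Finset.sum_congr rfl fun i _ => ?_
    rw [map_smulₛₗ, LinearMap.pi_apply, BC.lift_tmul, one_smul, BC.ι_apply]
    rfl
  have hmap : ∀ (a : P →ₗ[WittVector p S] P), (∀ y, a (a y) = a y) → ∀ z, BC.map G a (BC.map G a z) = BC.map G a z := by
    intro a ha z
    induction z using BC.induction_on _ with
    | zero => simp
    | add x y hx hy => simp only [map_add, hx, hy]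
    | tmul w y => simp [ha]
  have hLL : ∀ y, πL (πL y) = πL y := fun y => by
    simp [πL, Submodule.projectionOnto_apply_left hLT]
  have hTT : ∀ y, πT (πT y) = πT y := fun y => by
    simp [πT, Submodule.projectionOnto_apply_left hLT.symm]
  have hLT0 : ∀ y, πL (πT y) = 0 := fun y => by
    simp [πL, πT, Submodule.projectionOnto_apply_right hLT]
  have hTL0 : ∀ y, πT (πL y) = 0 := fun y => by
    simp [πL, πT, Submodule.projectionOnto_apply_right hLT.symm]
  have hsplit : ∀ z, BC.map G πL z + BC.map G πT z = z := by
    intro z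
    induction z using BC.induction_on _ with
    | zero => simp
    | add x y hx hy => simp only [map_add]; rw [add_add_add_comm, hx, hy]
    | tmul w y => rw [BC.map_tmul, BC.map_tmul, ← BC.tmul_add, hadd]
  have hTdec : ∀ z, BC.map G πT z = ∑ i, coef i z • BC.tmul G 1 (πT (e i)) := by
    intro z
    induction z using BC.induction_on _ with
    | zero => simp
    | add x y hx hy => simp only [map_add, hx, hy, add_smul, Finset.sum_add_distrib]
    | tmul w y =>
      rw [BC.map_tmul]
      conv_lhs => rw [← hTT y, hsum y, map_sum, BC.tmul_eq_smul_tmul_one, ← BC.ι_apply, map_sum, Finset.smul_sum]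
      refine Finset.sum_congr rfl fun i _ => ?_
      rw [map_smul, map_smulₛₗ, smul_smul, hcoef, BC.ι_apply]
  let DR : Display3n p R PR :=
    { Q := Q', F := F', Vinv := V'
      finite := Module.Finite.of_surjective dR fun z => ⟨cR z, LinearMap.congr_fun hdcR z⟩
      projective := Module.Projective.of_split cR dR hdcR
      IV_smul_le := hIV
      exists_normal := by
        refine ⟨LinearMap.range (BC.map G πL), LinearMap.range (BC.map G πT), ⟨?_, ?_⟩, ?_⟩
        · rw [disjoint_iff, eq_bot_iff]
          rintro _ ⟨⟨a, rfl⟩, b, hb⟩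
          rw [Submodule.mem_bot, ← hmap πL hLL a, ← hb]
          clear hb
          induction b using BC.induction_on _ with
          | zero => simp
          | add x y hx hy => simp only [map_add, hx, hy, add_zero]
          | tmul w y => rw [BC.map_tmul, BC.map_tmul, hLT0, BC.tmul_zero]
        · rw [codisjoint_iff, eq_top_iff]
          exact fun z _ => Submodule.mem_sup.mpr ⟨_, ⟨z, rfl⟩, _, ⟨z, rfl⟩, hsplit z⟩
        · refine le_antisymm (fun z hz => ?_) (sup_le ?_ (le_trans (Submodule.smul_mono le_rfl le_top) hIV))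
          · refine Submodule.mem_sup.mpr ⟨_, ⟨z, rfl⟩, _, ?_, hsplit z⟩
            rw [hTdec]
            refine Submodule.sum_mem _ fun i _ => Submodule.smul_mem_smul (hcoefQ z hz i) ⟨BC.tmul G 1 (e i), ?_⟩
            rw [BC.map_tmul]
          · rintro _ ⟨z, rfl⟩
            induction z using BC.induction_on _ with
            | zero => simp [Q']
            | add x y hx hy => rw [map_add]; exact add_mem hx hy
            | tmul w y =>
              rw [BC.map_tmul, LinearMap.mem_ker, bcQuotMap_tmul,
                show D.Q.mkQ (πL y) = 0 from (Submodule.Quotient.mk_eq_zero _).mpr (hπLQ y), BC.tmul_zero]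
      span_range_Vinv := by
        rw [eq_top_iff]
        rintro z -
        induction z using BC.induction_on _ with
        | zero => exact Submodule.zero_mem _
        | add x y hx hy => exact add_mem hx hy
        | tmul w y =>
          rw [BC.tmul_eq_smul_tmul_one]
          refine Submodule.smul_mem _ _ ?_
          have hy : y ∈ Submodule.span (WittVector p S) (Set.range D.Vinv) := D.span_range_Vinv ▸ Submodule.mem_top
          induction hy using Submodule.span_induction with
          | mem x hx =>
            obtain ⟨q, rfl⟩ := hx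
            have hm : BC.tmul G 1 (q : P) ∈ Q' := by
              rw [LinearMap.mem_ker, bcQuotMap_tmul,
                show D.Q.mkQ (q : P) = 0 from (Submodule.Quotient.mk_eq_zero _).mpr q.2, BC.tmul_zero]
            refine Submodule.subset_span ⟨⟨_, hm⟩, ?_⟩
            rw [hV1, map_one]
          | zero => rw [BC.tmul_zero]; exact Submodule.zero_mem _
          | add a b _ _ ha hb => rw [BC.tmul_add]; exact add_mem ha hb
          | smul a b _ hb =>
            rw [← BC.tmul_apply_eq, BC.tmul_eq_smul_tmul_one]
            exact Submodule.smul_mem _ _ hb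
      Vinv_verschiebung_smul := fun w x => by
        have hm : ∀ z, verschiebung w • z ∈ Q' := fun z =>
          hIV (Submodule.smul_mem_smul (verschiebung_mem_IV p R w) Submodule.mem_top)
        suffices ∀ z, V' ⟨verschiebung w • z, hm z⟩ = w • F' z from this x
        intro z
        induction z using BC.induction_on _ with
        | zero =>
          have e1 : (⟨verschiebung w • (0 : PR), hm 0⟩ : Q') = 0 := Subtype.ext (smul_zero _)
          rw [e1, map_zero, map_zero, smul_zero]
        | add a b ha hb =>
          have e1 : (⟨verschiebung w • (a + b), hm (a + b)⟩ : Q') = ⟨_, hm a⟩ + ⟨_, hm b⟩ :=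
            Subtype.ext (smul_add _ a b)
          rw [e1, map_add, ha, hb, map_add, smul_add]
        | tmul u y =>
          have e1 : (⟨verschiebung w • BC.tmul G u y, hm (BC.tmul G u y)⟩ : Q') =
              ⟨BC.tmul G (verschiebung (w * frobenius u)) y, hmemV _ _⟩ :=
            Subtype.ext ((BC.smul_tmul G _ _ _).trans
              (congrArg (fun t => BC.tmul G t y) (verschiebung_mul_frobenius _ _).symm))
          rw [e1, hV2, hF', BC.smul_tmul] }
  have hDR : IsDispBaseChange f D DR := ⟨rfl, hF', hV1, hV2⟩
  refine ⟨DR, hDR, fun E hE => display_ext E DR hE.Q_eq fun x hxE hxD => ?_⟩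
  have hle : DR.Q ≤ (LinearMap.eqLocus (E.Vinv.comp (Submodule.inclusion (le_of_eq hE.Q_eq.symm))) V').map Q'.subtype := by
    refine le_trans (Q_le_span f D DR hDR) (sup_le (Submodule.span_le.mpr ?_) ?_)
    · rintro _ ⟨y, rfl⟩
      have hm : BC.tmul G 1 (y : P) ∈ Q' := by
        rw [LinearMap.mem_ker, bcQuotMap_tmul,
          show D.Q.mkQ (y : P) = 0 from (Submodule.Quotient.mk_eq_zero _).mpr y.2, BC.tmul_zero]
      refine ⟨⟨_, hm⟩, ?_, rfl⟩
      rw [SetLike.mem_coe, LinearMap.mem_eqLocus, LinearMap.comp_apply]
      exact (hE.Vinv_tmul 1 y _).trans (hV1 1 y hm).symm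
    · refine Submodule.smul_le.mpr fun a ha z hzt => ?_
      obtain ⟨u, rfl⟩ := mem_IV_iff.mp ha
      have hm : verschiebung u • z ∈ Q' :=
        hIV (Submodule.smul_mem_smul (verschiebung_mem_IV p R u) Submodule.mem_top)
      refine ⟨⟨_, hm⟩, ?_, rfl⟩
      rw [SetLike.mem_coe, LinearMap.mem_eqLocus, LinearMap.comp_apply]
      have hEF : E.F z = F' z := by
        clear hm hzt
        induction z using BC.induction_on _ with
        | zero => simp
        | add a b ha hb => rw [map_add, map_add, ha, hb]
        | tmul w y => rw [hE.F_tmul, hF']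
      exact (E.Vinv_verschiebung_smul u z).trans ((congrArg (u • ·) hEF).trans (DR.Vinv_verschiebung_smul u z).symm)
  obtain ⟨⟨x', _⟩, hx', e'⟩ := hle hxD
  obtain rfl : x' = x := e'
  exact hx'

end DispLib
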