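import Groth.Prelude.Def_W4c1extbt610Disp
import Groth.Prelude.Def_Disp2
import Mathlib.RingTheory.WittVector.Complete
import Mathlib.RingTheory.WittVector.Truncated
import Mathlib.RingTheory.Finiteness.Basic
import Mathlib.LinearAlgebra.Basis.Prod
import Mathlib.RingTheory.OrzechProperty

/-!
# Displays: basic lemmas
-/

namespace DispLib

open WittVector W4c1extbt610

universe u v w

variable {p : ℕ} [Fact p.Prime] {R : Type u} [CommRing R]

local notation "σ" => (WittVector.frobenius : WittVector p R →+* WittVector p R)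

/-- `V (σ x) = V 1 * x`. -/
lemma verschiebung_frob (x : WittVector p R) :
    verschiebung (frobenius x) = verschiebung 1 * x := by
  rw [← verschiebung_mul_frobenius, one_mul]

lemma frobenius_verschiebung_one : frobenius (verschiebung (1 : WittVector p R)) = p := by
  rw [frobenius_verschiebung, one_mul]

lemma mem_IV_iff {x : WittVector p R} : x ∈ IV p R ↔ ∃ w, x = verschiebung w := by
  refine ⟨fun h => ?_, ?_⟩
  · induction h using Submodule.span_induction with
    | mem x hx => obtain ⟨w, rfl⟩ := hx; exact ⟨w, rfl⟩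
    | zero => exact ⟨0, (map_zero _).symm⟩
    | add a b _ _ ha hb =>
      obtain ⟨w, rfl⟩ := ha
      obtain ⟨w', rfl⟩ := hb
      exact ⟨w + w', (map_add _ _ _).symm⟩
    | smul a b _ hb =>
      obtain ⟨w, rfl⟩ := hb
      exact ⟨w * frobenius a, by rw [verschiebung_mul_frobenius, smul_eq_mul, mul_comm]⟩
  · rintro ⟨w, rfl⟩
    exact verschiebung_mem_IV p R w

lemma IV_eq_ker : IV p R = RingHom.ker (WittVector.constantCoeff : WittVector p R →+* R) := by
  ext x
  rw [mem_IV_iff, RingHom.mem_ker]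
  constructor
  · rintro ⟨w, rfl⟩
    exact verschiebung_coeff_zero w
  · intro h
    obtain ⟨y, hy⟩ : ∃ y, x = verschiebung^[1] y :=
      ⟨_, WittVector.eq_iterate_verschiebung (n := 1) (fun i hi => by
        obtain rfl : i = 0 := by omega
        exact h)⟩
    exact ⟨y, hy⟩

variable {P : Type v} [AddCommGroup P] [Module (WittVector p R) P]

lemma v1_smul_mem (D : Display3n p R P) (x : P) : verschiebung (1 : WittVector p R) • x ∈ D.Q :=
  D.IV_smul_le (Submodule.smul_mem_smul (verschiebung_mem_IV p R 1) Submodule.mem_top)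

lemma F_eq_Vinv (D : Display3n p R P) (x : P) :
    D.F x = D.Vinv ⟨verschiebung (1 : WittVector p R) • x, v1_smul_mem D x⟩ := by
  rw [D.Vinv_verschiebung_smul 1 x, one_smul]

lemma F_mem_Q (D : Display3n p R P) (y : D.Q) : D.F y = (p : WittVector p R) • D.Vinv y := by
  have e : D.Vinv (verschiebung (1 : WittVector p R) • y) = (p : WittVector p R) • D.Vinv y := by
    rw [map_smulₛₗ, frobenius_verschiebung_one]
  rw [F_eq_Vinv, ← e]
  rfl

lemma bilin_relations {P₁ : Type v} [AddCommGroup P₁] [Module (WittVector p R) P₁]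
    {P₂ : Type w} [AddCommGroup P₂] [Module (WittVector p R) P₂]
    (D₁ : Display3n p R P₁) (D₂ : Display3n p R P₂)
    (B : P₁ →ₗ[WittVector p R] P₂ →ₗ[WittVector p R] WittVector p R)
    (hB : ∀ (y₁ : D₁.Q) (y₂ : D₂.Q),
      verschiebung (B (D₁.Vinv y₁) (D₂.Vinv y₂)) = B (y₁ : P₁) (y₂ : P₂)) :
    (∀ (y₁ : D₁.Q) (x₂ : P₂), B (D₁.Vinv y₁) (D₂.F x₂) = frobenius (B (y₁ : P₁) x₂)) ∧
      (∀ (x₁ : P₁) (x₂ : P₂),
        B (D₁.F x₁) (D₂.F x₂) = (p : WittVector p R) * frobenius (B x₁ x₂)) ∧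
      (∀ (x₁ : P₁) (y₂ : D₂.Q), B (D₁.F x₁) (D₂.Vinv y₂) = frobenius (B x₁ (y₂ : P₂))) ∧
      ∀ (y₁ : D₁.Q) (y₂ : D₂.Q), B (y₁ : P₁) (y₂ : P₂) ∈ IV p R := by
  refine ⟨fun y₁ x₂ => ?_, fun x₁ x₂ => ?_, fun x₁ y₂ => ?_, fun y₁ y₂ => ?_⟩
  · refine verschiebung_injective p R ?_
    rw [F_eq_Vinv, hB, verschiebung_frob]
    simp
  · refine verschiebung_injective p R ?_
    rw [F_eq_Vinv D₁, F_eq_Vinv D₂, hB]
    rw [show (p : WittVector p R) * frobenius (B x₁ x₂) = frobenius (verschiebung 1 * B x₁ x₂) by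
      rw [map_mul, frobenius_verschiebung_one], verschiebung_frob]
    simp
  · refine verschiebung_injective p R ?_
    rw [F_eq_Vinv, hB, verschiebung_frob]
    simp
  · rw [← hB y₁ y₂]
    exact verschiebung_mem_IV p R _

lemma span_Vinv_F (D : Display3n p R P) (L T : Submodule (WittVector p R) P)
    (hQ : D.Q = L ⊔ IV p R • T) (hLQ : L ≤ D.Q) {ιL ιT : Type w}
    (bL : Module.Basis ιL (WittVector p R) L) (bT : Module.Basis ιT (WittVector p R) T) :
    Submodule.span (WittVector p R)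
      (Set.range (Sum.elim (fun i : ιL => D.Vinv ⟨(bL i : P), hLQ (bL i).2⟩) (fun j : ιT => D.F (bT j : P)))) = ⊤ := by
  set S := Submodule.span (WittVector p R)
      (Set.range (Sum.elim (fun i : ιL => D.Vinv ⟨(bL i : P), hLQ (bL i).2⟩) (fun j : ιT => D.F (bT j : P))))
  have hL' : ∀ l : L, D.Vinv ⟨(l : P), hLQ l.2⟩ ∈ S := fun l => by
    have h : Submodule.inclusion hLQ l ∈ S.comap D.Vinv := by
      have : (⊤ : Submodule (WittVector p R) L) ≤ (S.comap D.Vinv).comap (Submodule.inclusion hLQ) := by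
        rw [← bL.span_eq, Submodule.span_le]
        rintro _ ⟨i, rfl⟩
        exact Submodule.subset_span ⟨Sum.inl i, rfl⟩
      exact this Submodule.mem_top
    exact h
  have hT' : ∀ t : T, D.F t ∈ S := fun t => by
    have : (⊤ : Submodule (WittVector p R) T) ≤ (S.comap D.F).comap T.subtype := by
      rw [← bT.span_eq, Submodule.span_le]
      rintro _ ⟨i, rfl⟩
      exact Submodule.subset_span ⟨Sum.inr i, rfl⟩
    exact this (Submodule.mem_top (x := t))
  refine eq_top_iff.mpr ?_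
  rw [← D.span_range_Vinv, Submodule.span_le]
  rintro _ ⟨q, rfl⟩
  have hle : D.Q ≤ (S.comap D.Vinv).map D.Q.subtype := by
    nth_rewrite 1 [hQ]
    refine sup_le (fun x hx => ⟨⟨x, hLQ hx⟩, hL' ⟨x, hx⟩, rfl⟩) (Submodule.smul_le.mpr fun w hw t ht => ?_)
    obtain ⟨v, rfl⟩ := mem_IV_iff.mp hw
    refine ⟨⟨verschiebung v • t,
      D.IV_smul_le (Submodule.smul_mem_smul (verschiebung_mem_IV p R v) Submodule.mem_top)⟩, ?_, rfl⟩
    change D.Vinv _ ∈ S
    rw [D.Vinv_verschiebung_smul]
    exact S.smul_mem _ (hT' ⟨t, ht⟩)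
  obtain ⟨q', hq', e⟩ := hle q.2
  obtain rfl : q' = q := Subtype.ext e
  exact hq'

lemma linearIndependent_of_span_eq_top {A M : Type*} {ι : Type*} [CommRing A] [AddCommGroup M] [Module A M]
    [Module.Finite A M] (b : Module.Basis ι A M) (v : ι → M) (h : Submodule.span A (Set.range v) = ⊤) :
    LinearIndependent A v := by
  have hs : Function.Surjective (b.constr A v) := by
    rw [← LinearMap.range_eq_top, Module.Basis.constr_range, h]
  have hinj := OrzechProperty.injective_of_surjective_endomorphism (b.constr A v) hs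
  have := b.linearIndependent.map' (b.constr A v) (LinearMap.ker_eq_bot.mpr hinj)
  simpa [Function.comp_def] using this

lemma linearIndependent_span_Vinv_F (D : Display3n p R P) (L T : Submodule (WittVector p R) P)
    (hLT : IsCompl L T) (hQ : D.Q = L ⊔ IV p R • T) (hLQ : L ≤ D.Q) {ιL ιT : Type w}
    (bL : Module.Basis ιL (WittVector p R) L) (bT : Module.Basis ιT (WittVector p R) T) :
    LinearIndependent (WittVector p R)
        (Sum.elim (fun i : ιL => D.Vinv ⟨(bL i : P), hLQ (bL i).2⟩) (fun j : ιT => D.F (bT j : P))) ∧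
      Submodule.span (WittVector p R)
        (Set.range (Sum.elim (fun i : ιL => D.Vinv ⟨(bL i : P), hLQ (bL i).2⟩) (fun j : ιT => D.F (bT j : P)))) = ⊤ :=
  have := D.finite
  ⟨linearIndependent_of_span_eq_top ((bL.prod bT).map (Submodule.prodEquivOfIsCompl L T hLT)) _
    (span_Vinv_F D L T hQ hLQ bL bT), span_Vinv_F D L T hQ hLQ bL bT⟩

/-! ### exterior powers -/

lemma isAltMult_ιMulti (D : Display3n p R P) (r : ℕ) (E : Display3n p R (⋀[WittVector p R]^r P))
    (hE : IsExtPow D r E) : IsAltMult D E (exteriorPower.ιMulti (WittVector p R) r) := by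
  have hm : ∀ q : Fin r → D.Q, exteriorPower.ιMulti (WittVector p R) r (fun i => (q i : P)) ∈ E.Q :=
    fun q => hE.1 ▸ Submodule.subset_span ⟨q, rfl⟩
  refine ⟨hm, fun q => hE.2 q _, fun i x q => ?_⟩
  set q' : Fin r → D.Q := Function.update q i ⟨verschiebung (1 : WittVector p R) • x, v1_smul_mem D x⟩
  have e1 : (fun j => (q' j : P)) = Function.update (fun j => (q j : P)) i (verschiebung (1 : WittVector p R) • x) := by
    funext j
    rcases eq_or_ne j i with rfl | h
    · simp [q']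
    · simp [q', Function.update_of_ne h]
  have e2 : (fun j => D.Vinv (q' j)) = Function.update (fun j => D.Vinv (q j)) i (D.F x) := by
    funext j
    rcases eq_or_ne j i with rfl | h
    · simp [q', F_eq_Vinv D x]
    · simp [q', Function.update_of_ne h]
  rw [F_eq_Vinv E, ← e2, ← hE.2 q' (hm q')]
  congr 1
  apply Subtype.ext
  change verschiebung (1 : WittVector p R) • exteriorPower.ιMulti (WittVector p R) r _ =
    exteriorPower.ιMulti (WittVector p R) r (fun i => (q' i : P))
  rw [e1, AlternatingMap.map_update_smul]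

lemma extPow_universal (D : Display3n p R P) (r : ℕ) (E : Display3n p R (⋀[WittVector p R]^r P))
    (hE : IsExtPow D r E) (P' : Type w) [AddCommGroup P'] [Module (WittVector p R) P']
    (D' : Display3n p R P') (φ : P [⋀^Fin r]→ₗ[WittVector p R] P') (hφ : IsAltMult D D' φ) :
    ∃! ψ : ⋀[WittVector p R]^r P →ₗ[WittVector p R] P',
      IsHom E D' ψ ∧ ψ.compAlternatingMap (exteriorPower.ιMulti (WittVector p R) r) = φ := by
  set ψ := exteriorPower.alternatingMapLinearEquiv φ
  have hcomp : ψ.compAlternatingMap (exteriorPower.ιMulti (WittVector p R) r) = φ :=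
    exteriorPower.alternatingMapLinearEquiv_comp_ιMulti φ
  have happ : ∀ v, ψ (exteriorPower.ιMulti (WittVector p R) r v) = φ v := fun v =>
    exteriorPower.alternatingMapLinearEquiv_apply_ιMulti φ v
  have hmap : ∀ q, q ∈ E.Q → ψ q ∈ D'.Q := by
    intro q hq
    rw [hE.1] at hq
    refine (Submodule.span_le (p := D'.Q.comap ψ)).mpr ?_ hq
    rintro _ ⟨v, rfl⟩
    change ψ _ ∈ D'.Q
    rw [happ]
    exact hφ.mapsTo v
  have hV : ∀ q : E.Q, ψ (E.Vinv q) = D'.Vinv ⟨ψ q, hmap q q.2⟩ := by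
    rintro ⟨q, hq⟩
    have hq' := hq
    rw [hE.1] at hq'
    induction hq' using Submodule.span_induction with
    | mem x hx =>
      obtain ⟨v, rfl⟩ := hx
      rw [hE.2 v hq, happ, ← hφ.vCond v]
      exact congrArg D'.Vinv (Subtype.ext (happ _).symm)
    | zero =>
      have e1 : (⟨0, hq⟩ : E.Q) = 0 := rfl
      have e2 : (⟨ψ 0, hmap 0 hq⟩ : D'.Q) = 0 := Subtype.ext (map_zero ψ)
      rw [e1, map_zero, map_zero]
      exact (map_zero D'.Vinv).symm.trans (congrArg D'.Vinv e2.symm)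
    | add a b ha hb iha ihb =>
      have ha' : a ∈ E.Q := hE.1 ▸ ha
      have hb' : b ∈ E.Q := hE.1 ▸ hb
      have e1 : (⟨a + b, hq⟩ : E.Q) = ⟨a, ha'⟩ + ⟨b, hb'⟩ := rfl
      rw [e1, map_add, map_add, iha ha', ihb hb', ← map_add]
      exact congrArg D'.Vinv (Subtype.ext (map_add ψ a b).symm)
    | smul c a ha iha =>
      have ha' : a ∈ E.Q := hE.1 ▸ ha
      have e1 : (⟨c • a, hq⟩ : E.Q) = c • ⟨a, ha'⟩ := rfl
      rw [e1, map_smulₛₗ, map_smul, iha ha', ← map_smulₛₗ]
      exact congrArg D'.Vinv (Subtype.ext (map_smul ψ c a).symm)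
  refine ⟨ψ, ⟨⟨hmap, fun x => ?_, hV⟩, hcomp⟩, fun ψ' h => ?_⟩
  · rw [F_eq_Vinv E, hV, F_eq_Vinv D']
    exact congrArg D'.Vinv (Subtype.ext (map_smul ψ _ x))
  · refine exteriorPower.linearMap_ext ?_
    rw [h.2, hcomp]

/-! ### `V^#` -/

lemma lift_F_comp_vSharp (D : Display3n p R P) (Vs : P →ₗ[WittVector p R] Dieu.BC σ P)
    (hVs : Dieu.IsVSharp D Vs) :
    (Dieu.BC.lift σ D.F).comp Vs = (p : WittVector p R) • LinearMap.id ∧
      Vs.comp (Dieu.BC.lift σ D.F) = (p : WittVector p R) • LinearMap.id := by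
  constructor
  · refine LinearMap.ext_on_range D.span_range_Vinv fun y => ?_
    have := hVs.app_smul_Vinv 1 y
    rw [one_smul] at this
    rw [LinearMap.comp_apply, this, Dieu.BC.lift_tmul, one_smul, F_mem_Q]
    rfl
  · refine Dieu.BC.ext σ fun x => ?_
    rw [LinearMap.comp_apply, Dieu.BC.lift_tmul, hVs.app_smul_F]
    rfl

end DispLib
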