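import Groth.Agent.DispLib.Perfect
import Groth.Prelude.Def_Disp2
import Mathlib.Tactic.NoncommRing

/-!
# The display of a Dieudonné module over a perfect ring
-/

namespace DispLib

open WittVector W4c1extbt610

universe u v

variable {p : ℕ} [Fact p.Prime] {k : Type u} [CommRing k] [CharP k p] [PerfectRing k p]
variable {M : Type v} [AddCommGroup M] [Module (WittVector p k) M]
  [Module.Finite (WittVector p k) M] [Module.Projective (WittVector p k) M]

lemma p_smul_cancel {x y : M} (h : (p : WittVector p k) • x = (p : WittVector p k) • y) : x = y :=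
  sub_eq_zero.mp (torsion_free (p := p) (k := k) (by rw [smul_sub, h, sub_self]))

lemma eq_zero_of_forall_pow_dvd {x : M} (h : ∀ i : ℕ, ∃ y, x = (p : WittVector p k) ^ i • y) : x = 0 := by
  obtain ⟨n, f, g, -, hg, -⟩ := Module.Finite.exists_comp_eq_id_of_projective (WittVector p k) M
  refine hg ?_
  rw [map_zero]
  funext r
  refine IsHausdorff.haus (I := Ideal.span {(p : WittVector p k)}) inferInstance _ fun i => ?_
  obtain ⟨y, rfl⟩ := h i
  rw [SModEq.zero, map_smul, Pi.smul_apply, Ideal.span_singleton_pow, smul_eq_mul,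
    smul_eq_mul, Ideal.mul_top]
  exact Ideal.mem_span_singleton.mpr (dvd_mul_right _ _)

lemma smul_mul_smul_mul {A B : Type*} [CommRing A] [Ring B] [Algebra A B] (a : A) (u w : B) :
    (a • u) * (a • u) * w = (a * a) • (u * u * w) := by
  rw [smul_mul_smul_comm, smul_mul_assoc]

lemma exists_idempotent_lift (e₀ : Module.End (WittVector p k) M)
    (he : ∀ m, e₀ (e₀ m) - e₀ m ∈ Ideal.span {(p : WittVector p k)} • (⊤ : Submodule (WittVector p k) M)) :
    ∃ e : Module.End (WittVector p k) M, (∀ m, e (e m) = e m) ∧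
      ∀ m, e m - e₀ m ∈ Ideal.span {(p : WittVector p k)} • (⊤ : Submodule (WittVector p k) M) := by
  obtain ⟨x₀, hx₀⟩ : ∃ x : Module.End (WittVector p k) M, e₀ * e₀ - e₀ = (p : WittVector p k) • x := by
    choose y hy using fun m => mem_pM_iff.mp (he m)
    refine ⟨{ toFun := y, map_add' := fun a b => ?_, map_smul' := fun c a => ?_ }, LinearMap.ext fun m => hy m⟩
    · refine p_smul_cancel (p := p) (k := k) ?_
      rw [← hy, smul_add, ← hy, ← hy]
      simp only [map_add]
      abel
    · refine p_smul_cancel (p := p) (k := k) ?_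
      rw [← hy, RingHom.id_apply, smul_comm, ← hy]
      simp only [map_smul, smul_sub]
  let ee : ℕ → Module.End (WittVector p k) M := fun i =>
    Nat.rec e₀ (fun _ e => 3 • (e * e) - 2 • (e * e * e)) i
  have key : ∀ i, ∃ x, ee i * ee i - ee i = (p : WittVector p k) ^ (i + 1) • x := by
    intro i
    induction i with
    | zero => exact ⟨x₀, by rw [zero_add, pow_one]; exact hx₀⟩
    | succ i ih =>
      obtain ⟨x, hx⟩ := ih
      have e1 : ee (i + 1) * ee (i + 1) - ee (i + 1) =
          (ee i * ee i - ee i) * (ee i * ee i - ee i) * (4 • (ee i * ee i - ee i) - 3 • 1) := by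
        have hpoly : ∀ X : Polynomial (WittVector p k),
            (3 • (X * X) - 2 • (X * X * X)) * (3 • (X * X) - 2 • (X * X * X)) - (3 • (X * X) - 2 • (X * X * X)) =
              (X * X - X) * (X * X - X) * (4 • (X * X - X) - 3 • 1) := fun X => by
          simp only [nsmul_eq_mul, Nat.cast_ofNat]
          ring
        have e := congrArg (Polynomial.aeval (ee i)) (hpoly Polynomial.X)
        simp only [map_sub, map_mul, map_nsmul, map_one, Polynomial.aeval_X] at e
        exact e
      rw [hx] at e1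
      refine ⟨(p : WittVector p k) ^ i • (x * x * (4 • ((p : WittVector p k) ^ (i + 1) • x) - 3 • 1)), ?_⟩
      rw [e1, smul_mul_smul_mul, smul_smul]
      exact congrArg (fun t : WittVector p k => t • _) (by ring)
  have step : ∀ i, ∃ x, ee (i + 1) - ee i = (p : WittVector p k) ^ (i + 1) • x := by
    intro i
    obtain ⟨x, hx⟩ := key i
    refine ⟨x * (1 - 2 • ee i), ?_⟩
    rw [← smul_mul_assoc, ← hx]
    change 3 • (ee i * ee i) - 2 • (ee i * ee i * ee i) - ee i = _
    noncomm_ring
  obtain ⟨n, f, g, -, -, hfg⟩ := Module.Finite.exists_comp_eq_id_of_projective (WittVector p k) M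
  let a : ℕ → Fin n → Fin n → WittVector p k := fun i r c => g (ee i (f (Pi.single c 1))) r
  have hpow : ∀ i, Ideal.span {(p : WittVector p k)} ^ i • (⊤ : Submodule (WittVector p k) (WittVector p k)) =
      Ideal.span {(p : WittVector p k) ^ i} := fun i => by
    rw [Ideal.span_singleton_pow, smul_eq_mul, Ideal.mul_top]
  have hcau : ∀ r c, ∀ {i j : ℕ}, i ≤ j → a i r c ≡ a j r c
      [SMOD (Ideal.span {(p : WittVector p k)} ^ i • ⊤ : Submodule (WittVector p k) (WittVector p k))] := by
    intro r c i j hij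
    rw [SModEq.sub_mem, hpow, Ideal.mem_span_singleton]
    induction j, hij using Nat.le_induction with
    | base => rw [sub_self]; exact dvd_zero _
    | succ j hj ih =>
      obtain ⟨x, hx⟩ := step j
      have : (p : WittVector p k) ^ i ∣ a (j + 1) r c - a j r c := by
        have e := congrArg (fun T : Module.End (WittVector p k) M => g (T (f (Pi.single c 1))) r) hx
        simp only [LinearMap.sub_apply, map_sub, Pi.sub_apply, LinearMap.smul_apply, map_smul,
          Pi.smul_apply, smul_eq_mul] at e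
        exact e ▸ Dvd.dvd.mul_right (pow_dvd_pow _ (by omega)) _
      have := dvd_sub ih this
      rwa [sub_sub_sub_cancel_right] at this
  choose A hA using fun r c => IsPrecomplete.prec
    (inferInstance : IsPrecomplete (Ideal.span {(p : WittVector p k)}) (WittVector p k)) (hcau r c)
  let E : Module.End (WittVector p k) M :=
    f ∘ₗ Fintype.linearCombination (WittVector p k) (fun c r => A r c) ∘ₗ g
  have hE : ∀ i m, ∃ y, E m - ee i m = (p : WittVector p k) ^ i • y := by
    intro i m
    have hd : ∀ r c, ∃ z, A r c - a i r c = (p : WittVector p k) ^ i * z := fun r c => by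
      have := (SModEq.sub_mem.mp (hA r c i).symm)
      rw [hpow, Ideal.mem_span_singleton] at this
      exact this
    choose z hz using hd
    refine ⟨f (∑ c, g m c • fun r => z r c), ?_⟩
    have e1 : ee i m = f (∑ c, g m c • fun r => a i r c) := by
      have e2 : ∀ m, f (g m) = m := LinearMap.congr_fun hfg
      conv_lhs => rw [← e2 (ee i m), ← e2 m, pi_eq_sum_univ' (g m)]
      simp only [map_sum, map_smul]
      refine Finset.sum_congr rfl fun c _ => ?_
      rfl
    rw [e1]
    change f (Fintype.linearCombination _ _ (g m)) - _ = _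
    rw [Fintype.linearCombination_apply, ← map_sub, ← map_smul, ← Finset.sum_sub_distrib, Finset.smul_sum]
    refine congrArg f (Finset.sum_congr rfl fun c _ => ?_)
    rw [← smul_sub, smul_comm]
    refine congrArg (fun t => g m c • t) (funext fun r => ?_)
    exact hz r c
  refine ⟨E, fun m => sub_eq_zero.mp (eq_zero_of_forall_pow_dvd (p := p) (k := k) fun i => ?_), fun m => ?_⟩
  · obtain ⟨y, hy⟩ := hE i m
    obtain ⟨y', hy'⟩ := hE i (E m)
    obtain ⟨x, hx⟩ := key i
    have hx' := LinearMap.congr_fun hx m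
    simp only [LinearMap.sub_apply, Module.End.mul_apply, LinearMap.smul_apply] at hx'
    refine ⟨y' + ee i y + (p : WittVector p k) • x m - y, ?_⟩
    rw [smul_sub, smul_add, smul_add, smul_smul, ← pow_succ, ← map_smul, ← hy', ← hy, ← hx', map_sub]
    abel
  · obtain ⟨y, hy⟩ := hE 1 m
    obtain ⟨x, hx⟩ := step 0
    refine mem_pM_iff.mpr ⟨y + x m, ?_⟩
    have hx' := LinearMap.congr_fun hx m
    simp only [LinearMap.sub_apply, LinearMap.smul_apply, zero_add, pow_one] at hx' hy
    rw [smul_add, ← hy, ← hx']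
    abel

variable (F : M →ₛₗ[(WittVector.frobenius : WittVector p k →+* WittVector p k)] M)
  (V : M →ₛₗ[((WittVector.frobeniusEquiv p k).symm : WittVector p k →+* WittVector p k)] M)

/-- The image of `V`. -/
def imV : Submodule (WittVector p k) M where
  carrier := Set.range V
  add_mem' := by rintro _ _ ⟨a, rfl⟩ ⟨b, rfl⟩; exact ⟨a + b, map_add V a b⟩
  zero_mem' := ⟨0, map_zero V⟩
  smul_mem' := by
    rintro c _ ⟨a, rfl⟩
    exact ⟨frobenius c • a, by rw [map_smulₛₗ, frob_symm]⟩

include F in
lemma exists_normal_of_dieudonne (hFV : ∀ m : M, F (V m) = (p : WittVector p k) • m)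
    (hVF : ∀ m : M, V (F m) = (p : WittVector p k) • m) :
    ∃ L T : Submodule (WittVector p k) M, IsCompl L T ∧ imV V = L ⊔ IV p k • T := by
  obtain ⟨h1, h2⟩ := reduction_of_projective (p := p) (k := k) (M := M)
  obtain ⟨h, hh⟩ := exists_retraction_V F V hFV hVF (fun m hm => by
    rw [torsion_free hm]; exact Submodule.zero_mem _)
  let S := Submodule.span (WittVector p k ⧸ Ideal.span {(p : WittVector p k)})
    (Set.range fun m : M => (Ideal.span {(p : WittVector p k)} • (⊤ : Submodule (WittVector p k) M)).mkQ (V m))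
  have hS : ∀ z ∈ S, ∃ u, (Ideal.span {(p : WittVector p k)} • (⊤ : Submodule (WittVector p k) M)).mkQ (V u) = z := by
    intro z hz
    induction hz using Submodule.span_induction with
    | mem x hx => exact hx
    | zero => exact ⟨0, by rw [map_zero, map_zero]⟩
    | add a b _ _ ha hb =>
      obtain ⟨u, rfl⟩ := ha
      obtain ⟨u', rfl⟩ := hb
      exact ⟨u + u', by rw [map_add, map_add]⟩
    | smul a b _ hb =>
      obtain ⟨u, rfl⟩ := hb
      obtain ⟨a, rfl⟩ := Ideal.Quotient.mk_surjective a
      refine ⟨frobenius a • u, ?_⟩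
      rw [map_smulₛₗ, frob_symm]
      rfl
  let π := (Ideal.span {(p : WittVector p k)} • (⊤ : Submodule (WittVector p k) M)).mkQ
  obtain ⟨e₀, he₀⟩ := Module.projective_lifting_property π
    (((S.subtype ∘ₗ h).restrictScalars (WittVector p k)) ∘ₗ π) (Submodule.mkQ_surjective _)
  have hh' : ∀ s : S, h s = s := LinearMap.congr_fun hh
  have he₀' : ∀ m, π (e₀ m) = (h (π m) : _) := LinearMap.congr_fun he₀
  obtain ⟨e, he, hee₀⟩ := exists_idempotent_lift e₀ fun m => by
    rw [← Submodule.Quotient.mk_eq_zero]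
    change π (e₀ (e₀ m) - e₀ m) = 0
    rw [map_sub, he₀', he₀', hh', sub_self]
  have hπe : ∀ m, π (e m) = (h (π m) : _) := fun m => by
    rw [← he₀', ← sub_eq_zero, ← map_sub]
    exact (Submodule.Quotient.mk_eq_zero _).mpr (hee₀ m)
  have hsplit : ∀ m, m - e m ∈ LinearMap.ker e := fun m => by
    rw [LinearMap.mem_ker, map_sub, he, sub_self]
  refine ⟨LinearMap.range e, LinearMap.ker e, ⟨?_, ?_⟩, le_antisymm ?_ (sup_le ?_ ?_)⟩
  · rw [disjoint_iff, eq_bot_iff]
    rintro _ ⟨⟨m, rfl⟩, h0⟩
    rw [SetLike.mem_coe, LinearMap.mem_ker, he] at h0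
    rw [Submodule.mem_bot, h0]
  · rw [codisjoint_iff, eq_top_iff]
    intro m _
    exact Submodule.mem_sup.mpr ⟨e m, ⟨m, rfl⟩, m - e m, hsplit m, add_sub_cancel _ _⟩
  · rintro _ ⟨u, rfl⟩
    have hmem : π (V u) ∈ S := Submodule.subset_span ⟨u, rfl⟩
    have : π (V u - e (V u)) = 0 := by
      rw [map_sub, hπe]
      exact sub_eq_zero.mpr (congrArg Subtype.val (hh' ⟨_, hmem⟩)).symm
    obtain ⟨y, hy⟩ := mem_pM_iff.mp ((Submodule.Quotient.mk_eq_zero _).mp this)
    have hy0 : y ∈ LinearMap.ker e := by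
      refine p_smul_cancel (p := p) (k := k) ?_
      rw [smul_zero, ← map_smul, ← hy]
      exact hsplit (V u)
    refine Submodule.mem_sup.mpr ⟨e (V u), ⟨V u, rfl⟩, (p : WittVector p k) • y, ?_, ?_⟩
    · exact Submodule.smul_mem_smul (IV_eq_span_p (p := p) (k := k) ▸ Ideal.mem_span_singleton_self _) hy0
    · rw [← hy, add_sub_cancel]
  · rintro _ ⟨m, rfl⟩
    obtain ⟨u, hu⟩ := hS _ (h (π m)).2
    obtain ⟨y, hy⟩ := mem_pM_iff.mp ((Submodule.Quotient.eq _).mp ((hπe m).trans hu.symm))
    exact ⟨u + F y, by rw [map_add, hVF, ← hy, add_sub_cancel]⟩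
  · rw [IV_eq_span_p]
    refine le_trans (Submodule.smul_mono le_rfl le_top) fun x hx => ?_
    obtain ⟨y, rfl⟩ := mem_pM_iff.mp hx
    exact ⟨F y, hVF y⟩

include F in
lemma exists_display_of_dieudonne (hFV : ∀ m : M, F (V m) = (p : WittVector p k) • m)
    (hVF : ∀ m : M, V (F m) = (p : WittVector p k) • m) :
    ∃ D : Display3n p k M,
      D.F = F ∧ (∀ x : M, x ∈ D.Q ↔ x ∈ Set.range V) ∧
        ∀ (m : M) (h : V m ∈ D.Q), D.Vinv ⟨V m, h⟩ = m := by
  have hinj : Function.Injective V := fun a b hab =>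
    p_smul_cancel (p := p) (k := k) (by rw [← hFV, hab, hFV])
  choose vi hvi using fun q : imV V => q.2
  have hvV : ∀ m (h : V m ∈ imV V), vi ⟨V m, h⟩ = m := fun m h => hinj (hvi _)
  let Vinv : imV V →ₛₗ[(WittVector.frobenius : WittVector p k →+* WittVector p k)] M :=
    { toFun := vi
      map_add' := fun a b => hinj (by rw [hvi, map_add, hvi, hvi]; rfl)
      map_smul' := fun c a => hinj (by rw [hvi, map_smulₛₗ, frob_symm, hvi]; rfl) }
  refine ⟨{ Q := imV V, F := F, Vinv := Vinv, finite := inferInstance, projective := inferInstance,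
            IV_smul_le := ?_, exists_normal := exists_normal_of_dieudonne F V hFV hVF,
            span_range_Vinv := ?_, Vinv_verschiebung_smul := ?_ }, rfl, fun x => Iff.rfl, hvV⟩
  · rw [IV_eq_span_p]
    intro x hx
    obtain ⟨y, rfl⟩ := mem_pM_iff.mp hx
    exact ⟨F y, hVF y⟩
  · rw [eq_top_iff]
    exact fun m _ => Submodule.subset_span ⟨⟨V m, m, rfl⟩, hvV m _⟩
  · intro w x
    refine hinj ?_
    change V (vi _) = _
    rw [hvi, map_smulₛₗ, hVF, smul_smul]
    change verschiebung w • x = _
    rw [verschiebung_eq_p_mul, mul_comm]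

/-! ### nilpotence -/

omit [Module.Finite (WittVector p k) M] [Module.Projective (WittVector p k) M] in
lemma pow_frob_natCast (N : ℕ) :
    ((WittVector.frobenius : WittVector p k →+* WittVector p k) ^ N) (p : WittVector p k) = p := map_natCast _ _

lemma pow_frob_bijective (N : ℕ) :
    Function.Bijective ⇑((WittVector.frobenius : WittVector p k →+* WittVector p k) ^ N) := by
  rw [RingHom.coe_pow]
  exact (frobenius_bijective p k).iterate N

lemma tmul_one_mem_iff (N : ℕ) (y : M) :
    Dieu.BC.tmul ((WittVector.frobenius : WittVector p k →+* WittVector p k) ^ N) 1 y ∈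
        (Ideal.span {(p : WittVector p k)}) • (⊤ : Submodule (WittVector p k)
          (Dieu.BC ((WittVector.frobenius : WittVector p k →+* WittVector p k) ^ N) M)) ↔
      y ∈ (Ideal.span {(p : WittVector p k)}) • (⊤ : Submodule (WittVector p k) M) := by
  constructor
  · intro h
    obtain ⟨n, f, g, -, -, hfg⟩ := Module.Finite.exists_comp_eq_id_of_projective (WittVector p k) M
    rw [ExactProj.mem_smul_of_coord g f hfg]
    intro i
    have h' := Submodule.mem_map_of_mem (f := Dieu.BC.lift _
      ((Dieu.semilinearOfRingHom ((WittVector.frobenius : WittVector p k →+* WittVector p k) ^ N)).comp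
        (LinearMap.proj i ∘ₗ g))) h
    rw [Submodule.map_smul'', Dieu.BC.lift_tmul, one_smul] at h'
    have h'' := Submodule.smul_mono (le_refl _) (le_top (a := Submodule.map _ _)) h'
    rw [smul_eq_mul, Ideal.mul_top] at h''
    change _ ∈ Ideal.span {(p : WittVector p k)} at h''
    rw [Ideal.mem_span_singleton] at h'' ⊢
    obtain ⟨c, hc⟩ := h''
    obtain ⟨c, rfl⟩ := (pow_frob_bijective (p := p) (k := k) N).2 c
    refine ⟨c, (pow_frob_bijective (p := p) (k := k) N).1 ?_⟩
    rw [map_mul, pow_frob_natCast]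
    exact hc
  · intro h
    obtain ⟨z, rfl⟩ := mem_pM_iff.mp h
    rw [← Dieu.BC.tmul_apply_eq, Dieu.BC.tmul_eq_smul_tmul_one, pow_frob_natCast]
    exact Submodule.smul_mem_smul (Ideal.mem_span_singleton_self _) Submodule.mem_top

lemma isDisplay_iff_vTopNilp (Dm : Dieu.DieuMod p k M) (D : Display3n p k M)
    (hF : D.F = Dm.F) (hQ : ∀ x : M, x ∈ D.Q ↔ x ∈ Set.range Dm.V)
    (hV : ∀ (m : M) (h : Dm.V m ∈ D.Q), D.Vinv ⟨Dm.V m, h⟩ = m) :
    Dieu.IsDisplay D ↔ Dm.VTopNilp := by
  let Vs₀ : M →ₗ[WittVector p k] Dieu.BC (WittVector.frobenius : WittVector p k →+* WittVector p k) M :=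
    { toFun := fun x => Dieu.BC.tmul _ 1 (Dm.V x)
      map_add' := fun a b => by rw [map_add, Dieu.BC.tmul_add]
      map_smul' := fun c a => by
        rw [map_smulₛₗ, ← Dieu.BC.tmul_apply_eq, frob_apply_symm, Dieu.BC.tmul_eq_smul_tmul_one]; rfl }
  have hsharp : Dieu.IsVSharp D Vs₀ := by
    refine ⟨fun w x => ?_, fun w y => ?_⟩
    · rw [map_smul, hF]
      change w • Dieu.BC.tmul _ 1 (Dm.V (Dm.F x)) = _
      rw [Dm.V_F, ← Dieu.BC.tmul_apply_eq, map_natCast, Dieu.BC.smul_tmul, Dieu.BC.smul_tmul, mul_comm]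
    · obtain ⟨y, hy⟩ := y
      obtain ⟨m, rfl⟩ := (hQ y).mp hy
      rw [map_smul, hV]
      change w • Dieu.BC.tmul _ 1 (Dm.V m) = _
      rw [Dieu.BC.smul_tmul, mul_one]
  have hiter : ∀ n x, Dieu.vSharpPow Vs₀ n x =
      Dieu.BC.tmul ((WittVector.frobenius : WittVector p k →+* WittVector p k) ^ (n + 1)) 1
        ((⇑Dm.V)^[n + 1] x) := by
    intro n
    induction n with
    | zero =>
      intro x
      rw [Dieu.vSharpPow_zero_apply]
      change Dieu.BC.castHom _ (Dieu.BC.tmul _ 1 (Dm.V x)) = _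
      rw [Dieu.BC.castHom_tmul]
      rfl
    | succ n ih =>
      intro x
      rw [Dieu.vSharpPow_succ_apply, Function.iterate_succ_apply]
      change Dieu.BC.castHom _ (Dieu.BC.lift _ _ (Dieu.BC.map _ _ (Dieu.BC.tmul _ 1 (Dm.V x)))) = _
      rw [Dieu.BC.map_tmul, ih, Dieu.BC.lift_tmul, one_smul, Dieu.BC.push_tmul, map_one, Dieu.BC.castHom_tmul]
  constructor
  · rintro ⟨Vs, hVs, n, hn⟩
    have hVV : Vs = Vs₀ := LinearMap.ext_on_range D.span_range_Vinv fun y => by
      have h1 := hVs.app_smul_Vinv 1 y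
      have h2 := hsharp.app_smul_Vinv 1 y
      rw [one_smul] at h1 h2
      rw [h1, h2]
    subst hVV
    have h1 : ∀ x, (⇑Dm.V)^[n + 1] x ∈ Ideal.span {(p : WittVector p k)} • (⊤ : Submodule (WittVector p k) M) := by
      intro x
      have := hn x
      rw [hiter, IV_eq_span_p, sup_idem] at this
      exact (tmul_one_mem_iff (n + 1) _).mp this
    intro e
    refine ⟨(n + 1) * e, fun m => ?_⟩
    have hpe : ∀ (j : ℕ) (y : M), (⇑Dm.V)^[j] ((p : WittVector p k) • y) = (p : WittVector p k) • (⇑Dm.V)^[j] y := by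
      intro j
      induction j with
      | zero => intro y; rfl
      | succ j ih => intro y; rw [Function.iterate_succ_apply, V_p_smul, ih, ← Function.iterate_succ_apply]
    suffices ∀ e m, ∃ y, (⇑Dm.V)^[(n + 1) * e] m = (p : WittVector p k) ^ e • y by
      obtain ⟨y, hy⟩ := this e m
      rw [hy, Ideal.span_singleton_pow]
      exact Submodule.smul_mem_smul (Ideal.mem_span_singleton_self _) Submodule.mem_top
    intro e
    induction e with
    | zero => exact fun m => ⟨m, by simp⟩
    | succ e ih =>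
      intro m
      obtain ⟨y, hy⟩ := mem_pM_iff.mp (h1 m)
      obtain ⟨y', hy'⟩ := ih y
      refine ⟨y', ?_⟩
      rw [Nat.mul_succ, Function.iterate_add_apply, hy, hpe, hy', smul_smul, pow_succ']
  · intro h
    obtain ⟨n, hn⟩ := h 1
    refine ⟨Vs₀, hsharp, n, fun x => ?_⟩
    rw [hiter, IV_eq_span_p, sup_idem, tmul_one_mem_iff, Function.iterate_succ_apply]
    simpa using hn (Dm.V x)

end DispLib
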