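import Mathlib.LinearAlgebra.Basis.VectorSpace
import Mathlib.LinearAlgebra.Matrix.Charpoly.LinearMap
import Mathlib.RingTheory.Finiteness.Projective
import Mathlib.RingTheory.Ideal.Operations
import Mathlib.RingTheory.Ideal.Maximal
import Mathlib.RingTheory.Ideal.Quotient.Operations
import Mathlib.Algebra.Module.Projective
import Mathlib.Algebra.Algebra.Tower
import Mathlib.RingTheory.Nilpotent.Lemmas
import Mathlib.Algebra.Module.Torsion.Basic

/-!
# An exact periodic semilinear complex over a perfect ring has projective images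
-/

namespace DispLib.ExactProj

universe u v

variable {A : Type u} [CommRing A] {M : Type v} [AddCommGroup M] [Module A M]

lemma mem_smul_of_coord {n : ℕ} (c : M →ₗ[A] Fin n → A) (d : (Fin n → A) →ₗ[A] M)
    (hcd : d ∘ₗ c = LinearMap.id) (J : Ideal A) (m : M) :
    m ∈ J • (⊤ : Submodule A M) ↔ ∀ i, c m i ∈ J := by
  constructor
  · intro h i
    refine Submodule.smul_induction_on h (fun a ha x _ => ?_) (fun x y hx hy => ?_)
    · rw [map_smul]; exact J.mul_mem_right _ ha
    · rw [map_add]; exact J.add_mem hx hy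
  · intro h
    rw [show m = d (c m) from (LinearMap.congr_fun hcd m).symm, pi_eq_sum_univ (c m), map_sum]
    refine Submodule.sum_mem _ fun i _ => ?_
    rw [map_smul]
    exact Submodule.smul_mem_smul (h i) Submodule.mem_top

lemma smul_mem_of_pow_smul_mem [Module.Finite A M] [Module.Projective A M] {J : Ideal A} (hJ : J.IsRadical)
    {a : A} {k : ℕ} {m : M} (h : a ^ k • m ∈ J • (⊤ : Submodule A M)) :
    a • m ∈ J • (⊤ : Submodule A M) := by
  obtain ⟨n, d, c, -, -, hcd⟩ := Module.Finite.exists_comp_eq_id_of_projective A M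
  rw [mem_smul_of_coord c d hcd] at h ⊢
  intro i
  refine hJ ⟨k + 1, ?_⟩
  have e : (c (a • m) i) ^ (k + 1) = c (a ^ k • m) i * (a * (c m i) ^ k) := by
    simp only [map_smul, Pi.smul_apply, smul_eq_mul]
    ring
  rw [e]
  exact J.mul_mem_right _ (h i)

lemma map_smul_top_mem (e : A ≃+* A) (f : M →+ M) (hf : ∀ a x, f (a • x) = e a • f x)
    {J : Ideal A} (he : ∀ a, a ∈ J → e a ∈ J) {m : M} (h : m ∈ J • (⊤ : Submodule A M)) :
    f m ∈ J • (⊤ : Submodule A M) :=
  Submodule.smul_induction_on h (fun a ha x _ => by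
    rw [hf]; exact Submodule.smul_mem_smul (he a ha) Submodule.mem_top)
    (fun x y hx hy => by rw [map_add]; exact add_mem hx hy)

/-- Exactness of the periodic complex modulo `J`. -/
def Exact2 (f v : M →+ M) (J : Ideal A) : Prop :=
  (∀ m, f m ∈ J • (⊤ : Submodule A M) → ∃ x, m - v x ∈ J • (⊤ : Submodule A M)) ∧
    (∀ m, v m ∈ J • (⊤ : Submodule A M) → ∃ x, m - f x ∈ J • (⊤ : Submodule A M))

lemma exact_step_half [Module.Finite A M] [Module.Projective A M] (p : ℕ) (hp : 2 ≤ p)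
    (hsub : ∀ x y : A, (x - y) ^ p = x ^ p - y ^ p) (root : ∀ a : A, ∃ r, r ^ p = a) (e : A ≃+* A)
    (he : ∀ J : Ideal A, J.IsRadical → ∀ a, e a ∈ J ↔ a ∈ J)
    (f v : M →+ M) (hf : ∀ a x, f (a • x) = e a • f x) (hv : ∀ a x, v (a • x) = e.symm a • v x)
    (hvf : ∀ m, v (f m) = 0) {J : Ideal A} (hJ : J.IsRadical) (h : Exact2 f v J) (a : A) (m : M)
    (hm : f m ∈ (J ⊔ Ideal.span {a}).radical • (⊤ : Submodule A M)) :
    ∃ x, m - v x ∈ (J ⊔ Ideal.span {a}).radical • (⊤ : Submodule A M) := by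
  obtain ⟨n, d, c, -, -, hcd⟩ := Module.Finite.exists_comp_eq_id_of_projective A M
  set J' := (J ⊔ Ideal.span {a}).radical with hJ'
  have hJJ' : J ≤ J' := le_sup_left.trans Ideal.le_radical
  have heJ : ∀ x, x ∈ J → e x ∈ J := fun x hx => (he J hJ x).mpr hx
  have heJ' : ∀ x, x ∈ J → e.symm x ∈ J := fun x hx => (he J hJ _).mp (by simpa using hx)
  -- a root of `a` deep enough
  have hN : ∀ i, ∃ N, (c (f m) i) ^ N ∈ J ⊔ Ideal.span {a} := fun i =>
    (mem_smul_of_coord c d hcd J' (f m)).mp hm i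
  choose N hN using hN
  obtain ⟨E, hE⟩ : ∃ E : ℕ, ∀ i, N i ≤ p ^ E := by
    refine ⟨Finset.univ.sup N, fun i => (Finset.le_sup (Finset.mem_univ i)).trans ?_⟩
    exact (Nat.lt_pow_self hp).le
  have roots : ∀ (k : ℕ) (x : A), ∃ r, r ^ (p ^ k) = x := by
    intro k
    induction k with
    | zero => exact fun x => ⟨x, by simp⟩
    | succ k ih =>
      intro x
      obtain ⟨r, hr⟩ := root x
      obtain ⟨r', hr'⟩ := ih r
      exact ⟨r', by rw [pow_succ, pow_mul, hr', hr]⟩
  obtain ⟨r, hr⟩ := roots (E + 1) a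
  -- coordinates
  have key : ∀ i, ∃ j ∈ J, ∃ t, c (f m) i = j + r ^ p * t := by
    intro i
    have h1 : (c (f m) i) ^ (p ^ E) ∈ J ⊔ Ideal.span {a} := Ideal.pow_mem_of_pow_mem _ (hN i) (hE i)
    obtain ⟨j, hj, y, hy, hjy⟩ := Submodule.mem_sup.mp h1
    obtain ⟨t, rfl⟩ := Ideal.mem_span_singleton.mp hy
    obtain ⟨t', rfl⟩ := roots E t
    refine ⟨c (f m) i - r ^ p * t', hJ ⟨p ^ E, ?_⟩, t', by ring⟩
    have hsubE : ∀ (k : ℕ) (x y : A), (x - y) ^ (p ^ k) = x ^ (p ^ k) - y ^ (p ^ k) := by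
      intro k
      induction k with
      | zero => intro x y; simp
      | succ k ih => intro x y; rw [pow_succ, pow_mul, pow_mul, pow_mul, ih, hsub]
    rw [hsubE, mul_pow, ← pow_mul, ← pow_succ', hr, ← hjy]
    simpa using hj
  choose j hj t ht using key
  set u := d t with hu
  have hfm : f m - r ^ p • u ∈ J • (⊤ : Submodule A M) := by
    have : f m - r ^ p • u = d j := by
      have e1 : f m = d (c (f m)) := (LinearMap.congr_fun hcd _).symm
      rw [e1, show c (f m) = j + r ^ p • t from funext ht, map_add, map_smul, hu, add_sub_cancel_right]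
    rw [this, pi_eq_sum_univ j, map_sum]
    refine Submodule.sum_mem _ fun i _ => ?_
    rw [map_smul]
    exact Submodule.smul_mem_smul (hj i) Submodule.mem_top
  have hvu : v (r • u) ∈ J • (⊤ : Submodule A M) := by
    rw [hv]
    refine smul_mem_of_pow_smul_mem hJ (k := p) ?_
    have h2 := map_smul_top_mem e.symm v hv heJ' hfm
    rw [map_sub, hvf, zero_sub, Submodule.neg_mem_iff, hv, map_pow] at h2
    exact h2
  obtain ⟨z, hz⟩ := h.2 _ hvu
  set c' := e.symm (r ^ (p - 1)) with hc'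
  have h3 : f (m - c' • z) ∈ J • (⊤ : Submodule A M) := by
    rw [map_sub, hf, hc', RingEquiv.apply_symm_apply]
    have e2 : f m - r ^ (p - 1) • f z = (f m - r ^ p • u) + r ^ (p - 1) • (r • u - f z) := by
      rw [smul_sub, smul_smul, ← pow_succ, Nat.sub_add_cancel (by omega)]
      abel
    rw [e2]
    exact add_mem hfm (Submodule.smul_mem _ _ hz)
  obtain ⟨x, hx⟩ := h.1 _ h3
  refine ⟨x, ?_⟩
  have e3 : m - v x = (m - c' • z - v x) + c' • z := by abel
  rw [e3]
  refine add_mem (Submodule.smul_mono_left hJJ' hx) (Submodule.smul_mem_smul ?_ Submodule.mem_top)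
  refine (he J' (Ideal.radical_isRadical _) c').mp ?_
  rw [hc', RingEquiv.apply_symm_apply]
  refine Ideal.pow_mem_of_mem _ (Ideal.radical_isRadical (J ⊔ Ideal.span {a}) ⟨p ^ (E + 1), ?_⟩) _ (by omega)
  rw [hr]
  exact Ideal.le_radical (le_sup_right (a := J) (Ideal.subset_span rfl))

lemma exact2_radical [Module.Finite A M] [Module.Projective A M] [IsReduced A] (p : ℕ) (hp : 2 ≤ p)
    (hsub : ∀ x y : A, (x - y) ^ p = x ^ p - y ^ p) (root : ∀ a : A, ∃ r, r ^ p = a) (e : A ≃+* A)
    (he : ∀ J : Ideal A, J.IsRadical → ∀ a, e a ∈ J ↔ a ∈ J)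
    (f v : M →+ M) (hf : ∀ a x, f (a • x) = e a • f x) (hv : ∀ a x, v (a • x) = e.symm a • v x)
    (hfv : ∀ m, f (v m) = 0) (hvf : ∀ m, v (f m) = 0)
    (h1 : ∀ m, f m = 0 → ∃ x, v x = m) (h2 : ∀ m, v m = 0 → ∃ x, f x = m)
    {J : Ideal A} (hJ : J.IsRadical) : Exact2 f v J := by
  classical
  have main : ∀ s : Finset A, (∀ a ∈ s, a ∈ J) → ∃ J₀ : Ideal A, J₀.IsRadical ∧ (↑s : Set A) ⊆ J₀ ∧
      J₀ ≤ J ∧ Exact2 f v J₀ := by
    intro s
    induction s using Finset.induction with
    | empty =>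
      intro _
      refine ⟨⊥, fun x hx => ?_, by simp, bot_le, ?_, ?_⟩
      · obtain ⟨k, hk⟩ := hx
        exact IsNilpotent.eq_zero ⟨k, hk⟩
      · intro m hm
        rw [Submodule.bot_smul, Submodule.mem_bot] at hm
        obtain ⟨x, rfl⟩ := h1 m hm
        exact ⟨x, by simp⟩
      · intro m hm
        rw [Submodule.bot_smul, Submodule.mem_bot] at hm
        obtain ⟨x, rfl⟩ := h2 m hm
        exact ⟨x, by simp⟩
    | insert a s _ ih =>
      intro hs
      obtain ⟨J₀, hr₀, hs₀, hle, hx⟩ := ih fun b hb => hs b (Finset.mem_insert_of_mem hb)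
      refine ⟨(J₀ ⊔ Ideal.span {a}).radical, Ideal.radical_isRadical _, ?_, ?_, ?_, ?_⟩
      · intro b hb
        rw [Finset.coe_insert] at hb
        rcases hb with rfl | hb
        · exact Ideal.le_radical (le_sup_right (a := J₀) (Ideal.subset_span rfl))
        · exact Ideal.le_radical (le_sup_left (b := Ideal.span {a}) (hs₀ hb))
      · refine hJ.radical_le_iff.mpr (sup_le hle ?_)
        rw [Ideal.span_le, Set.singleton_subset_iff]
        exact hs a (Finset.mem_insert_self a s)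
      · exact fun m hm => exact_step_half p hp hsub root e he f v hf hv hvf hr₀ hx a m hm
      · refine fun m hm => exact_step_half p hp hsub root e.symm (fun K hK b => ?_) v f hv hf hfv hr₀
          ⟨hx.2, hx.1⟩ a m hm
        simpa using (he K hK (e.symm b)).symm
  obtain ⟨n, d, c, -, -, hcd⟩ := Module.Finite.exists_comp_eq_id_of_projective A M
  have small : ∀ y : M, y ∈ J • (⊤ : Submodule A M) →
      ∃ J₀ : Ideal A, J₀ ≤ J ∧ Exact2 f v J₀ ∧ y ∈ J₀ • (⊤ : Submodule A M) := by
    intro y hy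
    rw [mem_smul_of_coord c d hcd] at hy
    obtain ⟨J₀, -, hs₀, hle, hx⟩ := main (Finset.univ.image fun i => c y i) (fun a ha => by
      obtain ⟨i, -, rfl⟩ := Finset.mem_image.mp ha
      exact hy i)
    exact ⟨J₀, hle, hx, (mem_smul_of_coord c d hcd _ _).mpr fun i =>
      hs₀ (Finset.mem_coe.mpr (Finset.mem_image_of_mem _ (Finset.mem_univ i)))⟩
  constructor
  · intro m hm
    obtain ⟨J₀, hle, hx, hy⟩ := small _ hm
    obtain ⟨x, hx'⟩ := hx.1 m hy
    exact ⟨x, Submodule.smul_mono_left hle hx'⟩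
  · intro m hm
    obtain ⟨J₀, hle, hx, hy⟩ := small _ hm
    obtain ⟨x, hx'⟩ := hx.2 m hy
    exact ⟨x, Submodule.smul_mono_left hle hx'⟩

/-- A finitely generated submodule of a projective module which is pure at every maximal ideal is a
direct summand. -/
lemma exists_retraction [Module.Projective A M] (S : Submodule A M) [Module.Finite A S]
    (hS : ∀ m : Ideal A, m.IsMaximal → ∀ x ∈ S, x ∈ m • (⊤ : Submodule A M) → x ∈ m • S) :
    ∃ h : M →ₗ[A] S, h ∘ₗ S.subtype = LinearMap.id := by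
  let I : Ideal A :=
    { carrier := {r | ∃ h : M →ₗ[A] S, h ∘ₗ S.subtype = r • LinearMap.id}
      zero_mem' := ⟨0, by simp⟩
      add_mem' := by
        rintro a b ⟨ha, ea⟩ ⟨hb, eb⟩
        exact ⟨ha + hb, by rw [LinearMap.add_comp, ea, eb, add_smul]⟩
      smul_mem' := by
        rintro a b ⟨hb, eb⟩
        exact ⟨a • hb, by rw [LinearMap.smul_comp, eb, smul_eq_mul, mul_smul]⟩ }
  suffices htop : I = ⊤ by
    obtain ⟨h, hh⟩ := (I.eq_top_iff_one.mp htop : (1 : A) ∈ I)
    exact ⟨h, by rw [hh, one_smul]⟩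
  by_contra hne
  obtain ⟨𝔪, h𝔪, hle⟩ := Ideal.exists_le_maximal I hne
  let := Ideal.Quotient.field 𝔪
  let ι : (S ⧸ 𝔪 • (⊤ : Submodule A S)) →ₗ[A] (M ⧸ 𝔪 • (⊤ : Submodule A M)) :=
    Submodule.mapQ _ _ S.subtype (by
      rw [← Submodule.map_le_iff_le_comap, Submodule.map_smul'']
      exact Submodule.smul_mono le_rfl le_top)
  have hι : LinearMap.ker ι = ⊥ := by
    rw [LinearMap.ker_eq_bot']
    intro z hz
    obtain ⟨x, rfl⟩ := Submodule.Quotient.mk_surjective _ z
    change Submodule.Quotient.mk (x : M) = 0 at hz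
    rw [Submodule.Quotient.mk_eq_zero] at hz ⊢
    exact (Submodule.mem_smul_top_iff 𝔪 S x).mpr (hS 𝔪 h𝔪 x x.2 hz)
  have hsurj : Function.Surjective (algebraMap A (A ⧸ 𝔪)) := Ideal.Quotient.mk_surjective
  let ιK : (S ⧸ 𝔪 • (⊤ : Submodule A S)) →ₗ[A ⧸ 𝔪] (M ⧸ 𝔪 • (⊤ : Submodule A M)) :=
    ι.extendScalarsOfSurjective hsurj
  obtain ⟨gK, hgK⟩ := ιK.exists_leftInverse_of_injective (by
    exact LinearMap.ker_eq_bot.mpr (fun a b hab => LinearMap.ker_eq_bot.mp hι hab))
  let g : M →ₗ[A] (S ⧸ 𝔪 • (⊤ : Submodule A S)) :=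
    (gK.restrictScalars A) ∘ₗ Submodule.mkQ _
  obtain ⟨h, hh⟩ := Module.projective_lifting_property (Submodule.mkQ (𝔪 • (⊤ : Submodule A S))) g
    (Submodule.mkQ_surjective _)
  let T : Module.End A S := LinearMap.id - h ∘ₗ S.subtype
  have hT : LinearMap.range T ≤ 𝔪 • (⊤ : Submodule A S) := by
    rintro _ ⟨x, rfl⟩
    rw [← Submodule.Quotient.mk_eq_zero]
    change Submodule.Quotient.mk (x - h x) = 0
    rw [Submodule.Quotient.mk_sub, sub_eq_zero]
    have e := LinearMap.congr_fun hh (x : M)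
    change Submodule.Quotient.mk (h (x : M)) = g (x : M) at e
    rw [e]
    exact (LinearMap.congr_fun hgK (Submodule.Quotient.mk x)).symm
  obtain ⟨P, hmon, -, hcoef, hP⟩ :=
    LinearMap.exists_monic_and_natDegree_eq_and_coeff_mem_pow_and_aeval_eq_zero A T 𝔪 hT
  have hr : P.eval 1 ∉ 𝔪 := by
    intro hmem
    rw [Polynomial.eval_eq_sum_range, Finset.sum_range_succ] at hmem
    simp only [one_pow, mul_one] at hmem
    have hsum : ∑ k ∈ Finset.range P.natDegree, P.coeff k ∈ 𝔪 := Ideal.sum_mem _ fun k hk =>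
      Ideal.pow_le_self (by have := Finset.mem_range.mp hk; omega) (hcoef k)
    rw [Ideal.add_mem_iff_right _ hsum, hmon.coeff_natDegree] at hmem
    exact h𝔪.ne_top (𝔪.eq_top_iff_one.mpr hmem)
  refine hr (hle ?_)
  obtain ⟨Q, hQ⟩ := Polynomial.X_sub_C_dvd_sub_C_eval (a := (1 : A)) (p := P)
  have e : Polynomial.aeval T Q * (T - 1) = -(P.eval 1 • (1 : Module.End A S)) := by
    have := congrArg (Polynomial.aeval T) hQ
    simp only [map_sub, hP, Polynomial.aeval_C, map_mul, Polynomial.aeval_X, map_one,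
      Algebra.algebraMap_eq_smul_one, one_smul, zero_sub] at this
    rw [this]
    have e := ((Commute.all Q (Polynomial.X - 1)).map (Polynomial.aeval T)).eq
    simp only [map_sub, Polynomial.aeval_X, map_one] at e
    exact e
  refine ⟨Polynomial.aeval T Q ∘ₗ h, ?_⟩
  refine LinearMap.ext fun x => ?_
  have e2 := LinearMap.congr_fun e x
  simp only [Module.End.mul_apply, LinearMap.sub_apply, Module.End.one_apply, LinearMap.neg_apply,
    LinearMap.smul_apply] at e2
  have e3 : T x - x = -(h (x : M)) := by simp [T]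
  rw [e3, map_neg, neg_inj] at e2
  exact e2

lemma exists_retraction_of_exact [Module.Finite A M] [Module.Projective A M] [IsReduced A] (p : ℕ) (hp : 2 ≤ p)
    (hsub : ∀ x y : A, (x - y) ^ p = x ^ p - y ^ p) (root : ∀ a : A, ∃ r, r ^ p = a) (e : A ≃+* A)
    (he : ∀ J : Ideal A, J.IsRadical → ∀ a, e a ∈ J ↔ a ∈ J)
    (f v : M →+ M) (hf : ∀ a x, f (a • x) = e a • f x) (hv : ∀ a x, v (a • x) = e.symm a • v x)
    (hfv : ∀ m, f (v m) = 0) (hvf : ∀ m, v (f m) = 0)
    (h1 : ∀ m, f m = 0 → ∃ x, v x = m) (h2 : ∀ m, v m = 0 → ∃ x, f x = m) :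
    ∃ h : M →ₗ[A] (Submodule.span A (Set.range v)),
      h ∘ₗ (Submodule.span A (Set.range v)).subtype = LinearMap.id := by
  set S := Submodule.span A (Set.range v)
  have hrange : ∀ x ∈ S, ∃ u, v u = x := by
    intro x hx
    induction hx using Submodule.span_induction with
    | mem x hx => exact hx
    | zero => exact ⟨0, map_zero v⟩
    | add a b _ _ ha hb =>
      obtain ⟨u, rfl⟩ := ha
      obtain ⟨u', rfl⟩ := hb
      exact ⟨u + u', map_add v u u'⟩
    | smul a b _ hb =>
      obtain ⟨u, rfl⟩ := hb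
      exact ⟨e a • u, by rw [hv, RingEquiv.symm_apply_apply]⟩
  have : Module.Finite A S := by
    obtain ⟨s, hs⟩ := (Module.Finite.fg_top : (⊤ : Submodule A M).FG)
    classical
    refine Module.Finite.iff_fg.mpr ⟨s.image v, le_antisymm ?_ ?_⟩
    · rw [Submodule.span_le]
      intro x hx
      obtain ⟨y, -, rfl⟩ := Finset.mem_image.mp hx
      exact Submodule.subset_span ⟨y, rfl⟩
    · rw [Submodule.span_le]
      rintro _ ⟨y, rfl⟩
      have hy : y ∈ Submodule.span A (s : Set M) := hs.symm ▸ Submodule.mem_top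
      induction hy using Submodule.span_induction with
      | mem x hx => exact Submodule.subset_span (Finset.mem_image_of_mem v hx)
      | zero => rw [map_zero]; exact Submodule.zero_mem _
      | add a b _ _ ha hb => rw [map_add]; exact Submodule.add_mem _ ha hb
      | smul a b _ hb => rw [hv]; exact Submodule.smul_mem _ _ hb
  refine exists_retraction S fun 𝔪 h𝔪 x hx hxm => ?_
  obtain ⟨u, rfl⟩ := hrange x hx
  have hrad : 𝔪.IsRadical := h𝔪.isPrime.isRadical
  obtain ⟨z, hz⟩ := (exact2_radical p hp hsub root e he f v hf hv hfv hvf h1 h2 hrad).2 u hxm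
  rw [show v u = v (u - f z) by rw [map_sub, hvf, sub_zero]]
  refine Submodule.smul_induction_on hz (fun a ha y _ => ?_) (fun a b ha hb => ?_)
  · rw [hv]
    exact Submodule.smul_mem_smul ((he 𝔪 hrad _).mp (by simpa using ha)) (Submodule.subset_span ⟨y, rfl⟩)
  · rw [map_add]; exact add_mem ha hb

lemma projective_quotient_of_retraction [Module.Projective A M] (S : Submodule A M) (h : M →ₗ[A] S)
    (hh : h ∘ₗ S.subtype = LinearMap.id) : Module.Projective A (M ⧸ S) :=
  Module.Projective.of_split (S.liftQ (LinearMap.id - S.subtype ∘ₗ h) fun x hx => by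
      have := LinearMap.congr_fun hh ⟨x, hx⟩
      change h x = ⟨x, hx⟩ at this
      rw [LinearMap.mem_ker]
      simp [this]) S.mkQ (Submodule.linearMap_qext _ (LinearMap.ext fun x => by
      simp [Submodule.Quotient.mk_sub]))

end DispLib.ExactProj
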