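import Groth.Agent.DispLib.BaseChangeExists
import Mathlib.LinearAlgebra.ExteriorPower.Basis

/-!
# Exterior powers of 3n-displays whose tangent module is free of rank one
-/

namespace DispLib

open W4c1extbt610

universe u v w

section Alt

variable {A : Type u} [CommRing A] {P : Type v} [AddCommGroup P] [Module A P]
variable {N : Type w} [AddCommGroup N] [Module A N] {r : ℕ}

lemma alt_add_smul (φ : P [⋀^Fin r]→ₗ[A] N) (t : P) (c : Fin r → A) (a : Fin r → P) :
    φ (fun i => a i + c i • t) = φ a + ∑ i, c i • φ (Function.update a i t) := by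
  classical
  have main : ∀ (s : Finset (Fin r)) (a : Fin r → P),
      φ (fun i => if i ∈ s then a i + c i • t else a i) = φ a + ∑ i ∈ s, c i • φ (Function.update a i t) := by
    intro s
    induction s using Finset.induction with
    | empty => intro a; simp
    | insert j s hj ih =>
      intro a
      have e : (fun i => if i ∈ insert j s then a i + c i • t else a i) =
          Function.update (fun i => if i ∈ s then a i + c i • t else a i) j (a j + c j • t) := by
        funext i
        rcases eq_or_ne i j with rfl | h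
        · simp
        · simp [Finset.mem_insert, h, Function.update_of_ne h]
      have e1 : Function.update (fun i => if i ∈ s then a i + c i • t else a i) j (a j) =
          fun i => if i ∈ s then a i + c i • t else a i := by
        funext i
        rcases eq_or_ne i j with rfl | h
        · simp [hj]
        · simp [Function.update_of_ne h]
      have e2 : Function.update (fun i => if i ∈ s then a i + c i • t else a i) j t =
          fun i => if i ∈ s then Function.update a j t i + c i • t else Function.update a j t i := by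
        funext i
        rcases eq_or_ne i j with rfl | h
        · simp [hj]
        · simp [Function.update_of_ne h]
      rw [e, φ.map_update_add, φ.map_update_smul, e1, ih, e2, ih, Finset.sum_insert hj]
      have hz : ∑ i ∈ s, c i • φ (Function.update (Function.update a j t) i t) = 0 := by
        refine Finset.sum_eq_zero fun i hi => ?_
        have hij : i ≠ j := fun h => hj (h ▸ hi)
        rw [φ.map_eq_zero_of_eq _ (i := i) (j := j) ?_ hij, smul_zero]
        rw [Function.update_self, Function.update_of_ne hij.symm, Function.update_self]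
      rw [hz, add_zero]
      abel
  have := main Finset.univ a
  simpa using this

end Alt

section Twist

variable {A : Type u} {B : Type v} [CommRing A] [CommRing B]

/-- A `B`-module seen as an `A`-module along `g`. -/
@[nolint unusedArguments]
def Tw (_g : A →+* B) (N : Type w) : Type w := N

instance (g : A →+* B) (N : Type w) [AddCommGroup N] : AddCommGroup (Tw g N) := inferInstanceAs (AddCommGroup N)

instance (g : A →+* B) (N : Type w) [AddCommGroup N] [Module B N] : Module A (Tw g N) :=
  Module.compHom N g

end Twist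

section SemiWedge

variable {A : Type u} [CommRing A] {s : A →+* A} {P : Type v} [AddCommGroup P] [Module A P]
variable {P' : Type w} [AddCommGroup P'] [Module A P']

/-- `y ↦ h y_1 ∧ ⋯ ∧ h y_r`, as an alternating map into the twisted module. -/
noncomputable def semiWedgeAlt (r : ℕ) (h : P →ₛₗ[s] P') : P [⋀^Fin r]→ₗ[A] Tw s (⋀[A]^r P') where
  toFun v := exteriorPower.ιMulti A r (fun i => h (v i))
  map_update_add' {_} v i x y := by
    change exteriorPower.ιMulti A r (fun j => h (Function.update v i (x + y) j)) =
      exteriorPower.ιMulti A r (fun j => h (Function.update v i x j)) +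
        exteriorPower.ιMulti A r (fun j => h (Function.update v i y j))
    have e : ∀ z, (fun j => h (Function.update v i z j)) = Function.update (fun j => h (v j)) i (h z) := fun z =>
      Function.comp_update (⇑h) v i z
    rw [e, e, e, map_add, AlternatingMap.map_update_add]
  map_update_smul' {_} v i c x := by
    change exteriorPower.ιMulti A r (fun j => h (Function.update v i (c • x) j)) =
      s c • exteriorPower.ιMulti A r (fun j => h (Function.update v i x j))
    have e : ∀ z, (fun j => h (Function.update v i z j)) = Function.update (fun j => h (v j)) i (h z) := fun z =>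
      Function.comp_update (⇑h) v i z
    rw [e, e, map_smulₛₗ, AlternatingMap.map_update_smul]
  map_eq_zero_of_eq' v i j h1 h2 :=
    (exteriorPower.ιMulti A r).map_eq_zero_of_eq _ (congrArg h h1) h2

/-- The exterior power of a semilinear map. -/
noncomputable def semiWedge (r : ℕ) (h : P →ₛₗ[s] P') : (⋀[A]^r P) →ₛₗ[s] (⋀[A]^r P') where
  toFun z := (exteriorPower.alternatingMapLinearEquiv (semiWedgeAlt r h) z : Tw s (⋀[A]^r P'))
  map_add' a b := map_add (exteriorPower.alternatingMapLinearEquiv (semiWedgeAlt r h)) a b
  map_smul' c a := map_smul (exteriorPower.alternatingMapLinearEquiv (semiWedgeAlt r h)) c a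

lemma semiWedge_ι (r : ℕ) (h : P →ₛₗ[s] P') (v : Fin r → P) :
    semiWedge r h (exteriorPower.ιMulti A r v) = exteriorPower.ιMulti A r (fun i => h (v i)) :=
  exteriorPower.alternatingMapLinearEquiv_apply_ιMulti (semiWedgeAlt r h) v

lemma semiWedge_ext {M : Type*} [AddCommGroup M] [Module A M] {r : ℕ} {f g : (⋀[A]^r P) →ₛₗ[s] M}
    (h : ∀ v, f (exteriorPower.ιMulti A r v) = g (exteriorPower.ιMulti A r v)) : f = g :=
  LinearMap.ext_on_range (exteriorPower.ιMulti_span A r P) h

end SemiWedge

section Rank1

open WittVector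

variable {p : ℕ} [Fact p.Prime] {R : Type u} [CommRing R] {P : Type v} [AddCommGroup P] [Module (WittVector p R) P]

/-- The projection to `L` killing `t`, where `τ` is the coefficient of `t`. -/
noncomputable def projL (t : P) (τ : P →ₗ[WittVector p R] WittVector p R) : P →ₗ[WittVector p R] P :=
  LinearMap.id - τ.smulRight t

/-- The projection `⋀^r πL`. -/
noncomputable def extProj (r : ℕ) (t : P) (τ : P →ₗ[WittVector p R] WittVector p R) :
    (⋀[WittVector p R]^r P) →ₗ[WittVector p R] (⋀[WittVector p R]^r P) :=
  exteriorPower.map r (projL t τ)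

variable {D : Display3n p R P} {t : P} {τ : P →ₗ[WittVector p R] WittVector p R}

lemma exists_coeff (D : Display3n p R P) (L T : Submodule (WittVector p R) P) (hLT : IsCompl L T)
    (hQ : D.Q = L ⊔ IV p R • T) (hT : Nonempty (T ≃ₗ[WittVector p R] WittVector p R)) :
    ∃ (t : P) (τ : P →ₗ[WittVector p R] WittVector p R), τ t = 1 ∧ (∀ y, y ∈ D.Q ↔ τ y ∈ IV p R) ∧
      t ∈ T ∧ (∀ y, projL t τ y ∈ L) ∧ ∀ y ∈ L, τ y = 0 := by
  obtain ⟨e⟩ := hT
  let τ : P →ₗ[WittVector p R] WittVector p R := e.toLinearMap ∘ₗ Submodule.projectionOnto T L hLT.symm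
  have ht : τ (e.symm 1 : P) = 1 := by
    simp [τ, Submodule.projectionOnto_apply_left hLT.symm]
  have hL : ∀ y ∈ L, τ y = 0 := fun y hy => by
    simp [τ, Submodule.projectionOnto_apply_of_mem_right hLT.symm hy]
  have hproj : ∀ y, projL (e.symm 1 : P) τ y ∈ L := by
    intro y
    have h1 : (Submodule.projectionOnto T L hLT.symm y : P) = τ y • (e.symm 1 : P) := by
      rw [← Submodule.coe_smul, ← map_smul, smul_eq_mul, mul_one]
      simp [τ]
    have h2 := Submodule.projection_add_projection_eq_self hLT y
    change y - τ y • (e.symm 1 : P) ∈ L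
    rw [← h1]
    nth_rewrite 1 [← h2]
    change (Submodule.projectionOnto L T hLT y : P) + (Submodule.projectionOnto T L hLT.symm y : P) -
      (Submodule.projectionOnto T L hLT.symm y : P) ∈ L
    rw [add_sub_cancel_right]
    exact Submodule.coe_mem _
  refine ⟨(e.symm 1 : P), τ, ht, fun y => ⟨fun hy => ?_, fun hy => ?_⟩, (e.symm 1).2, hproj, hL⟩
  · rw [hQ, Submodule.mem_sup] at hy
    obtain ⟨l, hl, z, hz, rfl⟩ := hy
    rw [map_add, hL l hl, zero_add]
    refine Submodule.smul_induction_on hz (fun a ha w _ => ?_) (fun a b ha hb => ?_)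
    · rw [map_smul]; exact Ideal.mul_mem_right _ _ ha
    · rw [map_add]; exact add_mem ha hb
  · rw [hQ, Submodule.mem_sup]
    exact ⟨_, hproj y, τ y • (e.symm 1 : P), Submodule.smul_mem_smul hy (e.symm 1).2, sub_add_cancel y _⟩

variable (D t τ)

/-- The wedges of elements of `Q`. -/
noncomputable def extQ (r : ℕ) : Submodule (WittVector p R) (⋀[WittVector p R]^r P) :=
  Submodule.span (WittVector p R)
    (Set.range fun q : Fin r → D.Q => exteriorPower.ιMulti (WittVector p R) r (fun i => (q i : P)))

variable {D t τ} (ht : τ t = 1) (hQ : ∀ y, y ∈ D.Q ↔ τ y ∈ IV p R)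

include ht in
lemma projL_projL (y : P) : projL t τ (projL t τ y) = projL t τ y := by
  simp [projL, ht]

include ht in
lemma extProj_idem (r : ℕ) (z : ⋀[WittVector p R]^r P) :
    extProj r t τ (extProj r t τ z) = extProj r t τ z := by
  rw [← LinearMap.comp_apply, extProj, ← exteriorPower.map_comp]
  congr 2
  exact LinearMap.ext (projL_projL ht)

lemma ι_decomp (r : ℕ) (y : Fin r → P) :
    exteriorPower.ιMulti (WittVector p R) r y = extProj r t τ (exteriorPower.ιMulti (WittVector p R) r y) +
      ∑ i, τ (y i) • exteriorPower.ιMulti (WittVector p R) r (Function.update (fun j => projL t τ (y j)) i t) := by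
  rw [extProj, exteriorPower.map_apply_ιMulti]
  conv_lhs => rw [show y = fun i => projL t τ (y i) + τ (y i) • t from funext fun i => by simp [projL]]
  exact alt_add_smul _ t (fun i => τ (y i)) (fun i => projL t τ (y i))

include ht hQ in
lemma projL_mem (y : P) : projL t τ y ∈ D.Q := by
  rw [hQ]
  simp [projL, ht]

include ht hQ in
lemma extProj_mem_extQ (r : ℕ) (z : ⋀[WittVector p R]^r P) : extProj r t τ z ∈ extQ D r := by
  have : (⊤ : Submodule (WittVector p R) (⋀[WittVector p R]^r P)) ≤ (extQ D r).comap (extProj r t τ) := by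
    rw [← exteriorPower.ιMulti_span, Submodule.span_le]
    rintro _ ⟨y, rfl⟩
    rw [SetLike.mem_coe, Submodule.mem_comap, extProj, exteriorPower.map_apply_ιMulti]
    exact Submodule.subset_span ⟨fun i => ⟨projL t τ (y i), projL_mem ht hQ (y i)⟩, rfl⟩
  exact this Submodule.mem_top

include ht hQ in
lemma IV_smul_le_extQ (r : ℕ) :
    IV p R • (⊤ : Submodule (WittVector p R) (⋀[WittVector p R]^r P)) ≤ extQ D r := by
  refine Submodule.smul_le.mpr fun a ha z _ => ?_
  have : (⊤ : Submodule (WittVector p R) (⋀[WittVector p R]^r P)) ≤ (extQ D r).comap (LinearMap.lsmul _ _ a) := by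
    rw [← exteriorPower.ιMulti_span, Submodule.span_le]
    rintro _ ⟨y, rfl⟩
    rw [SetLike.mem_coe, Submodule.mem_comap, LinearMap.lsmul_apply, ι_decomp (t := t) (τ := τ) r y, smul_add,
      Finset.smul_sum]
    refine add_mem (Submodule.smul_mem _ _ (extProj_mem_extQ ht hQ r _)) (Submodule.sum_mem _ fun i _ => ?_)
    rw [smul_comm, ← AlternatingMap.map_update_smul]
    refine Submodule.smul_mem _ _ (Submodule.subset_span
      ⟨Function.update (fun j => (⟨projL t τ (y j), projL_mem ht hQ (y j)⟩ : D.Q)) i
        ⟨a • t, D.IV_smul_le (Submodule.smul_mem_smul ha Submodule.mem_top)⟩, ?_⟩)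
    refine congrArg (exteriorPower.ιMulti (WittVector p R) r) (funext fun j => ?_)
    rcases eq_or_ne j i with rfl | h
    · simp
    · simp [Function.update_of_ne h]
  exact this Submodule.mem_top

include ht hQ in
lemma sub_extProj_mem (r : ℕ) {z : ⋀[WittVector p R]^r P} (hz : z ∈ extQ D r) :
    z - extProj r t τ z ∈ IV p R • LinearMap.range (LinearMap.id - extProj r t τ) := by
  set N := IV p R • LinearMap.range (LinearMap.id - extProj r t τ)
  suffices extQ D r ≤ N.comap (LinearMap.id - extProj r t τ) from this hz
  rw [extQ, Submodule.span_le]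
  rintro _ ⟨q, rfl⟩
  rw [SetLike.mem_coe, Submodule.mem_comap]
  dsimp only
  nth_rewrite 1 [ι_decomp (t := t) (τ := τ) r (fun i => (q i : P))]
  rw [map_add]
  refine add_mem ?_ ?_
  · rw [LinearMap.sub_apply, LinearMap.id_apply, extProj_idem ht, sub_self]
    exact N.zero_mem
  · rw [map_sum]
    refine Submodule.sum_mem _ fun i _ => ?_
    rw [map_smul]
    exact Submodule.smul_mem_smul ((hQ _).mp (q i).2) (LinearMap.mem_range_self _ _)

include ht hQ in
lemma extQ_eq (r : ℕ) :
    extQ D r = LinearMap.range (extProj r t τ) ⊔ IV p R • LinearMap.range (LinearMap.id - extProj r t τ) := by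
  refine le_antisymm (fun z hz => ?_) (sup_le ?_ ?_)
  · exact Submodule.mem_sup.mpr ⟨_, LinearMap.mem_range_self _ z, _, sub_extProj_mem ht hQ r hz,
      add_sub_cancel _ _⟩
  · rintro _ ⟨z, rfl⟩
    exact extProj_mem_extQ ht hQ r z
  · exact le_trans (Submodule.smul_mono le_rfl le_top) (IV_smul_le_extQ ht hQ r)

include ht in
lemma isCompl_extProj (r : ℕ) :
    IsCompl (LinearMap.range (extProj r t τ)) (LinearMap.range (LinearMap.id - extProj r t τ)) := by
  constructor
  · rw [disjoint_iff, eq_bot_iff]
    rintro _ ⟨⟨a, rfl⟩, b, hb⟩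
    rw [Submodule.mem_bot, ← extProj_idem ht, ← hb, LinearMap.sub_apply, LinearMap.id_apply, map_sub,
      extProj_idem ht, sub_self]
  · rw [codisjoint_iff, eq_top_iff]
    exact fun z _ => Submodule.mem_sup.mpr
      ⟨_, LinearMap.mem_range_self _ z, _, LinearMap.mem_range_self (LinearMap.id - extProj r t τ) z,
        add_sub_cancel _ _⟩

include ht hQ in
theorem exists_extPow (r : ℕ) :
    ∃ E : Display3n p R (⋀[WittVector p R]^r P), IsExtPow D r E ∧
      ∀ E' : Display3n p R (⋀[WittVector p R]^r P), IsExtPow D r E' → E' = E := by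
  have := D.finite
  have := D.projective
  let πQ : P →ₗ[WittVector p R] D.Q := (projL t τ).codRestrict D.Q (projL_mem ht hQ)
  let hA : P →ₛₗ[(WittVector.frobenius : WittVector p R →+* WittVector p R)] P := D.Vinv.comp πQ
  let hg : P →ₛₗ[(WittVector.frobenius : WittVector p R →+* WittVector p R)] P :=
    hA + (LinearMap.toSpanSingleton (WittVector p R) P (D.F t)).comp
      ((Dieu.semilinearOfRingHom (WittVector.frobenius : WittVector p R →+* WittVector p R)).comp τ)
  have hAt : hA t = 0 := by
    have : πQ t = 0 := Subtype.ext (by simp [πQ, projL, ht])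
    simp [hA, this]
  have hgt : hg t = D.F t := by
    simp [hg, hAt, ht]
  have hAπ : ∀ y, hA (projL t τ y) = hA y := fun y => by
    have : πQ (projL t τ y) = πQ y := Subtype.ext (projL_projL ht y)
    simp [hA, this]
  have hgπ : ∀ y, hg (projL t τ y) = hA y := fun y => by
    have : τ (projL t τ y) = 0 := by simp [projL, ht]
    simp [hg, hAπ, this]
  let Λ := semiWedge r hA
  let Ψ := semiWedge r hg - semiWedge r hA
  -- coordinates
  have : Module.Projective (WittVector p R) (⋀[WittVector p R]^r P) := by
    obtain ⟨n, d, c, -, -, hdc⟩ := Module.Finite.exists_comp_eq_id_of_projective (WittVector p R) P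
    exact Module.Projective.of_split (exteriorPower.map r c) (exteriorPower.map r d)
      (by rw [← exteriorPower.map_comp, hdc, exteriorPower.map_id])
  obtain ⟨n, d, c, -, -, hdc⟩ :=
    Module.Finite.exists_comp_eq_id_of_projective (WittVector p R) (⋀[WittVector p R]^r P)
  let e : Fin n → ⋀[WittVector p R]^r P := fun i => d (Pi.single i 1)
  have hsum : ∀ z, z = ∑ i, c z i • e i := fun z => by
    simp only [e, ← map_smul, ← map_sum, ← pi_eq_sum_univ']
    exact (LinearMap.congr_fun hdc _).symm
  have hc : ∀ z ∈ extQ D r, ∀ i, c (z - extProj r t τ z) i ∈ IV p R := fun z hz i => by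
    refine Submodule.smul_induction_on (sub_extProj_mem ht hQ r hz) (fun a ha w _ => ?_) (fun a b ha hb => ?_)
    · rw [map_smul]; exact Ideal.mul_mem_right _ _ ha
    · rw [map_add]; exact add_mem ha hb
  let cc : Fin n → (extQ D r →ₗ[WittVector p R] WittVector p R) := fun i =>
    ((LinearMap.proj (R := WittVector p R) (φ := fun _ : Fin n => WittVector p R) i).comp c).comp
      ((LinearMap.id - extProj r t τ).comp (extQ D r).subtype)
  let cI : Fin n → (extQ D r →ₗ[WittVector p R] IV p R) := fun i =>
    (cc i).codRestrict (IV p R) fun z => hc z z.2 i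
  let V' : extQ D r →ₛₗ[(WittVector.frobenius : WittVector p R →+* WittVector p R)] ⋀[WittVector p R]^r P :=
    Λ.comp (extQ D r).subtype +
      ∑ i, (LinearMap.toSpanSingleton (WittVector p R) _ (Ψ (e i))).comp (vinvW.comp (cI i))
  have hV' : ∀ z : extQ D r, V' z = Λ z + ∑ i, vinvW (cI i z) • Ψ (e i) := fun z => by
    simp only [V', LinearMap.add_apply, LinearMap.sum_apply, LinearMap.comp_apply, LinearMap.toSpanSingleton_apply]
    rfl
  have hΛ : ∀ z, Λ (extProj r t τ z) = Λ z := by
    intro z
    have : (Λ.comp (extProj r t τ)) = Λ := semiWedge_ext fun v => by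
      simp only [LinearMap.comp_apply, extProj, exteriorPower.map_apply_ιMulti, Λ, semiWedge_ι,
        Function.comp_apply, hAπ]
    exact LinearMap.congr_fun this z
  have hΨ : ∀ z, Ψ z = ∑ i, frobenius (c z i) • Ψ (e i) := fun z => by
    conv_lhs => rw [hsum z, map_sum]
    exact Finset.sum_congr rfl fun i _ => map_smulₛₗ _ _ _
  have hΨu : ∀ (y : Fin r → P) i, Ψ (exteriorPower.ιMulti (WittVector p R) r
      (Function.update (fun j => projL t τ (y j)) i t)) =
      exteriorPower.ιMulti (WittVector p R) r (Function.update (fun j => hA (y j)) i (D.F t)) := by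
    intro y i
    simp only [Ψ, LinearMap.sub_apply, semiWedge_ι]
    rw [show (fun j => hg (Function.update (fun j => projL t τ (y j)) i t j)) =
        Function.update (fun j => hA (y j)) i (D.F t) from funext fun j => by
      rcases eq_or_ne j i with rfl | h
      · simp [hgt]
      · simp [Function.update_of_ne h, hgπ],
      (exteriorPower.ιMulti (WittVector p R) r).map_coord_zero (m := fun j => hA (Function.update (fun j => projL t τ (y j)) i t j))
        i (by simp [hAt]), sub_zero]
  have hwedge : ∀ (q : Fin r → D.Q) (h : exteriorPower.ιMulti (WittVector p R) r (fun i => (q i : P)) ∈ extQ D r),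
      V' ⟨_, h⟩ = exteriorPower.ιMulti (WittVector p R) r (fun i => D.Vinv (q i)) := by
    intro q h
    choose b hb using fun i => mem_IV_iff.mp ((hQ _).mp (q i).2)
    let u : Fin r → ⋀[WittVector p R]^r P := fun i =>
      exteriorPower.ιMulti (WittVector p R) r (Function.update (fun j => projL t τ (q j : P)) i t)
    have hfix : ∀ i, extProj r t τ (u i) = 0 := fun i => by
      rw [extProj, exteriorPower.map_apply_ιMulti]
      exact (exteriorPower.ιMulti (WittVector p R) r).map_coord_zero i (by simp [projL, ht])
    have hw : exteriorPower.ιMulti (WittVector p R) r (fun i => (q i : P)) -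
        extProj r t τ (exteriorPower.ιMulti (WittVector p R) r (fun i => (q i : P))) =
          ∑ j, verschiebung (b j) • u j := by
      rw [sub_eq_iff_eq_add']
      refine (ι_decomp (t := t) (τ := τ) r _).trans ?_
      simp only [hb, u]
    have hq : ∀ j, D.Vinv (q j) = hA (q j : P) + b j • D.F t := fun j => by
      have e1 : q j = πQ (q j : P) + ⟨verschiebung (b j) • t,
          D.IV_smul_le (Submodule.smul_mem_smul (verschiebung_mem_IV p R (b j)) Submodule.mem_top)⟩ :=
        Subtype.ext (by simp [πQ, projL, ← hb j])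
      conv_lhs => rw [e1, map_add, D.Vinv_verschiebung_smul]
      rfl
    rw [hV', show (fun i => D.Vinv (q i)) = fun j => hA (q j : P) + b j • D.F t from funext hq, alt_add_smul]
    congr 1
    · change Λ _ = _
      simp only [Λ, semiWedge_ι]
    · have hcalc : ∀ i, vinvW (cI i ⟨_, h⟩) = ∑ j, b j * frobenius (c (u j) i) := fun i => by
        refine verschiebung_injective p R ((mem_IV_iff.mp (cI i ⟨_, h⟩).2).choose_spec.symm.trans ?_)
        rw [map_sum]
        change c (exteriorPower.ιMulti (WittVector p R) r (fun i => (q i : P)) -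
          extProj r t τ (exteriorPower.ιMulti (WittVector p R) r (fun i => (q i : P)))) i = _
        rw [hw, map_sum, Finset.sum_apply]
        refine Finset.sum_congr rfl fun j _ => ?_
        rw [map_smul, Pi.smul_apply, smul_eq_mul, verschiebung_mul_frobenius]
      simp only [hcalc, Finset.sum_smul, mul_smul]
      rw [Finset.sum_comm]
      refine Finset.sum_congr rfl fun j _ => ?_
      rw [← Finset.smul_sum, ← hΨ, hΨu]
  have hIV := IV_smul_le_extQ ht hQ r
  have hmem : ∀ (w : WittVector p R) (z : ⋀[WittVector p R]^r P), verschiebung w • z ∈ extQ D r := fun w z =>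
    hIV (Submodule.smul_mem_smul (verschiebung_mem_IV p R w) Submodule.mem_top)
  have hVv : ∀ w z, V' ⟨verschiebung w • z, hmem w z⟩ =
      w • ((p : WittVector p R) • Λ z + Ψ (z - extProj r t τ z)) := fun w z => by
    rw [hV', smul_add, hΨ (z - extProj r t τ z), Finset.smul_sum]
    congr 1
    · change Λ (verschiebung w • z) = _
      rw [map_smulₛₗ, frobenius_verschiebung, mul_smul]
    · refine Finset.sum_congr rfl fun i _ => ?_
      rw [smul_smul]
      refine congrArg (fun x => x • Ψ (e i)) ?_
      refine verschiebung_injective p R ((mem_IV_iff.mp (cI i ⟨_, hmem w z⟩).2).choose_spec.symm.trans ?_)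
      change c (verschiebung w • z - extProj r t τ (verschiebung w • z)) i = _
      have e1 : verschiebung w • z - extProj r t τ (verschiebung w • z) =
          verschiebung w • (z - extProj r t τ z) := by
        rw [map_smul]; exact (smul_sub _ _ _).symm
      rw [e1, map_smul, Pi.smul_apply, smul_eq_mul, verschiebung_mul_frobenius]
  let mulV1 : (⋀[WittVector p R]^r P) →ₗ[WittVector p R] extQ D r :=
    (LinearMap.lsmul (WittVector p R) _ (verschiebung (1 : WittVector p R))).codRestrict (extQ D r) (hmem 1)
  let E : Display3n p R (⋀[WittVector p R]^r P) :=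
    { Q := extQ D r, F := V'.comp mulV1, Vinv := V'
      finite := inferInstance, projective := inferInstance, IV_smul_le := hIV
      exists_normal := ⟨_, _, isCompl_extProj ht r, extQ_eq ht hQ r⟩
      span_range_Vinv := by
        rw [eq_top_iff, ← exteriorPower.ιMulti_span_of_span (WittVector p R) r P D.span_range_Vinv, Submodule.span_le]
        rintro _ ⟨a, ha, rfl⟩
        choose q hq using fun i => ha ⟨i, rfl⟩
        refine Submodule.subset_span ⟨⟨_, Submodule.subset_span ⟨q, rfl⟩⟩, ?_⟩
        refine (hwedge q _).trans ?_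
        simp only [hq]
      Vinv_verschiebung_smul := fun w x => by
        change V' ⟨verschiebung w • x, hmem w x⟩ = w • V' ⟨verschiebung (1 : WittVector p R) • x, hmem 1 x⟩
        rw [hVv, hVv 1, one_smul] }
  refine ⟨E, ⟨rfl, hwedge⟩, fun E' hE' => display_ext E' E hE'.1 fun x hx hxE => ?_⟩
  have hle : extQ D r ≤
      (LinearMap.eqLocus (E'.Vinv.comp (Submodule.inclusion (show extQ D r ≤ E'.Q from le_of_eq hE'.1.symm))) V').map
        (extQ D r).subtype := by
    refine Submodule.span_le.mpr ?_
    rintro _ ⟨q, rfl⟩
    have hm : exteriorPower.ιMulti (WittVector p R) r (fun i => (q i : P)) ∈ extQ D r := Submodule.subset_span ⟨q, rfl⟩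
    refine ⟨⟨_, hm⟩, ?_, rfl⟩
    rw [SetLike.mem_coe, LinearMap.mem_eqLocus, LinearMap.comp_apply]
    exact (hE'.2 q _).trans (hwedge q hm).symm
  obtain ⟨⟨x', _⟩, hx', e'⟩ := hle hxE
  obtain rfl : x' = x := e'
  exact hx'

lemma card_powersetCard_filter_last (m r : ℕ) (hr : 1 ≤ r) :
    Nat.card {S : Set.powersetCard (Fin (m + 1)) r // Fin.last m ∈ (S : Finset (Fin (m + 1)))} = m.choose (r - 1) := by
  classical
  obtain ⟨k, rfl⟩ := Nat.exists_eq_add_of_le' hr
  have h1 : Nat.card {S : Set.powersetCard (Fin (m + 1)) (k + 1) // Fin.last m ∈ (S : Finset (Fin (m + 1)))} =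
      ((Finset.univ.powersetCard (k + 1)).filter fun S : Finset (Fin (m + 1)) => Fin.last m ∈ S).card := by
    rw [← Nat.card_eq_finsetCard]
    refine Nat.card_congr ⟨fun S => ⟨(S.1 : Finset (Fin (m + 1))), ?_⟩, fun S => ⟨⟨S.1, ?_⟩, ?_⟩, fun S => rfl, fun S => rfl⟩
    · exact Finset.mem_filter.mpr ⟨Finset.mem_powersetCard.mpr ⟨Finset.subset_univ _, S.1.2⟩, S.2⟩
    · exact (Finset.mem_powersetCard.mp (Finset.mem_filter.mp S.2).1).2
    · exact (Finset.mem_filter.mp S.2).2
  have h2 : (Finset.univ.powersetCard (k + 1)).filter (fun S : Finset (Fin (m + 1)) => ¬ Fin.last m ∈ S) =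
      (Finset.univ.erase (Fin.last m)).powersetCard (k + 1) := by
    ext S
    simp [Finset.mem_powersetCard, Finset.subset_erase, and_comm]
  have h3 := Finset.card_filter_add_card_filter_not
    (s := Finset.univ.powersetCard (k + 1)) (fun S : Finset (Fin (m + 1)) => Fin.last m ∈ S)
  rw [h2, Finset.card_powersetCard, Finset.card_powersetCard, Finset.card_univ, Fintype.card_fin,
    Finset.card_erase_of_mem (Finset.mem_univ _), Finset.card_univ, Fintype.card_fin, Nat.choose_succ_succ] at h3
  rw [h1, Nat.add_sub_cancel]
  simp only [Nat.succ_eq_add_one, Nat.add_sub_cancel] at h3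
  omega

theorem normal_extPow [Nontrivial R] (D : Display3n p R P) (m : ℕ)
    (L T : Submodule (WittVector p R) P) (hLT : IsCompl L T) (hQT : D.Q = L ⊔ IV p R • T)
    (hL : Module.Free (WittVector p R) L) (hLr : Module.finrank (WittVector p R) L = m)
    (hT : Nonempty (T ≃ₗ[WittVector p R] WittVector p R))
    (r : ℕ) (hr : 1 ≤ r) (E : Display3n p R (⋀[WittVector p R]^r P)) (hE : IsExtPow D r E) :
    ∃ L' T' : Submodule (WittVector p R) (⋀[WittVector p R]^r P), IsCompl L' T' ∧
      E.Q = L' ⊔ IV p R • T' ∧ Module.Free (WittVector p R) T' ∧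
      Module.finrank (WittVector p R) T' = m.choose (r - 1) := by
  classical
  obtain ⟨t, τ, ht, hQ, htT, hprojL, hτL⟩ := exists_coeff D L T hLT hQT hT
  have := D.finite
  have : Module.Finite (WittVector p R) L :=
    Module.Finite.of_surjective (Submodule.projectionOnto L T hLT) fun x =>
      ⟨x, Submodule.projectionOnto_apply_left hLT x⟩
  refine ⟨_, _, isCompl_extProj (τ := τ) ht r, hE.1.trans (extQ_eq ht hQ r), ?_⟩
  let bL := Module.finBasisOfFinrankEq (WittVector p R) L hLr
  obtain ⟨eT⟩ := hT
  -- the basis of `P` adapted to `L ⊕ W t`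
  let v : Fin (m + 1) → P := Fin.snoc (fun i => (bL i : P)) t
  have hsp : ⊤ ≤ Submodule.span (WittVector p R) (Set.range v) := by
    intro y _
    have hy : y = projL t τ y + τ y • t := by simp [projL]
    rw [hy]
    refine add_mem ?_ (Submodule.smul_mem _ _ (Submodule.subset_span ⟨Fin.last m, by simp [v]⟩))
    have hl : (⟨projL t τ y, hprojL y⟩ : L) ∈ Submodule.span (WittVector p R) (Set.range bL) :=
      bL.span_eq ▸ Submodule.mem_top
    have hl' := Submodule.mem_map_of_mem (f := L.subtype) hl
    rw [Submodule.map_span] at hl'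
    refine Submodule.span_mono ?_ hl'
    rintro _ ⟨_, ⟨i, rfl⟩, rfl⟩
    exact ⟨i.castSucc, by simp [v]⟩
  have hli : LinearIndependent (WittVector p R) v := by
    rw [Fintype.linearIndependent_iff]
    intro g hg
    rw [Fin.sum_univ_castSucc] at hg
    simp only [v, Fin.snoc_castSucc, Fin.snoc_last] at hg
    have hlast : g (Fin.last m) = 0 := by
      have := congrArg τ hg
      rw [map_add, map_sum, map_smul, ht, smul_eq_mul, mul_one, map_zero] at this
      rw [Finset.sum_eq_zero (fun i _ => by rw [map_smul, hτL _ (bL i).2, smul_zero]), zero_add] at this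
      exact this
    rw [hlast, zero_smul, add_zero] at hg
    have hzero := Fintype.linearIndependent_iff.mp bL.linearIndependent (fun i => g i.castSucc)
      (Subtype.ext (by simpa using hg))
    intro i
    induction i using Fin.lastCases with
    | last => exact hlast
    | cast j => exact hzero j
  let bP := Module.Basis.mk hli hsp
  let B := bP.exteriorPower r
  have hproj : ∀ i, projL t τ (bP i) = if i = Fin.last m then 0 else bP i := by
    intro i
    rw [Module.Basis.mk_apply]
    induction i using Fin.lastCases with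
    | last => simp [v, projL, ht]
    | cast j => simp [v, projL, hτL _ (bL j).2, (Fin.castSucc_lt_last j).ne]
  have hB : ∀ S : Set.powersetCard (Fin (m + 1)) r,
      (LinearMap.id (R := WittVector p R) (M := ⋀[WittVector p R]^r P) - extProj r t τ) (B S) =
      if Fin.last m ∈ (S : Finset (Fin (m + 1))) then B S else 0 := by
    intro S
    rw [exteriorPower.basis_apply, LinearMap.sub_apply, LinearMap.id_apply, extProj,
      exteriorPower.map_apply_ιMulti_family]
    simp only [exteriorPower.ιMulti_family]
    split_ifs with h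
    · obtain ⟨i, hi⟩ : ∃ i, Set.powersetCard.ofFinEmbEquiv.symm S i = Fin.last m :=
        Set.powersetCard.mem_range_ofFinEmbEquiv_symm_iff_mem S (Fin.last m) |>.mpr h
      rw [(exteriorPower.ιMulti (WittVector p R) r).map_coord_zero
        (m := (⇑(projL t τ) ∘ ⇑bP) ∘ ⇑(Set.powersetCard.ofFinEmbEquiv.symm S)) i (by simp [hproj, hi]), sub_zero]
    · rw [sub_eq_zero]
      refine congrArg (exteriorPower.ιMulti (WittVector p R) r) (funext fun i => ?_)
      have hne : Set.powersetCard.ofFinEmbEquiv.symm S i ≠ Fin.last m := fun e =>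
        h (Set.powersetCard.mem_range_ofFinEmbEquiv_symm_iff_mem S _ |>.mp ⟨i, e⟩)
      simp [hproj, hne]
  have hT' : LinearMap.range (LinearMap.id - extProj r t τ) = Submodule.span (WittVector p R)
      (Set.range fun S : {S : Set.powersetCard (Fin (m + 1)) r // Fin.last m ∈ (S : Finset (Fin (m + 1)))} => B S.1) := by
    refine le_antisymm ?_ (Submodule.span_le.mpr ?_)
    · rw [LinearMap.range_eq_map, ← B.span_eq, Submodule.map_span, Submodule.span_le]
      rintro _ ⟨_, ⟨S, rfl⟩, rfl⟩
      rw [hB]
      split_ifs with h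
      · exact Submodule.subset_span ⟨⟨S, h⟩, rfl⟩
      · exact Submodule.zero_mem _
    · rintro _ ⟨S, rfl⟩
      exact ⟨B S.1, by rw [hB, if_pos S.2]⟩
  rw [hT']
  let bT' := Module.Basis.span (B.linearIndependent.comp
    (fun S : {S : Set.powersetCard (Fin (m + 1)) r // Fin.last m ∈ (S : Finset (Fin (m + 1)))} => S.1)
    Subtype.val_injective)
  exact ⟨Module.Free.of_basis bT',
    (Module.finrank_eq_nat_card_basis bT').trans (card_powersetCard_filter_last m r hr)⟩

end Rank1

end DispLib
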