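import Groth.Agent.DispLib.Basic
import Groth.Prelude.Def_Disp2
import Mathlib.RingTheory.WittVector.Truncated

/-!
# Iterates of `V^#`
-/

namespace DispLib

open WittVector W4c1extbt610 Dieu

universe u v w

section Semi

variable {A : Type u} [CommRing A] {B : Type v} [CommRing B] {P : Type w} [AddCommGroup P] [Module A P]
variable {N : Type*} [AddCommGroup N] [Module B N]

lemma semilin_smul_top_mem {h : A →+* B} (f : P →ₛₗ[h] N) {J : Ideal A} {K : Ideal B}
    (hJK : J.map h ≤ K) {z : P} (hz : z ∈ J • (⊤ : Submodule A P)) : f z ∈ K • (⊤ : Submodule B N) :=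
  Submodule.smul_induction_on hz
    (fun a ha y _ => by
      rw [map_smulₛₗ]
      exact Submodule.smul_mem_smul (hJK (Ideal.mem_map_of_mem h ha)) Submodule.mem_top)
    (fun x y hx hy => by rw [map_add]; exact add_mem hx hy)

lemma lift_mem {g : A →+* B} (φ : P →ₛₗ[g] N) {J : Submodule B N} (h : ∀ y, φ y ∈ J) (z : BC g P) :
    BC.lift g φ z ∈ J := by
  induction z using BC.induction_on g with
  | zero => rw [map_zero]; exact J.zero_mem
  | tmul b x => rw [BC.lift_tmul]; exact J.smul_mem _ (h x)
  | add a b ha hb => rw [map_add]; exact J.add_mem ha hb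

end Semi

variable {p : ℕ} [Fact p.Prime] {R : Type u} [CommRing R] {P : Type v} [AddCommGroup P] [Module (WittVector p R) P]

/-- The step `1 ⊗ V^{(n+1)#}` followed by transitivity. -/
noncomputable def stepMap {N : ℕ}
    (f : P →ₗ[WittVector p R] BC ((WittVector.frobenius : WittVector p R →+* WittVector p R) ^ N) P) :
    BC (WittVector.frobenius : WittVector p R →+* WittVector p R) P →ₗ[WittVector p R]
      BC ((WittVector.frobenius : WittVector p R →+* WittVector p R) ^ (N + 1)) P :=
  (BC.castHom (comp_pow_eq_pow_succ (WittVector.frobenius : WittVector p R →+* WittVector p R) N)).comp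
    ((BC.lift (WittVector.frobenius : WittVector p R →+* WittVector p R)
        (BC.push ((WittVector.frobenius : WittVector p R →+* WittVector p R) ^ N)
          (WittVector.frobenius : WittVector p R →+* WittVector p R))).comp
      (BC.map (WittVector.frobenius : WittVector p R →+* WittVector p R) f))

/-- Re-indexing. -/
noncomputable def reindex (N : ℕ) :=
  (BC.castHom (P := P) (comp_pow_eq_pow_succ (WittVector.frobenius : WittVector p R →+* WittVector p R) N))

/-- Change of twist. -/
noncomputable def pushFrob (N : ℕ) :=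
  (BC.push (P := P) ((WittVector.frobenius : WittVector p R →+* WittVector p R) ^ N)
    (WittVector.frobenius : WittVector p R →+* WittVector p R))

/-- `u ⊗ x ↦ σ u ⊗ x`. -/
noncomputable def shiftMap (N : ℕ) :=
  (reindex (P := P) (p := p) (R := R) N).comp (pushFrob N)

lemma shiftMap_tmul (N : ℕ) (u : WittVector p R) (x : P) :
    shiftMap N (BC.tmul ((WittVector.frobenius : WittVector p R →+* WittVector p R) ^ N) u x) =
      BC.tmul ((WittVector.frobenius : WittVector p R →+* WittVector p R) ^ (N + 1)) (frobenius u) x := by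
  simp only [shiftMap, reindex, pushFrob, LinearMap.comp_apply]
  rw [BC.push_tmul, BC.castHom_tmul]

lemma stepMap_tmul {N : ℕ}
    (f : P →ₗ[WittVector p R] BC ((WittVector.frobenius : WittVector p R →+* WittVector p R) ^ N) P)
    (u : WittVector p R) (x : P) :
    stepMap f (BC.tmul (WittVector.frobenius : WittVector p R →+* WittVector p R) u x) =
      u • shiftMap N (f x) := by
  change BC.castHom _ (BC.lift _ _ (BC.map _ f _)) = _
  rw [BC.map_tmul, BC.lift_tmul, map_smul]
  rfl

lemma vSharpPow_succ_eq (Vs : P →ₗ[WittVector p R] BC (WittVector.frobenius : WittVector p R →+* WittVector p R) P)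
    (n : ℕ) (x : P) : vSharpPow Vs (n + 1) x = stepMap (vSharpPow Vs n) (Vs x) := rfl

variable (Vs : P →ₗ[WittVector p R] BC (WittVector.frobenius : WittVector p R →+* WittVector p R) P)

lemma exists_comp_map (b : ℕ) (J : Ideal (WittVector p R))
    (hb : ∀ x, vSharpPow Vs b x ∈ J • (⊤ : Submodule (WittVector p R) _)) :
    ∀ a : ℕ, ∃ m : ℕ, ∃ Φ : BC ((WittVector.frobenius : WittVector p R →+* WittVector p R) ^ (a + 1)) P
        →ₗ[WittVector p R] BC ((WittVector.frobenius : WittVector p R →+* WittVector p R) ^ (m + 1)) P,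
      (∀ x, vSharpPow Vs m x = Φ (vSharpPow Vs a x)) ∧
        ∀ z, Φ z ∈ J.map ((WittVector.frobenius : WittVector p R →+* WittVector p R) ^ (a + 1)) •
          (⊤ : Submodule (WittVector p R) _) := by
  intro a
  induction a with
  | zero =>
    refine ⟨b + 1, (stepMap (vSharpPow Vs b)).comp (BC.castHom (pow_one _)), fun x => ?_, fun z => ?_⟩
    · rw [vSharpPow_succ_eq, vSharpPow_zero_apply]
      change _ = stepMap _ (BC.castHom _ (BC.castHom _ (Vs x)))
      congr 1
    · change stepMap _ (BC.castHom _ z) ∈ _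
      induction BC.castHom (pow_one _) z using BC.induction_on _ with
      | zero => rw [map_zero]; exact Submodule.zero_mem _
      | tmul u y =>
        rw [stepMap_tmul]
        refine Submodule.smul_mem _ _ (semilin_smul_top_mem (shiftMap (b + 1)) ?_ (hb y))
        rw [zero_add, pow_one]
      | add z₁ z₂ h₁ h₂ => rw [map_add]; exact add_mem h₁ h₂
  | succ a ih =>
    obtain ⟨m, Φ, hΦ, himg⟩ := ih
    let Ψ : P →ₛₗ[(WittVector.frobenius : WittVector p R →+* WittVector p R) ^ (a + 1 + 1)]
        BC ((WittVector.frobenius : WittVector p R →+* WittVector p R) ^ (m + 1 + 1)) P :=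
      { toFun := fun y => shiftMap (m + 1) (Φ (BC.tmul _ 1 y))
        map_add' := fun y y' => by rw [BC.tmul_add, map_add, map_add]
        map_smul' := fun c y => by
          rw [← BC.tmul_apply_eq, BC.tmul_eq_smul_tmul_one, map_smul, map_smulₛₗ, pow_succ' _ (a + 1)]
          rfl }
    have key : ∀ z, BC.lift _ Ψ (stepMap (vSharpPow Vs a) z) = stepMap (Φ ∘ₗ vSharpPow Vs a) z := by
      intro z
      induction z using BC.induction_on _ with
      | zero => simp
      | add z₁ z₂ h₁ h₂ => simp only [map_add, h₁, h₂]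
      | tmul u y =>
        rw [stepMap_tmul, stepMap_tmul, map_smul]
        congr 1
        rw [LinearMap.comp_apply]
        induction vSharpPow Vs a y using BC.induction_on _ with
        | zero => simp
        | add z₁ z₂ h₁ h₂ => simp only [map_add, h₁, h₂]
        | tmul w y' =>
          rw [shiftMap_tmul, BC.lift_tmul]
          change frobenius w • shiftMap (m + 1) (Φ (BC.tmul _ 1 y')) = _
          rw [← map_smulₛₗ, ← map_smul, ← BC.tmul_eq_smul_tmul_one]
    refine ⟨m + 1, BC.lift _ Ψ, fun x => ?_, fun z => lift_mem Ψ (fun y => ?_) z⟩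
    · rw [vSharpPow_succ_eq, vSharpPow_succ_eq, key]
      congr 2
      exact LinearMap.ext hΦ
    · refine semilin_smul_top_mem (shiftMap (m + 1)) ?_ (himg _)
      rw [Ideal.map_map, comp_pow_eq_pow_succ]

lemma exists_mem_mul {a b : ℕ} {K J : Ideal (WittVector p R)}
    (ha : ∀ x, vSharpPow Vs a x ∈ K • (⊤ : Submodule (WittVector p R) _))
    (hb : ∀ x, vSharpPow Vs b x ∈ J • (⊤ : Submodule (WittVector p R) _)) :
    ∃ m, ∀ x, vSharpPow Vs m x ∈ (K * J.map ((WittVector.frobenius : WittVector p R →+* WittVector p R) ^ (a + 1))) •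
      (⊤ : Submodule (WittVector p R) _) := by
  obtain ⟨m, Φ, hΦ, himg⟩ := exists_comp_map Vs b J hb a
  refine ⟨m, fun x => ?_⟩
  rw [hΦ, ← smul_eq_mul, Submodule.smul_assoc]
  refine Submodule.smul_induction_on (ha x) (fun c hc y _ => ?_) (fun y y' h h' => ?_)
  · rw [map_smul]
    exact Submodule.smul_mem_smul hc (himg y)
  · rw [map_add]; exact add_mem h h'

lemma map_pow_frob_le_span_p (a : ℕ) :
    (IV p R ⊔ Ideal.span {(p : WittVector p R)}).map
      ((WittVector.frobenius : WittVector p R →+* WittVector p R) ^ (a + 1)) ≤ Ideal.span {(p : WittVector p R)} := by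
  rw [Ideal.map_le_iff_le_comap, sup_le_iff]
  constructor
  · intro x hx
    obtain ⟨w, rfl⟩ := mem_IV_iff.mp hx
    rw [Ideal.mem_comap, pow_succ, RingHom.mul_def, RingHom.comp_apply, frobenius_verschiebung, map_mul,
      map_natCast, Ideal.mem_span_singleton]
    exact dvd_mul_left _ _
  · rw [Ideal.span_le, Set.singleton_subset_iff, SetLike.mem_coe, Ideal.mem_comap, map_natCast]
    exact Ideal.mem_span_singleton_self _

lemma mul_map_pow_le (I : Ideal (WittVector p R)) (n₀ j : ℕ)
    (hI : I.map ((WittVector.frobenius : WittVector p R →+* WittVector p R) ^ (n₀ + 1)) ≤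
      Ideal.span {(p : WittVector p R)}) :
    I * (I * Ideal.span {(p : WittVector p R)} ^ j).map
        ((WittVector.frobenius : WittVector p R →+* WittVector p R) ^ (n₀ + 1)) ≤
      I * Ideal.span {(p : WittVector p R)} ^ (j + 1) := by
  refine Ideal.mul_mono le_rfl ?_
  rw [Ideal.map_mul, Ideal.map_pow, pow_succ' _ j]
  refine Ideal.mul_mono hI (le_of_eq ?_)
  rw [Ideal.map_span, Set.image_singleton, map_natCast]

lemma exists_mem_mul_pow_p (I : Ideal (WittVector p R)) (n₀ : ℕ)
    (hn₀ : ∀ x, vSharpPow Vs n₀ x ∈ I • (⊤ : Submodule (WittVector p R) _))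
    (hI : I.map ((WittVector.frobenius : WittVector p R →+* WittVector p R) ^ (n₀ + 1)) ≤
      Ideal.span {(p : WittVector p R)}) :
    ∀ j, ∃ m, ∀ x, vSharpPow Vs m x ∈ (I * Ideal.span {(p : WittVector p R)} ^ j) •
      (⊤ : Submodule (WittVector p R) _)
  | 0 => ⟨n₀, fun x => Submodule.smul_mono_left
      (le_of_eq (by rw [pow_zero, Ideal.one_eq_top, Ideal.mul_top])) (hn₀ x)⟩
  | j + 1 => by
    obtain ⟨m, hm⟩ := exists_mem_mul_pow_p I n₀ hn₀ hI j
    obtain ⟨m', hm'⟩ := exists_mem_mul Vs hn₀ hm
    exact ⟨m', fun x => Submodule.smul_mono_left (mul_map_pow_le I n₀ j hI) (hm' x)⟩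

lemma exists_mem_pow_p (h : IsVNilpotent Vs) (j : ℕ) :
    ∃ m, ∀ x, vSharpPow Vs m x ∈ (Ideal.span {(p : WittVector p R)}) ^ j •
      (⊤ : Submodule (WittVector p R) _) := by
  obtain ⟨n₀, hn₀⟩ := h
  have hI := map_pow_frob_le_span_p (p := p) (R := R) n₀
  obtain ⟨m, hm⟩ := exists_mem_mul_pow_p Vs (IV p R ⊔ Ideal.span {(p : WittVector p R)}) n₀ hn₀ hI j
  refine ⟨m, fun x => ?_⟩
  have hle : (IV p R ⊔ Ideal.span {(p : WittVector p R)}) * Ideal.span {(p : WittVector p R)} ^ j ≤
      Ideal.span {(p : WittVector p R)} ^ j := Ideal.mul_le_right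
  exact Submodule.smul_mono_left hle (hm x)

lemma natCast_pow_mem_ker_truncate (hp : IsNilpotent (p : R)) (n : ℕ) :
    ∃ j, (p : WittVector p R) ^ j ∈ RingHom.ker (WittVector.truncate (p := p) (R := R) n) := by
  obtain ⟨a, ha⟩ := hp
  have h1 : ∃ w, (p : WittVector p R) ^ a = verschiebung w := by
    rw [← mem_IV_iff, IV_eq_ker, RingHom.mem_ker, map_pow, map_natCast, ha]
  obtain ⟨w, hw⟩ := h1
  induction n with
  | zero => exact ⟨0, (mem_ker_truncate 0 _).mpr fun i hi => absurd hi (Nat.not_lt_zero i)⟩
  | succ n ih =>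
    obtain ⟨j, hj⟩ := ih
    refine ⟨j + a, (mem_ker_truncate _ _).mpr ?_⟩
    have e : ∀ (i c : ℕ) (y : WittVector p R),
        verschiebung^[i] y * (c : WittVector p R) = verschiebung^[i] (y * (c : WittVector p R)) := by
      intro i c
      induction i with
      | zero => intro y; rfl
      | succ i ih =>
        intro y
        rw [Function.iterate_succ_apply', Function.iterate_succ_apply', ← ih,
          show verschiebung (verschiebung^[i] y * (c : WittVector p R)) =
            verschiebung (verschiebung^[i] y * frobenius (c : WittVector p R)) by rw [map_natCast],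
          verschiebung_mul_frobenius]
    rw [pow_add, WittVector.eq_iterate_verschiebung ((mem_ker_truncate n _).mp hj),
      show (p : WittVector p R) ^ a = ((p ^ a : ℕ) : WittVector p R) by push_cast; rfl, e,
      show ((p ^ a : ℕ) : WittVector p R) = verschiebung w by push_cast; exact hw, mul_comm,
      ← verschiebung_mul_frobenius, ← Function.iterate_succ_apply]
    exact fun i hi => iterate_verschiebung_coeff_eq_zero _ hi

lemma exists_mem_ker_truncate (hp : IsNilpotent (p : R)) (h : IsVNilpotent Vs) (n : ℕ) :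
    ∃ N : ℕ, ∀ x : P, vSharpPow Vs N x ∈
      (RingHom.ker (WittVector.truncate (p := p) (R := R) n)) • (⊤ : Submodule (WittVector p R) _) := by
  obtain ⟨j, hj⟩ := natCast_pow_mem_ker_truncate hp n
  obtain ⟨m, hm⟩ := exists_mem_pow_p Vs h j
  refine ⟨m, fun x => Submodule.smul_mono_left ?_ (hm x)⟩
  rw [Ideal.span_singleton_pow, Ideal.span_le, Set.singleton_subset_iff]
  exact hj

end DispLib
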