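import Groth.Agent.DispLib.Iterate
import Mathlib.Algebra.CharP.Lemmas
import Mathlib.RingTheory.WittVector.Frobenius
import Mathlib.LinearAlgebra.Basis.Basic

/-!
# Rigidity of modules with a Frobenius-linear isomorphism
-/

namespace DispLib

open WittVector

universe u v w z

variable {p : ℕ} [Fact p.Prime] {S : Type u} [CommRing S]

lemma constantCoeff_frobeniusPolyAux (n : ℕ) :
    MvPolynomial.constantCoeff (WittVector.frobeniusPolyAux p n) = 0 := by
  have h := WittVector.coeff_frobenius (0 : WittVector p ℤ) n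
  rw [map_zero, WittVector.zero_coeff,
    show (0 : WittVector p ℤ).coeff = (0 : ℕ → ℤ) from funext fun i => WittVector.zero_coeff p ℤ i,
    WittVector.frobeniusPoly] at h
  simp [MvPolynomial.aeval_zero, (Fact.out : p.Prime).ne_zero] at h
  exact h

lemma aeval_mem {b : Ideal S} (q : MvPolynomial ℕ ℤ) (hq : MvPolynomial.constantCoeff q = 0) (x : ℕ → S)
    (hx : ∀ i, x i ∈ b) : MvPolynomial.aeval x q ∈ b := by
  rw [← Ideal.Quotient.eq_zero_iff_mem]
  have h := MvPolynomial.comp_aeval_apply x (Ideal.Quotient.mkₐ ℤ b) q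
  rw [Ideal.Quotient.mkₐ_eq_mk] at h
  rw [h, show (fun i => Ideal.Quotient.mk b (x i)) = 0 from funext fun i => Ideal.Quotient.eq_zero_iff_mem.mpr (hx i)]
  simp [MvPolynomial.aeval_zero, hq]

lemma coeff_frobenius_mem {b b' : Ideal S} (h1 : ∀ y ∈ b, y ^ p ∈ b') (h2 : ∀ y ∈ b, (p : S) * y ∈ b')
    (x : WittVector p S) (hx : ∀ i, x.coeff i ∈ b) (n : ℕ) : (frobenius x).coeff n ∈ b' := by
  rw [WittVector.coeff_frobenius, WittVector.frobeniusPoly, map_add, map_pow, MvPolynomial.aeval_X, map_mul,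
    MvPolynomial.aeval_C]
  refine add_mem (h1 _ (hx n)) ?_
  rw [map_natCast]
  exact h2 _ (aeval_mem _ (constantCoeff_frobeniusPolyAux n) _ hx)

variable {R : Type u} [CommRing R]

lemma pow_frobenius_eq_zero (φ : S →+* R) (hp : IsNilpotent (p : S)) (N : ℕ) (hN : ∀ a : S, φ a = 0 → a ^ N = 0) :
    ∃ M, ∀ x ∈ RingHom.ker (WittVector.map (p := p) φ),
      ((WittVector.frobenius : WittVector p S →+* WittVector p S) ^ M) x = 0 := by
  classical
  obtain ⟨e, he⟩ := hp
  have hp2 := (Fact.out : p.Prime).two_le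
  let c : ℕ → Ideal S := fun j => Ideal.span ((fun y => y ^ (p ^ j)) '' (RingHom.ker φ : Set S)) ⊔ Ideal.span {(p : S)}
  have hc : ∀ j, ∀ y ∈ c j, y ^ p ∈ c (j + 1) := by
    intro j y hy
    obtain ⟨a, ha, b, hb, rfl⟩ := Submodule.mem_sup.mp hy
    obtain ⟨r, hr⟩ := exists_add_pow_prime_eq (Fact.out : p.Prime) a b
    have hpr : ∀ s : S, (p : S) * s ∈ c (j + 1) := fun s =>
      Ideal.mem_sup_right (Ideal.mul_mem_right _ _ (Ideal.mem_span_singleton_self _))
    rw [hr]
    refine add_mem (add_mem ?_ (Ideal.mem_sup_right (Ideal.pow_mem_of_mem _ hb p (Fact.out : p.Prime).pos)))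
      (by rw [mul_assoc, mul_assoc]; exact hpr _)
    clear hy hr
    induction ha using Submodule.span_induction with
    | mem x hx =>
      obtain ⟨y, hy, rfl⟩ := hx
      exact Ideal.mem_sup_left (Submodule.subset_span ⟨y, hy, by simp [pow_succ, pow_mul]⟩)
    | zero => rw [zero_pow (Fact.out : p.Prime).ne_zero]; exact zero_mem _
    | add x y _ _ hx hy =>
      obtain ⟨r', hr'⟩ := exists_add_pow_prime_eq (Fact.out : p.Prime) x y
      rw [hr']
      exact add_mem (add_mem hx hy) (by rw [mul_assoc, mul_assoc]; exact hpr _)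
    | smul s x _ hx => rw [smul_eq_mul, mul_pow]; exact Ideal.mul_mem_left _ _ hx
  have stage1 : ∀ j, ∀ x ∈ RingHom.ker (WittVector.map (p := p) φ),
      ∀ i, (((WittVector.frobenius : WittVector p S →+* WittVector p S) ^ j) x).coeff i ∈ c j := by
    intro j
    induction j with
    | zero =>
      intro x hx i
      refine Ideal.mem_sup_left (Submodule.subset_span ⟨x.coeff i, ?_, by simp⟩)
      have := congrArg (fun w : WittVector p R => w.coeff i) (RingHom.mem_ker.mp hx)
      simpa using this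
    | succ j ih =>
      intro x hx i
      rw [pow_succ', RingHom.mul_def, RingHom.comp_apply]
      exact coeff_frobenius_mem (hc j)
        (fun y _ => Ideal.mem_sup_right (Ideal.mul_mem_right _ _ (Ideal.mem_span_singleton_self _))) _ (ih x hx) i
  have hN1 : N ≤ p ^ N := (Nat.lt_pow_self hp2).le
  have hcN : c N ≤ Ideal.span {(p : S)} := by
    refine sup_le ?_ le_rfl
    rw [Ideal.span_le]
    rintro _ ⟨y, hy, rfl⟩
    rw [SetLike.mem_coe]
    dsimp only
    rw [show y ^ (p ^ N) = y ^ N * y ^ (p ^ N - N) by rw [← pow_add, Nat.add_sub_cancel' hN1],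
      hN y hy, zero_mul]
    exact zero_mem _
  have stage2 : ∀ j, ∀ x ∈ RingHom.ker (WittVector.map (p := p) φ),
      ∀ i, (((WittVector.frobenius : WittVector p S →+* WittVector p S) ^ (N + j)) x).coeff i ∈
        Ideal.span {(p : S) ^ (j + 1)} := by
    intro j
    induction j with
    | zero => intro x hx i; simpa using hcN (stage1 N x hx i)
    | succ j ih =>
      intro x hx i
      rw [← add_assoc, pow_succ' (WittVector.frobenius : WittVector p S →+* WittVector p S) (N + j),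
        RingHom.mul_def, RingHom.comp_apply]
      refine coeff_frobenius_mem (fun y hy => ?_) (fun y hy => ?_) _ (ih x hx) i
      · obtain ⟨d, rfl⟩ := Ideal.mem_span_singleton.mp hy
        rw [mul_pow, ← pow_mul, Ideal.mem_span_singleton]
        exact Dvd.dvd.mul_right (pow_dvd_pow _ (by nlinarith)) _
      · obtain ⟨d, rfl⟩ := Ideal.mem_span_singleton.mp hy
        rw [Ideal.mem_span_singleton, ← mul_assoc, ← pow_succ']
        exact dvd_mul_right _ _
  refine ⟨N + e, fun x hx => WittVector.ext fun i => ?_⟩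
  have := stage2 e x hx i
  rw [Ideal.mem_span_singleton, pow_succ, he, zero_mul, zero_dvd_iff] at this
  rw [this, WittVector.zero_coeff]

section Abstract

variable {A : Type u} [CommRing A] {s : A →+* A}
variable {P₁ : Type v} [AddCommGroup P₁] [Module A P₁] {P₂ : Type w} [AddCommGroup P₂] [Module A P₂]

lemma forall_mem_of_basis {ι : Type z} (b : Module.Basis ι A P₁) (α : P₁ →ₗ[A] P₂) (N : Submodule A P₂)
    (h : ∀ i, α (b i) ∈ N) (x : P₁) : α x ∈ N := by
  have : (⊤ : Submodule A P₁) ≤ N.comap α := by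
    rw [← b.span_eq, Submodule.span_le]
    rintro _ ⟨i, rfl⟩
    exact h i
  exact this Submodule.mem_top

lemma exists_unique_lift {ι₁ : Type z} (b₁ : Module.Basis ι₁ A P₁)
    (F₁ : P₁ →ₛₗ[s] P₁) (F₂ : P₂ →ₛₗ[s] P₂)
    (hF₁ : LinearIndependent A (fun i => F₁ (b₁ i)) ∧ Submodule.span A (Set.range fun i => F₁ (b₁ i)) = ⊤)
    (K : Ideal A) (hKs : ∀ x ∈ K, s x ∈ K) (M : ℕ) (hM : ∀ x ∈ K, (s ^ M) x = 0)
    (α₀ : P₁ →ₗ[A] P₂) (hα₀ : ∀ x, F₂ (α₀ x) - α₀ (F₁ x) ∈ K • (⊤ : Submodule A P₂)) :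
    ∃! α : P₁ →ₗ[A] P₂, (∀ x, α x - α₀ x ∈ K • (⊤ : Submodule A P₂)) ∧ ∀ x, F₂ (α x) = α (F₁ x) := by
  let b' := Module.Basis.mk hF₁.1 (le_of_eq hF₁.2.symm)
  let U : (P₁ →ₗ[A] P₂) → (P₁ →ₗ[A] P₂) := fun α => b'.constr A fun i => F₂ (α (b₁ i))
  have hU : ∀ α i, U α (b' i) = F₂ (α (b₁ i)) := fun α i => Module.Basis.constr_basis ..
  have hb' : ∀ i, b' i = F₁ (b₁ i) := fun i => Module.Basis.mk_apply ..
  have hUsub : ∀ α β, U α - U β = U (α - β) := fun α β => b'.ext fun i => by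
    rw [LinearMap.sub_apply, hU, hU, hU, LinearMap.sub_apply, map_sub]
  have hfix : ∀ α, U α = α ↔ ∀ x, F₂ (α x) = α (F₁ x) := by
    intro α
    constructor
    · intro h x
      have h1 : ∀ i, F₂ (α (b₁ i)) = α (F₁ (b₁ i)) := fun i => by
        rw [← hb', ← hU, h]
      have hx : x ∈ Submodule.span A (Set.range b₁) := b₁.span_eq ▸ Submodule.mem_top
      induction hx using Submodule.span_induction with
      | mem y hy => obtain ⟨i, rfl⟩ := hy; exact h1 i
      | zero => simp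
      | add y y' _ _ hy hy' => simp [hy, hy']
      | smul c y _ hy => simp [map_smulₛₗ, hy]
    · exact fun h => b'.ext fun i => by rw [hU, hb', h]
  have hpow : ∀ (j : ℕ) (δ : P₁ →ₗ[A] P₂), (∀ x, δ x ∈ K • (⊤ : Submodule A P₂)) →
      ∀ x, U^[j] δ x ∈ (K.map (s ^ j)) • (⊤ : Submodule A P₂) := by
    intro j
    induction j with
    | zero =>
      intro δ hδ x
      rw [pow_zero, RingHom.one_def, Ideal.map_id]
      exact hδ x
    | succ j ih =>
      intro δ hδ
      rw [Function.iterate_succ_apply']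
      refine forall_mem_of_basis b' _ _ fun i => ?_
      rw [hU]
      exact semilin_smul_top_mem F₂ (by rw [Ideal.map_map, pow_succ']; rfl) (ih δ hδ (b₁ i))
  have hzero : ∀ δ : P₁ →ₗ[A] P₂, (∀ x, δ x ∈ K • (⊤ : Submodule A P₂)) → U^[M] δ = 0 := by
    intro δ hδ
    refine LinearMap.ext fun x => ?_
    have h := hpow M δ hδ x
    rw [show K.map (s ^ M) = ⊥ from (Ideal.map_eq_bot_iff_le_ker _).mpr fun y hy => hM y hy,
      Submodule.bot_smul, Submodule.mem_bot] at h
    exact h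
  have hiter : ∀ (j : ℕ) α β, U^[j] α - U^[j] β = U^[j] (α - β) := by
    intro j
    induction j with
    | zero => intros; rfl
    | succ j ih => intro α β; simp only [Function.iterate_succ_apply', hUsub, ih]
  have hmemK : ∀ (δ : P₁ →ₗ[A] P₂), (∀ x, δ x ∈ K • (⊤ : Submodule A P₂)) →
      ∀ x, U δ x ∈ K • (⊤ : Submodule A P₂) := by
    intro δ hδ
    refine forall_mem_of_basis b' _ _ fun i => ?_
    rw [hU]
    exact semilin_smul_top_mem F₂ (Ideal.map_le_iff_le_comap.mpr hKs) (hδ (b₁ i))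
  have hstep : ∀ j, ∀ x, U^[j] α₀ x - α₀ x ∈ K • (⊤ : Submodule A P₂) := by
    intro j
    induction j with
    | zero => intro x; rw [Function.iterate_zero_apply, sub_self]; exact Submodule.zero_mem _
    | succ j ih =>
      intro x
      have h0 : ∀ x, (U α₀ - α₀) x ∈ K • (⊤ : Submodule A P₂) := by
        refine forall_mem_of_basis b' _ _ fun i => ?_
        rw [LinearMap.sub_apply, hU, hb']
        exact hα₀ (b₁ i)
      have h1 := hmemK (U^[j] α₀ - α₀) ih x
      rw [← hUsub, LinearMap.sub_apply] at h1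
      have := add_mem h1 (h0 x)
      rw [LinearMap.sub_apply, sub_add_sub_cancel] at this
      rw [Function.iterate_succ_apply']
      exact this
  refine ⟨U^[M] α₀, ⟨hstep M, (hfix _).mp ?_⟩, fun β hβ => ?_⟩
  · have hd : ∀ x, (U α₀ - α₀) x ∈ K • (⊤ : Submodule A P₂) := fun x => hstep 1 x
    rw [← sub_eq_zero, ← Function.iterate_succ_apply' U M, Function.iterate_succ_apply, hiter]
    exact hzero _ hd
  · have hβfix : ∀ j, U^[j] β = β := fun j => Function.iterate_fixed ((hfix β).mpr hβ.2) j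
    rw [← sub_eq_zero, ← hβfix M, hiter]
    exact hzero _ fun x => hβ.1 x

end Abstract

theorem rigidity (φ : S →+* R) (hp : IsNilpotent (p : S)) (N : ℕ) (hN : ∀ a : S, φ a = 0 → a ^ N = 0)
    {P₁ : Type v} [AddCommGroup P₁] [Module (WittVector p S) P₁]
    {P₂ : Type w} [AddCommGroup P₂] [Module (WittVector p S) P₂]
    {ι₁ : Type z} (b₁ : Module.Basis ι₁ (WittVector p S) P₁)
    (F₁ : P₁ →ₛₗ[(WittVector.frobenius : WittVector p S →+* WittVector p S)] P₁)
    (F₂ : P₂ →ₛₗ[(WittVector.frobenius : WittVector p S →+* WittVector p S)] P₂)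
    (hF₁ : LinearIndependent (WittVector p S) (fun i => F₁ (b₁ i)) ∧
      Submodule.span (WittVector p S) (Set.range fun i => F₁ (b₁ i)) = ⊤)
    (𝔠 : Ideal (WittVector p S)) (h𝔠 : 𝔠 ≤ RingHom.ker (WittVector.map (p := p) φ))
    (h𝔠F : ∀ x ∈ 𝔠, WittVector.frobenius x ∈ 𝔠)
    (α₀ : P₁ →ₗ[WittVector p S] P₂)
    (hα₀ : ∀ x : P₁, F₂ (α₀ x) - α₀ (F₁ x) ∈ 𝔠 • (⊤ : Submodule (WittVector p S) P₂)) :
    ∃! α : P₁ →ₗ[WittVector p S] P₂,
      (∀ x : P₁, α x - α₀ x ∈ 𝔠 • (⊤ : Submodule (WittVector p S) P₂)) ∧ ∀ x : P₁, F₂ (α x) = α (F₁ x) := by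
  obtain ⟨M, hM⟩ := pow_frobenius_eq_zero φ hp N hN
  exact exists_unique_lift b₁ F₁ F₂ hF₁ 𝔠 h𝔠F M (fun x hx => hM x (h𝔠 hx)) α₀ hα₀

lemma ker_map_frobenius_mem (φ : S →+* R) :
    ∀ x ∈ RingHom.ker (WittVector.map (p := p) φ), WittVector.frobenius x ∈ RingHom.ker (WittVector.map (p := p) φ) := by
  intro x hx
  rw [RingHom.mem_ker] at hx ⊢
  rw [show (WittVector.map (p := p) φ) (frobenius x) = frobenius ((WittVector.map (p := p) φ) x) from
    (frobenius_isPoly p).map φ x, hx, map_zero]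

end DispLib
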