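import Groth.Agent.DispLib.NormalDecomp
import Mathlib.RingTheory.Flat.LocallyFree
import Mathlib.RingTheory.IsTensorProduct
import Mathlib.RingTheory.Jacobson.Ideal
import Mathlib.LinearAlgebra.Projection

/-!
# Existence and uniqueness of `V^#`
-/

namespace DispLib

open W4c1extbt610 Dieu
open scoped TensorProduct

universe u v

section Twisted

variable {A : Type u} [CommRing A]

/-- A copy of `A`, mapped to `A` by an endomorphism. -/
@[nolint unusedArguments]
def Dom (_s : A →+* A) : Type u := A

variable (s : A →+* A)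

instance : CommRing (Dom s) := inferInstanceAs (CommRing A)

/-- The identity `Dom s → A`, as a ring map. -/
def domId : Dom s →+* A := RingHom.id A

instance : Algebra (Dom s) A := (s.comp (domId s)).toAlgebra

variable (P : Type v) [AddCommGroup P] [Module A P] [Module.Finite A P] [Module.Projective A P]

lemma bc_finite_projective : Module.Finite A (BC s P) ∧ Module.Projective A (BC s P) := by
  obtain ⟨n, d, c, -, -, hdc⟩ := Module.Finite.exists_comp_eq_id_of_projective A P
  let dR := Fintype.linearCombination A (fun i => BC.tmul s 1 (d (Pi.single i 1)))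
  let cR : BC s P →ₗ[A] Fin n → A :=
    LinearMap.pi fun i => BC.lift s ((semilinearOfRingHom s).comp (LinearMap.proj i ∘ₗ c))
  have hdcR : dR ∘ₗ cR = LinearMap.id := BC.ext s fun y => by
    conv_rhs => rw [LinearMap.id_apply, ← show d (c y) = y from LinearMap.congr_fun hdc y,
      pi_eq_sum_univ' (c y), map_sum, ← BC.ι_apply, map_sum]
    rw [LinearMap.comp_apply, Fintype.linearCombination_apply]
    refine Finset.sum_congr rfl fun i _ => ?_
    rw [map_smul, map_smulₛₗ, LinearMap.pi_apply, BC.lift_tmul, one_smul, BC.ι_apply]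
    rfl
  exact ⟨Module.Finite.of_surjective dR fun z => ⟨cR z, LinearMap.congr_fun hdcR z⟩,
    Module.Projective.of_split cR dR hdcR⟩

lemma rankAtStalk_bc (q : PrimeSpectrum A) :
    Module.rankAtStalk (BC s P) q = Module.rankAtStalk P (q.comap s) := by
  let : Module (Dom s) P := inferInstanceAs (Module A P)
  have : Module.Finite (Dom s) P := inferInstanceAs (Module.Finite A P)
  have : Module.Projective (Dom s) P := inferInstanceAs (Module.Projective A P)
  let : Module (Dom s) (BC s P) := Module.compHom _ (s.comp (domId s))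
  have : IsScalarTower (Dom s) A (BC s P) := ⟨fun a b z => mul_smul (s (domId s a)) b z⟩
  let f : P →ₗ[Dom s] BC s P :=
    { toFun := BC.tmul s 1
      map_add' := BC.tmul_add s 1
      map_smul' := fun a y => by
        change BC.tmul s 1 (domId s a • y) = s (domId s a) • BC.tmul s 1 y
        rw [← BC.tmul_apply_eq, BC.tmul_eq_smul_tmul_one] }
  let φ : P →ₛₗ[s] A ⊗[Dom s] P :=
    { toFun := fun y => (1 : A) ⊗ₜ y
      map_add' := TensorProduct.tmul_add _
      map_smul' := fun a y => by
        let a' : Dom s := a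
        change (1 : A) ⊗ₜ[Dom s] (a' • y) = s a • ((1 : A) ⊗ₜ[Dom s] y)
        rw [← TensorProduct.smul_tmul a' (1 : A) y, TensorProduct.smul_tmul']
        rfl }
  have h1 : f.liftBaseChange A ∘ₗ BC.lift s φ = LinearMap.id := BC.ext s fun y => by
    rw [LinearMap.comp_apply, BC.lift_tmul, one_smul]
    change f.liftBaseChange A ((1 : A) ⊗ₜ y) = _
    rw [LinearMap.liftBaseChange_tmul, one_smul]
    rfl
  have h2 : BC.lift s φ ∘ₗ f.liftBaseChange A = LinearMap.id := by
    refine TensorProduct.AlgebraTensorModule.ext fun a y => ?_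
    rw [LinearMap.comp_apply, LinearMap.liftBaseChange_tmul, map_smul]
    change a • BC.lift s φ (BC.tmul s 1 y) = _
    rw [BC.lift_tmul, one_smul]
    change a • ((1 : A) ⊗ₜ[Dom s] y) = a ⊗ₜ y
    rw [TensorProduct.smul_tmul', smul_eq_mul, mul_one]
  have hb : IsBaseChange A f := IsBaseChange.of_equiv
    (LinearEquiv.ofLinear (f.liftBaseChange A) (BC.lift s φ) h1 h2) fun x => by
      rw [LinearEquiv.ofLinear_apply, LinearMap.liftBaseChange_tmul, one_smul]
  rw [Module.rankAtStalk_isBaseChange hb q]
  rfl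

lemma bijective_lift_of_surjective (φ : P →ₛₗ[s] P) (hsurj : Function.Surjective (BC.lift s φ))
    (hs : ∀ (m : Ideal A) [m.IsMaximal], m.comap s = m) : Function.Bijective (BC.lift s φ) := by
  obtain ⟨h1, h2⟩ := bc_finite_projective s P
  refine Module.bijective_of_surjective_of_rankAtStalk_eq hsurj fun m _ => ?_
  rw [rankAtStalk_bc]
  exact congrArg (Module.rankAtStalk (R := A) P) (PrimeSpectrum.ext (hs m))

end Twisted

open WittVector

variable {p : ℕ} [Fact p.Prime] {R : Type u} [CommRing R]

lemma isAdicComplete_of_isNilpotent (hp : IsNilpotent (p : R)) : IsAdicComplete (Ideal.span {(p : R)}) R := by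
  obtain ⟨a, ha⟩ := hp
  have h0 : Ideal.span {(p : R)} ^ a = ⊥ := by rw [Ideal.span_singleton_pow, ha, Ideal.span_singleton_eq_bot]
  exact { haus' := fun x hx => by
            have := hx a
            rwa [SModEq.zero, h0, Submodule.bot_smul, Submodule.mem_bot] at this
          prec' := fun g hg => ⟨g a, fun n => by
            rcases le_total n a with h | h
            · exact hg h
            · have := hg h
              rw [SModEq.sub_mem, h0, Submodule.bot_smul, Submodule.mem_bot, sub_eq_zero] at this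
              rw [this]⟩ }

lemma IV_le_jacobson (hp : IsNilpotent (p : R)) : IV p R ≤ Ideal.jacobson ⊥ := by
  have := isAdicComplete_of_isNilpotent hp
  intro x hx
  rw [Ideal.mem_jacobson_bot]
  intro y
  set z := -(x * y)
  have hz : z ∈ IV p R := (IV p R).neg_mem (Ideal.mul_mem_right _ _ hx)
  obtain ⟨L, hL⟩ := exists_limit (fun i => ∑ l ∈ Finset.range (i + 1), z ^ l) fun i => by
    rw [Finset.sum_range_succ _ (i + 1), add_sub_cancel_left]
    exact Ideal.pow_mem_pow hz _
  refine IsUnit.of_mul_eq_one L (sub_eq_zero.mp (eq_zero_of_piTrunc fun n j => ?_))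
  obtain ⟨i₀, hi₀⟩ := hL n j
  obtain ⟨m, hm⟩ := exists_piTrunc_IV_pow (p := p) (R := R) n j
  rw [map_sub, map_mul, hi₀ _ (le_max_left i₀ m), ← map_mul, ← map_sub]
  have e : (x * y + 1) * ∑ l ∈ Finset.range (max i₀ m + 1), z ^ l - 1 = -z ^ (max i₀ m + 1) := by
    rw [show x * y + 1 = 1 - z by simp [z, add_comm], mul_neg_geom_sum]
    ring
  rw [e]
  exact hm _ ((IV p R ^ m).neg_mem (Ideal.pow_le_pow_right (by omega) (Ideal.pow_mem_pow hz _)))

lemma comap_frobenius_maximal (hp : IsNilpotent (p : R)) (m : Ideal (WittVector p R)) [m.IsMaximal] :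
    m.comap (WittVector.frobenius : WittVector p R →+* WittVector p R) = m := by
  have hI : IV p R ≤ m := (IV_le_jacobson hp).trans (sInf_le ⟨bot_le, inferInstance⟩)
  have hpm : (p : WittVector p R) ∈ m := by
    obtain ⟨a, ha⟩ := hp
    refine Ideal.IsPrime.mem_of_pow_mem inferInstance a (hI ?_)
    rw [IV_eq_ker, RingHom.mem_ker, map_pow, map_natCast, ha]
  have key : ∀ x : WittVector p R, frobenius x - x ^ p ∈ m := by
    intro x
    have e : ∃ r, (frobenius x - x ^ p).coeff 0 = (p : R) * r := by
      refine ⟨MvPolynomial.aeval x.coeff (WittVector.frobeniusPolyAux p 0), ?_⟩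
      change WittVector.constantCoeff (frobenius x - x ^ p) = _
      rw [map_sub, map_pow]
      change (frobenius x).coeff 0 - x.coeff 0 ^ p = _
      rw [WittVector.coeff_frobenius, WittVector.frobeniusPoly, map_add, map_pow, MvPolynomial.aeval_X, map_mul,
        MvPolynomial.aeval_C, map_natCast]
      ring
    obtain ⟨r, hr⟩ := e
    obtain ⟨w, hw⟩ := constantCoeff_surjective p r
    have : frobenius x - x ^ p - (p : WittVector p R) * w ∈ IV p R := by
      rw [IV_eq_ker, RingHom.mem_ker, map_sub, map_mul, map_natCast, hw, ← hr]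
      exact sub_self _
    have h2 := add_mem (hI this) (m.mul_mem_right w hpm)
    rwa [sub_add_cancel] at h2
  ext x
  rw [Ideal.mem_comap]
  constructor
  · intro h
    have := sub_mem h (key x)
    rw [sub_sub_cancel] at this
    exact Ideal.IsPrime.mem_of_pow_mem inferInstance p this
  · intro h
    have := add_mem (key x) (m.pow_mem_of_mem h p (Fact.out : p.Prime).pos)
    rwa [sub_add_cancel] at this

theorem existsUnique_vSharp (hp : IsNilpotent (p : R)) {P : Type v} [AddCommGroup P] [Module (WittVector p R) P]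
    (D : Display3n p R P) :
    ∃! Vs : P →ₗ[WittVector p R] BC (WittVector.frobenius : WittVector p R →+* WittVector p R) P,
      IsVSharp D Vs := by
  let σ' := (WittVector.frobenius : WittVector p R →+* WittVector p R)
  obtain ⟨L, T, hLT, hQ⟩ := D.exists_normal
  have := D.finite
  have := D.projective
  let πT : P →ₗ[WittVector p R] P := T.subtype ∘ₗ Submodule.projectionOnto T L hLT.symm
  let πL : P →ₗ[WittVector p R] P := L.subtype ∘ₗ Submodule.projectionOnto L T hLT
  have hLQ : L ≤ D.Q := hQ ▸ le_sup_left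
  have hadd : ∀ y, πL y + πT y = y := Submodule.projection_add_projection_eq_self hLT
  let h : P →ₛₗ[σ'] P :=
    D.Vinv.comp (πL.codRestrict D.Q fun y => hLQ (Submodule.projectionOnto L T hLT y).2) + D.F.comp πT
  have hl : ∀ l, ∀ hl : l ∈ L, h l = D.Vinv ⟨l, hLQ hl⟩ ∧ πL l = l ∧ πT l = 0 := by
    intro l hl
    have e1 : πL l = l := by
      simp [πL, Submodule.projectionOnto_apply_of_mem_left hLT hl]
    have e2 : πT l = 0 := by
      simp [πT, Submodule.projectionOnto_apply_of_mem_right hLT.symm hl]
    refine ⟨?_, e1, e2⟩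
    simp only [h, LinearMap.add_apply, LinearMap.comp_apply, e2, map_zero, add_zero]
    exact congrArg D.Vinv (Subtype.ext e1)
  have ht : ∀ t, t ∈ T → h t = D.F t ∧ πL t = 0 ∧ πT t = t := by
    intro t ht
    have e1 : πT t = t := by
      simp [πT, Submodule.projectionOnto_apply_of_mem_left hLT.symm ht]
    have e2 : πL t = 0 := by
      simp [πL, Submodule.projectionOnto_apply_of_mem_right hLT ht]
    refine ⟨?_, e2, e1⟩
    simp only [h, LinearMap.add_apply, LinearMap.comp_apply, e1]
    rw [show πL.codRestrict D.Q (fun y => hLQ (Submodule.projectionOnto L T hLT y).2) t = 0 from Subtype.ext e2,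
      map_zero, zero_add]
  let Φ := BC.lift σ' h
  have hsurj : Function.Surjective Φ := by
    rw [← LinearMap.range_eq_top, eq_top_iff, ← D.span_range_Vinv, Submodule.span_le]
    rintro _ ⟨q, rfl⟩
    have hle : D.Q ≤ ((LinearMap.range Φ).comap D.Vinv).map D.Q.subtype := by
      nth_rewrite 1 [hQ]
      refine sup_le (fun x hx => ⟨⟨x, hLQ hx⟩, ⟨BC.tmul σ' 1 x, ?_⟩, rfl⟩) (Submodule.smul_le.mpr fun a ha t htT => ?_)
      · rw [BC.lift_tmul, one_smul, (hl x hx).1]
      · obtain ⟨w, rfl⟩ := mem_IV_iff.mp ha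
        refine ⟨⟨verschiebung w • t, D.IV_smul_le (Submodule.smul_mem_smul (verschiebung_mem_IV p R w) Submodule.mem_top)⟩,
          ⟨BC.tmul σ' w t, ?_⟩, rfl⟩
        rw [BC.lift_tmul, (ht t htT).1, D.Vinv_verschiebung_smul]
    obtain ⟨q', hq', e⟩ := hle q.2
    obtain rfl : q' = q := Subtype.ext e
    exact hq'
  have hbij := bijective_lift_of_surjective σ' P h hsurj fun m _ => comap_frobenius_maximal hp m
  let e := LinearEquiv.ofBijective Φ hbij
  let K := BC.map σ' (πL + (p : WittVector p R) • πT)
  have happ : ∀ u y, e.symm (u • h y) = BC.tmul σ' u y := fun u y => e.injective (by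
    rw [LinearEquiv.apply_symm_apply]
    exact (BC.lift_tmul σ' h u y).symm)
  let Vs := K.comp e.symm.toLinearMap
  have hV : Vs.comp D.Vinv = (BC.ι σ' P).comp D.Q.subtype := by
    have hle : D.Q ≤ (LinearMap.eqLocus (Vs.comp D.Vinv) ((BC.ι σ' P).comp D.Q.subtype)).map D.Q.subtype := by
      nth_rewrite 1 [hQ]
      refine sup_le (fun x hx => ⟨⟨x, hLQ hx⟩, ?_, rfl⟩) (Submodule.smul_le.mpr fun a ha t htT => ?_)
      · rw [SetLike.mem_coe, LinearMap.mem_eqLocus]
        change K (e.symm (D.Vinv ⟨x, hLQ hx⟩)) = BC.tmul σ' 1 x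
        rw [← (hl x hx).1, ← one_smul (WittVector p R) (h x), happ, BC.map_tmul, LinearMap.add_apply,
          LinearMap.smul_apply, (hl x hx).2.1, (hl x hx).2.2, smul_zero, add_zero]
      · obtain ⟨w, rfl⟩ := mem_IV_iff.mp ha
        refine ⟨⟨verschiebung w • t, D.IV_smul_le (Submodule.smul_mem_smul (verschiebung_mem_IV p R w) Submodule.mem_top)⟩,
          ?_, rfl⟩
        rw [SetLike.mem_coe, LinearMap.mem_eqLocus]
        change K (e.symm (D.Vinv _)) = BC.tmul σ' 1 (verschiebung w • t)
        rw [D.Vinv_verschiebung_smul, ← (ht t htT).1, happ, BC.map_tmul, LinearMap.add_apply, LinearMap.smul_apply,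
          (ht t htT).2.1, (ht t htT).2.2, zero_add, ← BC.tmul_mul_apply, map_natCast, ← BC.tmul_apply_eq,
          frobenius_verschiebung]
    refine LinearMap.ext fun z => ?_
    obtain ⟨z', hz', e'⟩ := hle z.2
    obtain rfl : z' = z := Subtype.ext e'
    exact hz'
  have hVs : IsVSharp D Vs := by
    refine ⟨fun w x => ?_, fun w y => ?_⟩
    · rw [map_smul]
      have hFL : Vs (D.F (πL x)) = (p : WittVector p R) • BC.tmul σ' 1 (πL x) := by
        have hq : πL x ∈ D.Q := hLQ (Submodule.projectionOnto L T hLT x).2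
        rw [F_mem_Q D ⟨πL x, hq⟩, map_smul]
        exact congrArg _ (LinearMap.congr_fun hV ⟨πL x, hq⟩)
      have hFT : Vs (D.F (πT x)) = (p : WittVector p R) • BC.tmul σ' 1 (πT x) := by
        have hm : πT x ∈ T := (Submodule.projectionOnto T L hLT.symm x).2
        change K (e.symm (D.F (πT x))) = _
        rw [← (ht _ hm).1, ← one_smul (WittVector p R) (h (πT x)), happ, BC.map_tmul, LinearMap.add_apply,
          LinearMap.smul_apply, (ht _ hm).2.1, (ht _ hm).2.2, zero_add, ← BC.tmul_mul_apply, map_natCast,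
          BC.smul_tmul, one_mul, mul_one]
      conv_lhs => rw [← hadd x, map_add, map_add, hFL, hFT, ← smul_add, ← BC.tmul_add, hadd]
      rw [smul_comm, BC.smul_tmul σ' w, mul_one]
    · rw [map_smul, show Vs (D.Vinv y) = BC.tmul σ' 1 (y : P) from LinearMap.congr_fun hV y, BC.smul_tmul, mul_one]
  refine ⟨Vs, hVs, fun V' hV' => LinearMap.ext_on_range D.span_range_Vinv fun y => ?_⟩
  have h1 := hV'.app_smul_Vinv 1 y
  have h2 := hVs.app_smul_Vinv 1 y
  rw [one_smul] at h1 h2
  rw [h1, h2]

end DispLib
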