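import Groth.Agent.DispLib.BaseChange
import Groth.Agent.DispLib.Rigid
import Groth.Agent.DispLib.VSharp
import Mathlib.RingTheory.WittVector.Domain
import Mathlib.RingTheory.WittVector.InitTail
import Mathlib.RingTheory.WittVector.Teichmuller
import Mathlib.Algebra.TrivSqZeroExt.Basic

/-!
# Rigidity of homomorphisms of displays along nilpotent ideals
-/

namespace DispLib

open WittVector W4c1extbt610 Dieu
open scoped TrivSqZeroExt

universe u v w

variable {p : ℕ} [Fact p.Prime]

lemma eq_zero_of_ghost_eq_zero {A : Type u} [CommRing A] (htor : ∀ a : A, (p : A) * a = 0 → a = 0)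
    (z : WittVector p A) (hz : ∀ n, ghostComponent n z = 0) : z = 0 := by
  refine WittVector.ext fun n => ?_
  rw [WittVector.zero_coeff]
  induction n using Nat.strong_induction_on with
  | _ n ih =>
    have h := hz n
    rw [ghostComponent_apply, wittPolynomial_eq_sum_C_mul_X_pow, map_sum, Finset.sum_range_succ,
      Finset.sum_eq_zero (fun i hi => ?_), zero_add] at h
    · simp at h
      have : ∀ (k : ℕ) (a : A), (p : A) ^ k * a = 0 → a = 0 := by
        intro k
        induction k with
        | zero => simp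
        | succ k ihk => intro a ha; rw [pow_succ', mul_assoc] at ha; exact ihk a (htor _ ha)
      exact this n _ h
    · have hi' : i < n := Finset.mem_range.mp hi
      simp [ih i hi', zero_pow (pow_ne_zero (n - i) (Fact.out : p.Prime).ne_zero)]

/-- Teichmüller representatives are additive on a square-zero ideal. -/
lemma teichmuller_add_of_sq_zero {T : Type u} [CommRing T] {a b : T} (haa : a * a = 0) (hab : a * b = 0)
    (hbb : b * b = 0) : teichmuller p a + teichmuller p b = teichmuller p (a + b) := by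
  let U := TrivSqZeroExt ℤ (ℤ × ℤ)
  let l : ℤ × ℤ →ₗ[ℤ] T := (LinearMap.toSpanSingleton ℤ T a).coprod (LinearMap.toSpanSingleton ℤ T b)
  have hl : ∀ x y, l x * l y = 0 := fun x y => by
    simp only [l, LinearMap.coprod_apply, LinearMap.toSpanSingleton_apply, zsmul_eq_mul]
    linear_combination (x.1 * y.1 : T) * haa + (x.1 * y.2 + x.2 * y.1 : T) * hab + (x.2 * y.2 : T) * hbb
  let e : U →+* T := (TrivSqZeroExt.liftEquivOfComm ⟨l, hl⟩).toRingHom
  let A : U := TrivSqZeroExt.inr (1, 0)
  let B : U := TrivSqZeroExt.inr (0, 1)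
  have hA : e A = a := by
    change TrivSqZeroExt.liftEquivOfComm ⟨l, hl⟩ A = a
    simp [A, l]
  have hB : e B = b := by
    change TrivSqZeroExt.liftEquivOfComm ⟨l, hl⟩ B = b
    simp [B, l]
  have hsq : ∀ (x : ℤ × ℤ) (n : ℕ), 2 ≤ n → (TrivSqZeroExt.inr x : U) ^ n = 0 := by
    intro x n hn
    exact eq_zero_of_zero_dvd ⟨(TrivSqZeroExt.inr x : U) ^ (n - 2), by
      rw [← Nat.add_sub_cancel' hn, pow_add, pow_two, TrivSqZeroExt.inr_mul_inr]; simp⟩
  have hU : teichmuller p A + teichmuller p B = teichmuller p (A + B) := by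
    rw [← sub_eq_zero]
    refine eq_zero_of_ghost_eq_zero (fun x hx => ?_) _ fun n => ?_
    · have hx' : (p : ℤ) • x = 0 := by rw [zsmul_eq_mul, Int.cast_natCast]; exact hx
      have hp : (p : ℤ) ≠ 0 := by exact_mod_cast (Fact.out : p.Prime).ne_zero
      refine TrivSqZeroExt.ext ?_ ?_
      · have := congrArg TrivSqZeroExt.fst hx'
        rw [TrivSqZeroExt.fst_smul] at this
        simpa [(Fact.out : p.Prime).ne_zero] using this
      · have := congrArg TrivSqZeroExt.snd hx'
        rw [TrivSqZeroExt.snd_smul] at this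
        exact (smul_eq_zero.mp this).resolve_left hp
    · rw [map_sub, map_add, ghostComponent_teichmuller, ghostComponent_teichmuller, ghostComponent_teichmuller]
      rcases n with _ | n
      · simp
      · have h2 : 2 ≤ p ^ (n + 1) :=
          le_trans (Fact.out : p.Prime).two_le (Nat.le_self_pow n.succ_ne_zero p)
        rw [show A + B = TrivSqZeroExt.inr ((1, 0) + (0, 1)) from (TrivSqZeroExt.inr_add _ _ _).symm,
          hsq _ _ h2, hsq _ _ h2, hsq _ _ h2]
        simp
  have := congrArg (WittVector.map e) hU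
  rwa [map_add, map_teichmuller, map_teichmuller, map_teichmuller, map_add, hA, hB] at this

variable {S : Type u} [CommRing S]

/-- The kernel of `W(S) → W(S/b)`. -/
noncomputable def wittIdeal (b : Ideal S) : Ideal (WittVector p S) :=
  RingHom.ker (WittVector.map (p := p) (Ideal.Quotient.mk b))

lemma mem_wittIdeal {b : Ideal S} {x : WittVector p S} : x ∈ wittIdeal b ↔ ∀ i, x.coeff i ∈ b := by
  rw [wittIdeal, RingHom.mem_ker, WittVector.ext_iff]
  simp [Ideal.Quotient.eq_zero_iff_mem]

lemma verschiebung_mem_wittIdeal {b : Ideal S} {x : WittVector p S} :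
    verschiebung x ∈ wittIdeal b ↔ x ∈ wittIdeal b := by
  rw [mem_wittIdeal, mem_wittIdeal]
  refine ⟨fun h i => by simpa [verschiebung_coeff_succ] using h (i + 1), fun h i => ?_⟩
  rcases i with _ | i
  · simp
  · simpa [verschiebung_coeff_succ] using h i

lemma eq_teichmuller_add_verschiebung_shift (x : WittVector p S) :
    x = teichmuller p (x.coeff 0) + verschiebung (x.shift 1) := by
  ext n
  rw [coeff_add_of_disjoint n _ _ (fun m => by rcases m with _ | m <;> simp)]
  rcases n with _ | n
  · simp
  · simp [verschiebung_coeff_succ, shift_coeff, add_comm]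

/-- One step of the filtration of a nilpotent ideal. -/
def stepIdeal (p : ℕ) (b : Ideal S) : Ideal S := b * b ⊔ Ideal.span {(p : S)} * b

section Step

variable {b : Ideal S}

omit [Fact p.Prime] in
lemma stepIdeal_le : stepIdeal p b ≤ b := sup_le Ideal.mul_le_left Ideal.mul_le_right

lemma pow_prime_mem_stepIdeal {y : S} (hy : y ∈ b) : y ^ p ∈ stepIdeal p b := by
  obtain ⟨k, hk⟩ : ∃ k, p = k + 2 := ⟨p - 2, by have := (Fact.out : p.Prime).two_le; omega⟩
  rw [hk, pow_add, pow_two]
  exact Ideal.mul_mem_left _ _ (Ideal.mem_sup_left (Ideal.mul_mem_mul hy hy))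

omit [Fact p.Prime] in
lemma natCast_mul_mem_stepIdeal {y : S} (hy : y ∈ b) : (p : S) * y ∈ stepIdeal p b :=
  Ideal.mem_sup_right (Ideal.mul_mem_mul (Ideal.mem_span_singleton_self _) hy)

lemma frobenius_mem_step {x : WittVector p S} (hx : x ∈ wittIdeal b) :
    frobenius x ∈ wittIdeal (stepIdeal p b) := by
  rw [mem_wittIdeal] at hx ⊢
  exact coeff_frobenius_mem (fun _ => pow_prime_mem_stepIdeal) (fun _ => natCast_mul_mem_stepIdeal) x hx

lemma natCast_mul_mem_step {x : WittVector p S} (hx : x ∈ wittIdeal b) :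
    (p : WittVector p S) * x ∈ wittIdeal (stepIdeal p b) := by
  rw [mul_comm, ← frobenius_verschiebung]
  exact frobenius_mem_step (verschiebung_mem_wittIdeal.mpr hx)

lemma mul_IV_sup_p_mem_step {x c : WittVector p S} (hx : x ∈ wittIdeal b)
    (hc : c ∈ IV p S ⊔ Ideal.span {(p : WittVector p S)}) : c * x ∈ wittIdeal (stepIdeal p b) := by
  obtain ⟨i, hi, j, hj, rfl⟩ := Submodule.mem_sup.mp hc
  obtain ⟨w, rfl⟩ := mem_IV_iff.mp hi
  obtain ⟨d, rfl⟩ := Ideal.mem_span_singleton.mp hj
  rw [add_mul, ← verschiebung_mul_frobenius, mul_assoc]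
  exact add_mem (verschiebung_mem_wittIdeal.mpr (Ideal.mul_mem_left _ _ (frobenius_mem_step hx)))
    (natCast_mul_mem_step (Ideal.mul_mem_left _ _ hx))

/-- The shift, modulo the next step. -/
noncomputable def shiftClass (b : Ideal S) (x : WittVector p S) :
    WittVector p S ⧸ wittIdeal (p := p) (stepIdeal p b) :=
  Ideal.Quotient.mk _ (x.shift 1)

lemma shiftClass_unique {x u : WittVector p S} {c : S}
    (h : teichmuller p c + verschiebung u - x ∈ wittIdeal (stepIdeal p b))
    (hc : c - x.coeff 0 ∈ stepIdeal p b) :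
    Ideal.Quotient.mk (wittIdeal (p := p) (stepIdeal p b)) u = shiftClass b x := by
  rw [shiftClass, Ideal.Quotient.eq, ← verschiebung_mem_wittIdeal, map_sub, wittIdeal, RingHom.mem_ker, map_sub,
    sub_eq_zero]
  rw [wittIdeal, RingHom.mem_ker, map_sub, sub_eq_zero, map_add] at h
  conv_rhs at h => rw [eq_teichmuller_add_verschiebung_shift x]
  rw [map_add, map_teichmuller, map_teichmuller, Ideal.Quotient.eq.mpr hc] at h
  exact add_left_cancel h

lemma shiftClass_add {x y : WittVector p S} (hx : x ∈ wittIdeal b) (hy : y ∈ wittIdeal b) :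
    shiftClass b (x + y) = shiftClass b x + shiftClass b y := by
  refine (shiftClass_unique (x := x + y) (u := x.shift 1 + y.shift 1) (c := x.coeff 0 + y.coeff 0) ?_ ?_).symm
  · rw [wittIdeal, RingHom.mem_ker, map_sub, sub_eq_zero]
    conv_rhs => rw [eq_teichmuller_add_verschiebung_shift x, eq_teichmuller_add_verschiebung_shift y]
    have hsq : ∀ s ∈ b, ∀ t ∈ b,
        Ideal.Quotient.mk (stepIdeal p b) s * Ideal.Quotient.mk (stepIdeal p b) t = 0 := fun s hs t ht => by
      rw [← map_mul, Ideal.Quotient.eq_zero_iff_mem]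
      exact Ideal.mem_sup_left (Ideal.mul_mem_mul hs ht)
    have hx0 := mem_wittIdeal.mp hx 0
    have hy0 := mem_wittIdeal.mp hy 0
    simp only [map_add, map_teichmuller]
    rw [← teichmuller_add_of_sq_zero (hsq _ hx0 _ hx0) (hsq _ hx0 _ hy0) (hsq _ hy0 _ hy0)]
    ring
  · change _ - WittVector.constantCoeff (x + y) ∈ _
    rw [map_add]
    exact (sub_self (x.coeff 0 + y.coeff 0)).symm ▸ zero_mem _

lemma shiftClass_mul (c : WittVector p S) {x : WittVector p S} (hx : x ∈ wittIdeal b) :
    shiftClass b (c * x) = Ideal.Quotient.mk _ (frobenius c) * shiftClass b x := by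
  refine (shiftClass_unique (x := c * x) (u := frobenius c * x.shift 1) (c := c.coeff 0 * x.coeff 0) ?_ ?_).symm
  · have hT : teichmuller p (x.coeff 0) ∈ wittIdeal b := by
      rw [wittIdeal, RingHom.mem_ker, map_teichmuller,
        Ideal.Quotient.eq_zero_iff_mem.mpr (mem_wittIdeal.mp hx 0), teichmuller_zero]
    have h1 : verschiebung (c.shift 1 * frobenius (teichmuller p (x.coeff 0))) ∈ wittIdeal (stepIdeal p b) :=
      verschiebung_mem_wittIdeal.mpr (Ideal.mul_mem_left _ _ (frobenius_mem_step hT))
    rw [verschiebung_mul_frobenius] at h1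
    have e : teichmuller p (c.coeff 0 * x.coeff 0) + verschiebung (frobenius c * x.shift 1) - c * x =
        -(verschiebung (c.shift 1) * teichmuller p (x.coeff 0)) := by
      rw [mul_comm (frobenius c), verschiebung_mul_frobenius, map_mul]
      conv_lhs => arg 2; rw [eq_teichmuller_add_verschiebung_shift x]
      linear_combination (teichmuller p (x.coeff 0)) * (eq_teichmuller_add_verschiebung_shift c).symm
    rw [e]
    exact neg_mem h1
  · change _ - WittVector.constantCoeff (c * x) ∈ _
    rw [map_mul]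
    exact (sub_self (c.coeff 0 * x.coeff 0)).symm ▸ zero_mem _

lemma shiftClass_eq_zero {x : WittVector p S} (hx : x ∈ wittIdeal (stepIdeal p b)) : shiftClass b x = 0 := by
  rw [shiftClass, Ideal.Quotient.eq_zero_iff_mem, mem_wittIdeal]
  intro i
  rw [shift_coeff]
  exact mem_wittIdeal.mp hx _

end Step

end DispLib
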