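import Groth.Agent.DispLib.Nilp
import Mathlib.LinearAlgebra.Quotient.Basic
import Mathlib.RingTheory.Nilpotent.Lemmas

/-!
# Injectivity and `p`-torsion cokernel of reduction of homomorphisms of displays along nilpotent ideals
-/

namespace DispLib

open WittVector W4c1extbt610 Dieu

universe u v w

variable {p : ℕ} [Fact p.Prime] {S : Type u} [CommRing S]
variable {P : Type v} [AddCommGroup P] [Module (WittVector p S) P]
variable {P' : Type w} [AddCommGroup P'] [Module (WittVector p S) P']

/-- `K_b P'`. -/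
noncomputable def bigSub (p : ℕ) [Fact p.Prime] {S : Type u} [CommRing S] (P' : Type w) [AddCommGroup P']
    [Module (WittVector p S) P'] (b : Ideal S) : Submodule (WittVector p S) P' :=
  wittIdeal (p := p) b • (⊤ : Submodule (WittVector p S) P')

/-- `K_b P' / K_{b'} P'`. -/
abbrev Layer (p : ℕ) [Fact p.Prime] {S : Type u} [CommRing S] (P' : Type w) [AddCommGroup P']
    [Module (WittVector p S) P'] (b : Ideal S) : Type w :=
  ↥(bigSub p P' b) ⧸
    (bigSub p P' (stepIdeal p b)).comap (bigSub p P' b).subtype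

lemma smul_layer_eq_zero {b : Ideal S} {c : WittVector p S}
    (hc : c ∈ IV p S ⊔ Ideal.span {(p : WittVector p S)}) (m : Layer p P' b) : c • m = 0 := by
  obtain ⟨⟨z, hz⟩, rfl⟩ := Submodule.Quotient.mk_surjective _ m
  rw [← Submodule.Quotient.mk_smul, Submodule.Quotient.mk_eq_zero, Submodule.mem_comap]
  change c • z ∈ bigSub p P' _
  refine Submodule.smul_induction_on hz (fun x hx y _ => ?_) (fun x y hx hy => ?_)
  · rw [smul_smul]
    exact Submodule.smul_mem_smul (mul_IV_sup_p_mem_step hx hc) Submodule.mem_top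
  · rw [smul_add]
    exact add_mem hx hy

lemma lift_smul_top_eq_zero {N : ℕ} {b : Ideal S}
    (φ : P →ₛₗ[(WittVector.frobenius : WittVector p S →+* WittVector p S) ^ N] Layer p P' b)
    {z : BC ((WittVector.frobenius : WittVector p S →+* WittVector p S) ^ N) P}
    (hz : z ∈ (IV p S ⊔ Ideal.span {(p : WittVector p S)}) • (⊤ : Submodule (WittVector p S) _)) :
    BC.lift _ φ z = 0 :=
  Submodule.smul_induction_on hz (fun c hc y _ => by rw [map_smul, smul_layer_eq_zero hc])
    (fun x y hx hy => by rw [map_add, hx, hy, add_zero])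

lemma exists_vinvLayer (D' : Display3n p S P') (b : Ideal S) :
    ∃ Λ : Layer p P' b →ₛₗ[(WittVector.frobenius : WittVector p S →+* WittVector p S)] Layer p P' b,
      ∀ (z : D'.Q) (hz : (z : P') ∈ bigSub p P' b), ∃ hz' : D'.Vinv z ∈ bigSub p P' b,
        Λ (Submodule.Quotient.mk ⟨z, hz⟩) = Submodule.Quotient.mk ⟨D'.Vinv z, hz'⟩ := by
  obtain ⟨L, T, hLT, hQ⟩ := D'.exists_normal
  have := D'.finite
  have := D'.projective
  obtain ⟨n, d, c, -, -, hdc⟩ := Module.Finite.exists_comp_eq_id_of_projective (WittVector p S) P'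
  let πT : P' →ₗ[WittVector p S] P' := T.subtype ∘ₗ Submodule.projectionOnto T L hLT.symm
  have hLQ : L ≤ D'.Q := hQ ▸ le_sup_left
  let πL' : P' →ₗ[WittVector p S] D'.Q :=
    (Submodule.inclusion hLQ) ∘ₗ Submodule.projectionOnto L T hLT
  have hcoord : ∀ (z : P'), z ∈ bigSub p P' b → ∀ i, c z i ∈ wittIdeal (p := p) b := by
    intro z hz i
    have := semilin_smul_top_mem (LinearMap.proj i ∘ₗ c) (le_of_eq (Ideal.map_id _)) hz
    rwa [smul_eq_mul, Ideal.mul_top] at this
  have hshift : ∀ {x : WittVector p S}, x ∈ wittIdeal (p := p) b → x.shift 1 ∈ wittIdeal (p := p) b := by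
    intro x hx
    rw [mem_wittIdeal] at *
    exact fun i => by rw [shift_coeff]; exact hx _
  let Φ : (Fin n → WittVector p S) → P' := fun a => ∑ i, a i • D'.F (d (Pi.single i 1))
  have hΦ : ∀ a : Fin n → WittVector p S, (∀ i, a i ∈ wittIdeal (p := p) b) → Φ a ∈ bigSub p P' b := fun a ha =>
    Submodule.sum_mem _ fun i _ => Submodule.smul_mem_smul (ha i) Submodule.mem_top
  have hΦ' : ∀ a a' : Fin n → WittVector p S,
      (∀ i, a i - a' i ∈ wittIdeal (p := p) (stepIdeal p b)) → Φ a - Φ a' ∈ bigSub p P' (stepIdeal p b) := by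
    intro a a' h
    simp only [Φ, ← Finset.sum_sub_distrib, ← sub_smul]
    exact Submodule.sum_mem _ fun i _ => Submodule.smul_mem_smul (h i) Submodule.mem_top
  let g : ↥(bigSub p P' b) → Layer p P' b := fun z =>
    Submodule.Quotient.mk ⟨Φ fun i => (c z i).shift 1, hΦ _ fun i => hshift (hcoord _ z.2 i)⟩
  have hg : ∀ (z : ↥(bigSub p P' b)) (a : Fin n → WittVector p S) (ha : ∀ i, a i ∈ wittIdeal (p := p) b),
      (∀ i, Ideal.Quotient.mk (wittIdeal (p := p) (stepIdeal p b)) (a i) = shiftClass b (c z i)) →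
      g z = Submodule.Quotient.mk ⟨Φ a, hΦ a ha⟩ := by
    intro z a ha h
    rw [Submodule.Quotient.eq, Submodule.mem_comap]
    exact hΦ' _ _ fun i => Ideal.Quotient.eq.mp (h i).symm
  let gl : ↥(bigSub p P' b) →ₛₗ[(WittVector.frobenius : WittVector p S →+* WittVector p S)]
      Layer p P' b :=
    { toFun := g
      map_add' := fun x y => by
        rw [hg (x + y) (fun i => (c x i).shift 1 + (c y i).shift 1)
          (fun i => add_mem (hshift (hcoord _ x.2 i)) (hshift (hcoord _ y.2 i)))]
        · rw [← Submodule.Quotient.mk_add]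
          congr 1
          ext
          simp [Φ, add_smul, Finset.sum_add_distrib]
        · intro i
          rw [Submodule.coe_add, map_add c, Pi.add_apply, shiftClass_add (hcoord _ x.2 i) (hcoord _ y.2 i), map_add]
          rfl
      map_smul' := fun r x => by
        rw [hg (r • x) (fun i => frobenius r * (c x i).shift 1)
          (fun i => Ideal.mul_mem_left _ _ (hshift (hcoord _ x.2 i)))]
        · rw [← Submodule.Quotient.mk_smul]
          congr 1
          ext
          simp [Φ, Finset.smul_sum, mul_smul]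
        · intro i
          rw [SetLike.val_smul, map_smul c, Pi.smul_apply, smul_eq_mul, shiftClass_mul r (hcoord _ x.2 i), map_mul]
          rfl }
  have hker : (bigSub p P' (stepIdeal p b)).comap (bigSub p P' b).subtype ≤
      LinearMap.ker gl := by
    intro x hx
    rw [LinearMap.mem_ker]
    change g x = 0
    rw [hg x 0 (fun i => zero_mem _) fun i => ?_]
    · rw [Submodule.Quotient.mk_eq_zero, Submodule.mem_comap]
      simp [Φ]
    · have := semilin_smul_top_mem (LinearMap.proj i ∘ₗ c) (le_of_eq (Ideal.map_id _)) (Submodule.mem_comap.mp hx)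
      rw [smul_eq_mul, Ideal.mul_top] at this
      rw [Pi.zero_apply, map_zero]
      exact (shiftClass_eq_zero this).symm
  refine ⟨Submodule.liftQ _ gl hker, fun z hz => ?_⟩
  have hT : πT z ∈ IV p S • (⊤ : Submodule (WittVector p S) P') := by
    obtain ⟨l, hl, t, ht, e⟩ := Submodule.mem_sup.mp (hQ ▸ z.2 : (z : P') ∈ L ⊔ IV p S • T)
    rw [← e, map_add, show πT l = 0 by simp [πT, Submodule.projectionOnto_apply_of_mem_right hLT.symm hl], zero_add]
    exact semilin_smul_top_mem πT (le_of_eq (Ideal.map_id _))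
      (Submodule.smul_mono le_rfl le_top ht)
  have hπTb : πT z ∈ bigSub p P' b := semilin_smul_top_mem πT (le_of_eq (Ideal.map_id _)) hz
  have hπLb : πL' z ∈ wittIdeal (p := p) b • (⊤ : Submodule (WittVector p S) D'.Q) :=
    semilin_smul_top_mem πL' (le_of_eq (Ideal.map_id _)) hz
  have hVL : D'.Vinv (πL' z) ∈ wittIdeal (p := p) (stepIdeal p b) • (⊤ : Submodule (WittVector p S) P') :=
    semilin_smul_top_mem D'.Vinv (Ideal.map_le_iff_le_comap.mpr fun x hx => Ideal.mem_comap.mpr (frobenius_mem_step hx)) hπLb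
  have hci : ∀ i, ∃ u, c (πT z) i = verschiebung u := fun i => by
    have a1 := semilin_smul_top_mem (LinearMap.proj i ∘ₗ c) (le_of_eq (Ideal.map_id _)) hT
    rw [smul_eq_mul, Ideal.mul_top] at a1
    exact mem_IV_iff.mp a1
  choose u hu using hci
  have hus : ∀ i, u i = (c (πT z) i).shift 1 := fun i => by
    refine WittVector.ext fun k => ?_
    rw [hu i, shift_coeff, add_comm 1 k, verschiebung_coeff_succ]
  have hub : ∀ i, u i ∈ wittIdeal (p := p) b := fun i => hus i ▸ hshift (hcoord _ hπTb i)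
  have e : z = πL' z + ∑ i, (⟨verschiebung (u i) • d (Pi.single i 1),
      D'.IV_smul_le (Submodule.smul_mem_smul (verschiebung_mem_IV p S (u i)) Submodule.mem_top)⟩ : D'.Q) := by
    apply Subtype.ext
    rw [Submodule.coe_add, AddSubmonoidClass.coe_finsetSum]
    simp only [← hu, ← map_smul, ← map_sum, ← pi_eq_sum_univ']
    rw [show d (c (πT z)) = πT z from LinearMap.congr_fun hdc _]
    exact (Submodule.projection_add_projection_eq_self hLT (z : P')).symm
  have hV : D'.Vinv z = D'.Vinv (πL' z) + Φ u := by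
    conv_lhs => rw [e, map_add, map_sum]
    congr 1
    exact Finset.sum_congr rfl fun i _ => D'.Vinv_verschiebung_smul _ _
  have hstep : bigSub p P' (stepIdeal p b) ≤ bigSub p P' b :=
    Submodule.smul_mono_left fun x hx => mem_wittIdeal.mpr fun i => stepIdeal_le (mem_wittIdeal.mp hx i)
  have hzV : D'.Vinv z ∈ bigSub p P' b := hV ▸ add_mem (hstep hVL) (hΦ u hub)
  refine ⟨hzV, ?_⟩
  have hπLP : (πL' z : P') ∈ bigSub p P' b := semilin_smul_top_mem D'.Q.subtype (le_of_eq (Ideal.map_id _)) hπLb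
  have hsplit : (⟨(z : P'), hz⟩ : ↥(bigSub p P' b)) = ⟨πL' z, hπLP⟩ + ⟨πT z, hπTb⟩ :=
    Subtype.ext (Submodule.projection_add_projection_eq_self hLT (z : P')).symm
  have hg0 : gl ⟨πL' z, hπLP⟩ = 0 := by
    let ιL : P' →ₗ[WittVector p S] P' := D'.Q.subtype ∘ₗ πL'
    let r : ↥(bigSub p P' b) →ₗ[WittVector p S] ↥(bigSub p P' b) :=
      ιL.restrict fun y hy => semilin_smul_top_mem ιL (le_of_eq (Ideal.map_id _)) hy
    have key : ∀ y ∈ bigSub p P' b, ∃ h : y ∈ bigSub p P' b, gl (r ⟨y, h⟩) = 0 := by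
      intro y hy
      refine Submodule.smul_induction_on hy (fun x hx y' _ => ?_) (fun x y ⟨hx, ex⟩ ⟨hy, ey⟩ => ?_)
      · refine ⟨Submodule.smul_mem_smul hx Submodule.mem_top, ?_⟩
        change g _ = 0
        rw [hg _ (fun i => frobenius (c (ιL y') i) * x.shift 1)
          (fun i => Ideal.mul_mem_left _ _ (hshift hx)), Submodule.Quotient.mk_eq_zero, Submodule.mem_comap]
        · have e1 : Φ (fun i => frobenius (c (ιL y') i) * x.shift 1) = x.shift 1 • D'.F (ιL y') := by
            conv_rhs => rw [show ιL y' = d (c (ιL y')) from (LinearMap.congr_fun hdc _).symm,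
              pi_eq_sum_univ' (c (ιL y')), map_sum, map_sum, Finset.smul_sum]
            refine Finset.sum_congr rfl fun i _ => ?_
            rw [map_smul, map_smulₛₗ, smul_smul, mul_comm]
          change Φ _ ∈ bigSub p P' _
          rw [e1, show D'.F (ιL y') = _ from F_mem_Q D' (πL' y'), smul_smul, mul_comm]
          exact Submodule.smul_mem_smul (natCast_mul_mem_step (hshift hx)) Submodule.mem_top
        · intro i
          change _ = shiftClass b (c (ιL (x • y')) i)
          rw [map_smul, map_smul c, Pi.smul_apply, smul_eq_mul, mul_comm x, shiftClass_mul _ hx, map_mul]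
          rfl
      · exact ⟨add_mem hx hy, by
          rw [show (⟨x + y, add_mem hx hy⟩ : ↥(bigSub p P' b)) = ⟨x, hx⟩ + ⟨y, hy⟩ from rfl,
            map_add, map_add, ex, ey, add_zero]⟩
    obtain ⟨_, h⟩ := key z hz
    exact h
  rw [Submodule.liftQ_apply, hsplit, map_add, hg0, zero_add]
  change g ⟨πT z, hπTb⟩ = _
  rw [hg _ u hub fun i => by rw [hus i]; rfl, Submodule.Quotient.eq, Submodule.mem_comap]
  change Φ u - D'.Vinv z ∈ bigSub p P' _
  rw [hV, sub_add_cancel_right]
  exact neg_mem hVL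

lemma mem_bigSub_step_of_isHom (D : Display3n p S P) (D' : Display3n p S P') (hD : IsDisplay D) (b : Ideal S)
    (ψ : P →ₗ[WittVector p S] P') (hψ : IsHom D D' ψ) (hb : ∀ x, ψ x ∈ bigSub p P' b) :
    ∀ x, ψ x ∈ bigSub p P' (stepIdeal p b) := by
  obtain ⟨Vs, hVs, n₀, hn₀⟩ := hD
  obtain ⟨Λ, hΛ⟩ := exists_vinvLayer D' b
  let ψb : P →ₗ[WittVector p S] Layer p P' b := (Submodule.mkQ _).comp (ψ.codRestrict (bigSub p P' b) hb)
  have h1 : ψb = (BC.lift _ (Λ.comp ψb)).comp Vs := by
    refine LinearMap.ext_on_range D.span_range_Vinv fun y => ?_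
    obtain ⟨hz', e⟩ := hΛ ⟨ψ y, hψ.mapsTo y y.2⟩ (hb y)
    have := hVs.app_smul_Vinv 1 y
    rw [one_smul] at this
    rw [LinearMap.comp_apply (g := Vs), this, BC.lift_tmul, one_smul]
    change Submodule.Quotient.mk ⟨ψ (D.Vinv y), hb _⟩ = Λ (Submodule.Quotient.mk ⟨ψ y, hb y⟩)
    rw [e]
    congr 1
    exact Subtype.ext (hψ.comm_Vinv y)
  have h : ∀ n : ℕ, ∃ φ : P →ₛₗ[(WittVector.frobenius : WittVector p S →+* WittVector p S) ^ (n + 1)] Layer p P' b,
      ∀ x, ψb x = BC.lift _ φ (vSharpPow Vs n x) := by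
    intro n
    induction n with
    | zero =>
      let φ : P →ₛₗ[(WittVector.frobenius : WittVector p S →+* WittVector p S) ^ (0 + 1)] Layer p P' b :=
        { toFun := fun y => Λ (ψb y)
          map_add' := fun a c => by rw [map_add, map_add]
          map_smul' := fun a c => by rw [map_smul, map_smulₛₗ, zero_add, pow_one] }
      refine ⟨φ, fun x => ?_⟩
      rw [vSharpPow_zero_apply, LinearMap.congr_fun h1 x]
      change BC.lift _ _ (Vs x) = _
      induction Vs x using BC.induction_on _ with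
      | zero => simp
      | add z z' hz hz' => simp only [map_add, hz, hz']
      | tmul w y => rw [BC.castHom_tmul, BC.lift_tmul, BC.lift_tmul]; rfl
    | succ n ih =>
      obtain ⟨φ, hφ⟩ := ih
      let φ' : P →ₛₗ[(WittVector.frobenius : WittVector p S →+* WittVector p S) ^ (n + 1 + 1)] Layer p P' b :=
        { toFun := fun y => Λ (φ y)
          map_add' := fun a c => by rw [map_add, map_add]
          map_smul' := fun a c => by
            rw [map_smulₛₗ, map_smulₛₗ, pow_succ' _ (n + 1)]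
            rfl }
      refine ⟨φ', fun x => ?_⟩
      rw [vSharpPow_succ_eq, LinearMap.congr_fun h1 x]
      change BC.lift _ _ (Vs x) = _
      induction Vs x using BC.induction_on _ with
      | zero => simp
      | add z z' hz hz' => simp only [map_add, hz, hz']
      | tmul w y =>
        rw [BC.lift_tmul, stepMap_tmul, map_smul, LinearMap.comp_apply, hφ]
        congr 1
        induction vSharpPow Vs n y using BC.induction_on _ with
        | zero => simp
        | add z z' hz hz' => simp only [map_add, hz, hz']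
        | tmul w' y' =>
          rw [shiftMap_tmul, BC.lift_tmul, BC.lift_tmul, map_smulₛₗ]
          rfl
  obtain ⟨φ, hφ⟩ := h n₀
  intro x
  have h0 : ψb x = 0 := by rw [hφ x, lift_smul_top_eq_zero φ (hn₀ x)]
  change Submodule.Quotient.mk (⟨ψ x, hb x⟩ : ↥(bigSub p P' b)) = 0 at h0
  rw [Submodule.Quotient.mk_eq_zero] at h0
  exact Submodule.mem_comap.mp h0

end DispLib

namespace DispLib

open WittVector W4c1extbt610 Dieu

universe u v w

variable {p : ℕ} [Fact p.Prime] {S R : Type u} [CommRing S] [CommRing R] (f : S →+* R)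
variable {P : Type v} [AddCommGroup P] [Module (WittVector p S) P]
variable {P' : Type w} [AddCommGroup P'] [Module (WittVector p S) P']

local notation "G" => (WittVector.map f : WittVector p S →+* WittVector p R)

omit [Fact p.Prime] in
lemma iterate_stepIdeal_le (a J : Ideal S) (ha : a ≤ J) (hp : Ideal.span {(p : S)} ≤ J) :
    ∀ j, (stepIdeal p)^[j] a ≤ J ^ (j + 1) := by
  intro j
  induction j with
  | zero => simpa using ha
  | succ j ih =>
    rw [Function.iterate_succ_apply', stepIdeal, pow_succ' J (j + 1)]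
    exact sup_le (Ideal.mul_mono (ih.trans (Ideal.pow_le_self (Nat.succ_ne_zero j))) ih) (Ideal.mul_mono hp ih)

omit [Fact p.Prime] in
lemma exists_iterate_stepIdeal_eq_bot (hp : IsNilpotent (p : S)) (hker : IsNilpotent (RingHom.ker f)) :
    ∃ j, (stepIdeal p)^[j] (RingHom.ker f) = ⊥ := by
  obtain ⟨a, ha⟩ := hp
  have hn : IsNilpotent (RingHom.ker f ⊔ Ideal.span {(p : S)}) := by
    rw [← Submodule.add_eq_sup]
    exact (Commute.all _ _).isNilpotent_add hker ⟨a, by
      rw [Ideal.span_singleton_pow, ha, Ideal.span_singleton_eq_bot.mpr rfl, Submodule.zero_eq_bot]⟩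
  obtain ⟨m, hm⟩ := hn
  refine ⟨m, le_bot_iff.mp ((iterate_stepIdeal_le _ _ le_sup_left le_sup_right m).trans ?_)⟩
  rw [pow_succ, hm, zero_mul]
  exact le_rfl

lemma mem_bigSub_of_tmul_eq_zero (D' : Display3n p S P') (z : P') (hz : BC.tmul G 1 z = 0) :
    z ∈ bigSub p P' (RingHom.ker f) := by
  have := D'.finite
  have := D'.projective
  obtain ⟨n, d, c, -, -, hdc⟩ := Module.Finite.exists_comp_eq_id_of_projective (WittVector p S) P'
  rw [show z = d (c z) from (LinearMap.congr_fun hdc z).symm, pi_eq_sum_univ' (c z), map_sum]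
  refine Submodule.sum_mem _ fun i _ => ?_
  rw [map_smul]
  refine Submodule.smul_mem_smul ?_ Submodule.mem_top
  have := congrArg (BC.lift G ((semilinearOfRingHom G).comp (LinearMap.proj i ∘ₗ c))) hz
  rw [BC.lift_tmul, map_zero, one_smul] at this
  rw [mem_wittIdeal]
  intro k
  rw [RingHom.mem_ker]
  have h2 := congrArg (fun w : WittVector p R => w.coeff k) this
  simpa using h2

lemma natCast_pow_mul_eq_zero_of_iterate {a : Ideal S} {j : ℕ} (hj : (stepIdeal p)^[j] a = ⊥)
    {x : WittVector p S} (hx : x ∈ wittIdeal (p := p) a) : (p : WittVector p S) ^ j * x = 0 := by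
  have h : ∀ i, (p : WittVector p S) ^ i * x ∈ wittIdeal (p := p) ((stepIdeal p)^[i] a) := by
    intro i
    induction i with
    | zero => simpa using hx
    | succ i ih => rw [pow_succ', mul_assoc, Function.iterate_succ_apply']; exact natCast_mul_mem_step ih
  refine WittVector.ext fun k => ?_
  have := mem_wittIdeal.mp (h j) k
  rw [hj, Ideal.mem_bot] at this
  rw [this, WittVector.zero_coeff]

theorem isHom_injective_of_nilpotent (hp : IsNilpotent (p : S)) (hker : IsNilpotent (RingHom.ker f))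
    (D : Display3n p S P) (D' : Display3n p S P') (hD : IsDisplay D)
    (ψ χ : P →ₗ[WittVector p S] P') (hψ : IsHom D D' ψ) (hχ : IsHom D D' χ)
    (h : BC.map G ψ = BC.map G χ) : ψ = χ := by
  have hd : IsHom D D' (ψ - χ) :=
    { mapsTo := fun q hq => by rw [LinearMap.sub_apply]; exact sub_mem (hψ.mapsTo q hq) (hχ.mapsTo q hq)
      comm_F := fun x => by
        rw [LinearMap.sub_apply, LinearMap.sub_apply, hψ.comm_F, hχ.comm_F, map_sub]
      comm_Vinv := fun q => by
        rw [LinearMap.sub_apply, hψ.comm_Vinv, hχ.comm_Vinv, ← map_sub]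
        rfl }
  have h0 : ∀ x, (ψ - χ) x ∈ bigSub p P' (RingHom.ker f) := fun x => by
    refine mem_bigSub_of_tmul_eq_zero f D' _ ?_
    have := LinearMap.congr_fun h (BC.tmul G 1 x)
    rw [BC.map_tmul, BC.map_tmul] at this
    rw [LinearMap.sub_apply, ← BC.ι_apply, map_sub, BC.ι_apply, BC.ι_apply, this, sub_self]
  obtain ⟨j, hj⟩ := exists_iterate_stepIdeal_eq_bot f hp hker
  have hi : ∀ i, ∀ x, (ψ - χ) x ∈ bigSub p P' ((stepIdeal p)^[i] (RingHom.ker f)) := by
    intro i
    induction i with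
    | zero => exact h0
    | succ i ih =>
      rw [Function.iterate_succ_apply']
      exact mem_bigSub_step_of_isHom D D' hD _ _ hd ih
  refine LinearMap.ext fun x => sub_eq_zero.mp ?_
  have := hi j x
  rw [hj, bigSub, show wittIdeal (p := p) (⊥ : Ideal S) = ⊥ from ?_, Submodule.bot_smul, Submodule.mem_bot] at this
  · exact this
  · refine le_bot_iff.mp fun w hw => ?_
    rw [Ideal.mem_bot]
    exact WittVector.ext fun k => by simpa using mem_wittIdeal.mp hw k

theorem exists_lift_pow_smul (hp : IsNilpotent (p : S)) (hf : Function.Surjective f)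
    (hker : IsNilpotent (RingHom.ker f)) (D : Display3n p S P) (D' : Display3n p S P')
    (DR : Display3n p R (BC G P)) (hDR : IsDispBaseChange f D DR)
    (DR' : Display3n p R (BC G P')) (hDR' : IsDispBaseChange f D' DR')
    (χ : BC G P →ₗ[WittVector p R] BC G P') (hχ : IsHom DR DR' χ) :
    ∃ (n : ℕ) (ψ : P →ₗ[WittVector p S] P'), IsHom D D' ψ ∧
      BC.map G ψ = ((p : WittVector p R) ^ n) • χ := by
  obtain ⟨j, hj⟩ := exists_iterate_stepIdeal_eq_bot f hp hker
  refine ⟨j, ?_⟩
  have hG : Function.Surjective G := WittVector.map_surjective f hf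
  have hι : Function.Surjective (BC.ι G P') := by
    intro z
    induction z using BC.induction_on G with
    | zero => exact ⟨0, map_zero _⟩
    | tmul w y =>
      obtain ⟨w', rfl⟩ := hG w
      exact ⟨w' • y, by rw [BC.ι_apply, ← BC.tmul_apply_eq]⟩
    | add a b ha hb =>
      obtain ⟨a', rfl⟩ := ha
      obtain ⟨b', rfl⟩ := hb
      exact ⟨a' + b', map_add _ _ _⟩
  have hkill : ∀ z : P', BC.ι G P' z = 0 → ((p : WittVector p S) ^ j) • z = 0 := fun z hz =>
    Submodule.smul_induction_on (p := fun z => ((p : WittVector p S) ^ j) • z = 0)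
      (mem_bigSub_of_tmul_eq_zero f D' z hz)
      (fun x hx y _ => by rw [smul_smul, natCast_pow_mul_eq_zero_of_iterate hj hx, zero_smul])
      (fun x y hx hy => by rw [smul_add, hx, hy, add_zero])
  choose sec hsec using hι
  have hwd : ∀ (z : P') (w : BC G P'), BC.ι G P' z = w →
      ((p : WittVector p S) ^ j) • sec w = ((p : WittVector p S) ^ j) • z := fun z w hw => by
    rw [← sub_eq_zero, ← smul_sub]
    exact hkill _ (by rw [map_sub, hsec, hw, sub_self])
  let ψ : P →ₗ[WittVector p S] P' :=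
    { toFun := fun x => ((p : WittVector p S) ^ j) • sec (χ (BC.ι G P x))
      map_add' := fun x y => by
        rw [hwd (sec (χ (BC.ι G P x)) + sec (χ (BC.ι G P y))) _ (by rw [map_add, hsec, hsec, map_add, map_add]),
          smul_add]
      map_smul' := fun c x => by
        rw [hwd (c • sec (χ (BC.ι G P x))) _ (by rw [map_smulₛₗ, hsec, map_smulₛₗ, map_smul]), smul_comm]
        rfl }
  have hψ : ∀ x z, BC.ι G P' z = χ (BC.ι G P x) → ψ x = ((p : WittVector p S) ^ j) • z :=
    fun x z h => hwd z _ h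
  refine ⟨ψ, ?_, ?_⟩
  swap
  · refine BC.ext G fun x => ?_
    rw [BC.map_tmul, hψ x _ (hsec _), ← BC.ι_apply, map_smulₛₗ, hsec, map_pow, map_natCast]
    rfl
  have hιQ : ∀ {D₀ : Display3n p S P} (DR₀ : Display3n p R (BC G P)), IsDispBaseChange f D₀ DR₀ →
      ∀ q : D₀.Q, BC.tmul G 1 (q : P) ∈ DR₀.Q := fun {D₀} DR₀ h0 q => by
    rw [h0.Q_eq, LinearMap.mem_ker, bcQuotMap_tmul,
      show D₀.Q.mkQ (q : P) = 0 from (Submodule.Quotient.mk_eq_zero _).mpr q.2, BC.tmul_zero]
  have : RingHomSurjective (WittVector.map f : WittVector p S →+* WittVector p R) := ⟨hG⟩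
  have hQlift : DR'.Q ≤ D'.Q.map (BC.ι G P') := by
    refine (Q_le_span f D' DR' hDR').trans (sup_le (Submodule.span_le.mpr ?_) (Submodule.smul_le.mpr fun a ha z _ => ?_))
    · rintro _ ⟨y, rfl⟩
      exact ⟨y, y.2, rfl⟩
    · obtain ⟨u, rfl⟩ := mem_IV_iff.mp ha
      obtain ⟨u', rfl⟩ := hG u
      refine ⟨verschiebung u' • sec z,
        D'.IV_smul_le (Submodule.smul_mem_smul (verschiebung_mem_IV p S u') Submodule.mem_top), ?_⟩
      rw [map_smulₛₗ, hsec]
      congr 1
      exact verschiebung_isPoly.map f u'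
  have key : ∀ q : D.Q, ∃ y : D'.Q, BC.ι G P' y = χ (BC.ι G P q) ∧
      BC.ι G P' (D'.Vinv y) = χ (BC.ι G P (D.Vinv q)) := by
    intro q
    have hq : BC.tmul G 1 (q : P) ∈ DR.Q := hιQ DR hDR q
    obtain ⟨y, hy, e⟩ := hQlift (hχ.mapsTo _ hq)
    refine ⟨⟨y, hy⟩, e, ?_⟩
    have hy' : BC.tmul G 1 y ∈ DR'.Q := by
      rw [← BC.ι_apply, e]; exact hχ.mapsTo _ hq
    rw [BC.ι_apply, BC.ι_apply]
    have h1 := hDR.Vinv_tmul 1 q hq
    have h2 := hDR'.Vinv_tmul 1 ⟨y, hy⟩ hy'
    rw [map_one] at h1 h2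
    rw [← h1, ← h2, hχ.comm_Vinv ⟨_, hq⟩]
    congr 1
    exact Subtype.ext e
  have hmaps : ∀ q : P, q ∈ D.Q → ψ q ∈ D'.Q := fun q hq => by
    obtain ⟨y, e, -⟩ := key ⟨q, hq⟩
    rw [hψ q y e]
    exact D'.Q.smul_mem _ y.2
  have hVinv : ∀ q : D.Q, ψ (D.Vinv q) = D'.Vinv ⟨ψ q, hmaps q q.2⟩ := fun q => by
    obtain ⟨y, e, e'⟩ := key q
    rw [hψ _ _ e']
    have : (⟨ψ q, hmaps q q.2⟩ : D'.Q) = ((p : WittVector p S) ^ j) • y := Subtype.ext (hψ q y e)
    rw [this, map_smulₛₗ, map_pow, map_natCast]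
  refine ⟨hmaps, fun x => ?_, hVinv⟩
  rw [F_eq_Vinv D, hVinv, F_eq_Vinv D']
  congr 1
  exact Subtype.ext (map_smul ψ _ x)

end DispLib
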