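import Groth.Agent.DispLib.Iterate
import Mathlib.RingTheory.AdicCompletion.Basic
import Mathlib.RingTheory.Finiteness.Projective
import Mathlib.Algebra.Polynomial.AlgebraMap
import Mathlib.Tactic.NoncommRing

/-!
# Normal decompositions over a `p`-adically complete ring
-/

namespace DispLib

open WittVector W4c1extbt610

universe u v

variable {p : ℕ} [Fact p.Prime] {R : Type u} [CommRing R]

/-- `W(R) → W_n(R/p^j)`. -/
noncomputable def piTrunc (n j : ℕ) :
    WittVector p R →+* TruncatedWittVector p n (R ⧸ Ideal.span {(p : R) ^ j}) :=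
  (WittVector.truncate n).comp (WittVector.map (Ideal.Quotient.mk (Ideal.span {(p : R) ^ j})))

lemma piTrunc_eq_iff (n j : ℕ) (x y : WittVector p R) :
    piTrunc n j x = piTrunc n j y ↔ ∀ i < n, x.coeff i - y.coeff i ∈ Ideal.span {(p : R) ^ j} := by
  simp only [piTrunc, RingHom.comp_apply, TruncatedWittVector.ext_iff, WittVector.coeff_truncate,
    WittVector.map_coeff, Ideal.Quotient.eq]
  exact ⟨fun h i hi => h ⟨i, hi⟩, fun h i => h i i.2⟩

lemma eq_zero_of_piTrunc [IsHausdorff (Ideal.span {(p : R)}) R] {x : WittVector p R}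
    (h : ∀ n j, piTrunc n j x = 0) : x = 0 := by
  refine WittVector.ext fun i => ?_
  rw [WittVector.zero_coeff]
  refine IsHausdorff.haus (I := Ideal.span {(p : R)}) inferInstance _ fun j => ?_
  have h1 := (piTrunc_eq_iff (i + 1) j x 0).mp (by rw [h, map_zero]) i i.lt_succ_self
  rw [WittVector.zero_coeff, sub_zero] at h1
  rw [SModEq.zero, Ideal.span_singleton_pow, smul_eq_mul, Ideal.mul_top]
  exact h1

lemma IV_mul_IV_le : IV p R * IV p R ≤ Ideal.span {(p : WittVector p R)} * IV p R := by
  rw [Ideal.mul_le]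
  intro a ha b hb
  obtain ⟨x, rfl⟩ := mem_IV_iff.mp ha
  obtain ⟨y, rfl⟩ := mem_IV_iff.mp hb
  have e1 : verschiebung x * verschiebung y = verschiebung (x * (y * (p : WittVector p R))) := by
    rw [← frobenius_verschiebung y, verschiebung_mul_frobenius]
  have e2 : verschiebung (x * (y * (p : WittVector p R))) = verschiebung (x * y) * (p : WittVector p R) := by
    have := verschiebung_mul_frobenius (x * y) (p : WittVector p R)
    rw [map_natCast, mul_assoc] at this
    exact this
  rw [e1, e2, mul_comm (verschiebung (x * y)) (p : WittVector p R)]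
  exact Ideal.mul_mem_mul (I := Ideal.span {(p : WittVector p R)}) (J := IV p R)
    (Ideal.mem_span_singleton_self _) (verschiebung_mem_IV p R (x * y))

lemma IV_pow_le (m : ℕ) : IV p R ^ (m + 1) ≤ Ideal.span {(p : WittVector p R)} ^ m * IV p R := by
  induction m with
  | zero => simp
  | succ m ih =>
    rw [pow_succ]
    refine le_trans (Ideal.mul_mono_left ih) ?_
    rw [mul_assoc, pow_succ, mul_assoc]
    exact Ideal.mul_mono_right IV_mul_IV_le

lemma exists_piTrunc_IV_pow (n j : ℕ) :
    ∃ m, ∀ x ∈ IV p R ^ m, piTrunc n j x = 0 := by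
  obtain ⟨k, hk⟩ := natCast_pow_mem_ker_truncate (p := p) (R := R ⧸ Ideal.span {(p : R) ^ j})
    ⟨j, by rw [← map_natCast (Ideal.Quotient.mk (Ideal.span {(p : R) ^ j})), ← map_pow,
      Ideal.Quotient.eq_zero_iff_mem]; exact Ideal.mem_span_singleton_self _⟩ n
  refine ⟨k + 1, fun x hx => ?_⟩
  have hx' := Ideal.mul_le_left (IV_pow_le (p := p) (R := R) k hx)
  rw [Ideal.span_singleton_pow, Ideal.mem_span_singleton] at hx'
  obtain ⟨c, rfl⟩ := hx'
  rw [map_mul, map_pow, map_natCast]
  have := RingHom.mem_ker.mp hk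
  rw [map_pow, map_natCast] at this
  rw [this, zero_mul]

lemma exists_limit [IsPrecomplete (Ideal.span {(p : R)}) R] (a : ℕ → WittVector p R)
    (ha : ∀ i, a (i + 1) - a i ∈ IV p R ^ (i + 1)) :
    ∃ L : WittVector p R, ∀ n j, ∃ i₀, ∀ i ≥ i₀, piTrunc n j L = piTrunc n j (a i) := by
  have hdiff : ∀ i i', i ≤ i' → a i' - a i ∈ IV p R ^ i := by
    intro i i' h
    induction i', h using Nat.le_induction with
    | base => rw [sub_self]; exact zero_mem _
    | succ k hk ih =>
      rw [← sub_add_sub_cancel (a (k + 1)) (a k) (a i)]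
      exact add_mem (Ideal.pow_le_pow_right (by omega) (ha k)) ih
  choose m hm using fun n j => exists_piTrunc_IV_pow (p := p) (R := R) n j
  let μ : ℕ → ℕ → ℕ := fun n j => (Finset.range (j + 1)).sup (m (n + 1))
  have hμ : ∀ n j i i', μ n j ≤ i → μ n j ≤ i' → (a i).coeff n - (a i').coeff n ∈ Ideal.span {(p : R) ^ j} := by
    intro n j i i' h h'
    have hle : m (n + 1) j ≤ μ n j := Finset.le_sup (f := m (n + 1)) (Finset.self_mem_range_succ j)
    have key : ∀ i, μ n j ≤ i → piTrunc (n + 1) j (a i) = piTrunc (n + 1) j (a (μ n j)) := fun i h => by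
      rw [← sub_eq_zero, ← map_sub]
      exact hm _ _ _ (Ideal.pow_le_pow_right hle (hdiff _ _ h))
    exact (piTrunc_eq_iff _ _ _ _).mp ((key i h).trans (key i' h').symm) n n.lt_succ_self
  have hmono : ∀ n {j j'}, j ≤ j' → μ n j ≤ μ n j' := fun n j j' h =>
    Finset.sup_mono (Finset.range_mono (by omega))
  choose L hL using fun n => IsPrecomplete.prec (inferInstance : IsPrecomplete (Ideal.span {(p : R)}) R)
    (f := fun j => (a (μ n j)).coeff n) (fun {j j'} h => by
      rw [SModEq.sub_mem, Ideal.span_singleton_pow, smul_eq_mul, Ideal.mul_top]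
      exact hμ n j _ _ le_rfl (hmono n h))
  refine ⟨WittVector.mk p L, fun n j => ⟨(Finset.range n).sup (μ · j), fun i hi => ?_⟩⟩
  rw [piTrunc_eq_iff]
  intro k hk
  have h1 := SModEq.sub_mem.mp (hL k j)
  rw [Ideal.span_singleton_pow, smul_eq_mul, Ideal.mul_top] at h1
  have h2 := hμ k j (μ k j) i le_rfl (le_trans (Finset.le_sup (f := (μ · j)) (Finset.mem_range.mpr hk)) hi)
  rw [WittVector.coeff_mk]
  have := sub_mem h2 h1
  rwa [sub_sub_sub_cancel_left] at this

variable {P : Type v} [AddCommGroup P] [Module (WittVector p R) P]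

theorem exists_idempotent_lift_IV [IsAdicComplete (Ideal.span {(p : R)}) R]
    [Module.Finite (WittVector p R) P] [Module.Projective (WittVector p R) P]
    (e₀ : Module.End (WittVector p R) P) (he : ∀ m, e₀ (e₀ m) - e₀ m ∈ IV p R • (⊤ : Submodule (WittVector p R) P)) :
    ∃ E : Module.End (WittVector p R) P, (∀ m, E (E m) = E m) ∧
      ∀ m, E m - e₀ m ∈ IV p R • (⊤ : Submodule (WittVector p R) P) := by
  let ee : ℕ → Module.End (WittVector p R) P := fun i =>
    Nat.rec e₀ (fun _ e => 3 • (e * e) - 2 • (e * e * e)) i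
  have hdef : ∀ i, ee (i + 1) * ee (i + 1) - ee (i + 1) =
      (ee i * ee i - ee i) * (ee i * ee i - ee i) * (4 • (ee i * ee i - ee i) - 3 • 1) := by
    intro i
    have hpoly : ∀ X : Polynomial (WittVector p R),
        (3 • (X * X) - 2 • (X * X * X)) * (3 • (X * X) - 2 • (X * X * X)) - (3 • (X * X) - 2 • (X * X * X)) =
          (X * X - X) * (X * X - X) * (4 • (X * X - X) - 3 • 1) := fun X => by
      simp only [nsmul_eq_mul, Nat.cast_ofNat]
      ring
    have e := congrArg (Polynomial.aeval (ee i)) (hpoly Polynomial.X)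
    simp only [map_sub, map_mul, map_nsmul, map_one, Polynomial.aeval_X] at e
    exact e
  have hlin : ∀ (T : Module.End (WittVector p R) P) (J : Ideal (WittVector p R)) (K : Ideal (WittVector p R)),
      (∀ m, T m ∈ K • (⊤ : Submodule (WittVector p R) P)) → ∀ y ∈ J • (⊤ : Submodule (WittVector p R) P),
        T y ∈ (J * K) • (⊤ : Submodule (WittVector p R) P) := by
    intro T J K hT y hy
    refine Submodule.smul_induction_on hy (fun a ha w _ => ?_) (fun a b ha hb => ?_)
    · rw [map_smul, ← smul_eq_mul, Submodule.smul_assoc]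
      exact Submodule.smul_mem_smul ha (hT w)
    · rw [map_add]; exact add_mem ha hb
  have key : ∀ i m, (ee i * ee i - ee i) m ∈ IV p R ^ (i + 1) • (⊤ : Submodule (WittVector p R) P) := by
    intro i
    induction i with
    | zero => intro m; rw [zero_add, pow_one]; exact he m
    | succ i ih =>
      intro m
      rw [hdef, mul_assoc, Module.End.mul_apply, Module.End.mul_apply]
      have := hlin _ _ _ ih _ (ih ((4 • (ee i * ee i - ee i) - 3 • 1 : Module.End (WittVector p R) P) m))
      rw [← pow_add] at this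
      exact Submodule.smul_mono_left (Ideal.pow_le_pow_right (by omega)) this
  have step : ∀ i m, (ee (i + 1) - ee i) m ∈ IV p R ^ (i + 1) • (⊤ : Submodule (WittVector p R) P) := by
    intro i m
    have : ee (i + 1) - ee i = (ee i * ee i - ee i) * (1 - 2 • ee i) := by
      change 3 • (ee i * ee i) - 2 • (ee i * ee i * ee i) - ee i = _
      noncomm_ring
    rw [this]
    exact key i _
  obtain ⟨n, f, g, -, hgi, hfg⟩ := Module.Finite.exists_comp_eq_id_of_projective (WittVector p R) P
  have hcoord : ∀ (J : Ideal (WittVector p R)) (y : P), y ∈ J • (⊤ : Submodule (WittVector p R) P) → ∀ r, g y r ∈ J := by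
    intro J y hy r
    refine Submodule.smul_induction_on hy (fun a ha w _ => ?_) (fun a b ha hb => ?_)
    · rw [map_smul]; exact Ideal.mul_mem_right _ _ ha
    · rw [map_add]; exact add_mem ha hb
  have hmat : ∀ (T : Module.End (WittVector p R) P) (x : P) r, g (T x) r = ∑ c, g x c * g (T (f (Pi.single c 1))) r := by
    intro T x r
    conv_lhs => rw [show x = f (g x) from (LinearMap.congr_fun hfg x).symm, pi_eq_sum_univ' (g x)]
    simp only [map_sum, map_smul, Finset.sum_apply, Pi.smul_apply, smul_eq_mul]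
  let a : Fin n → Fin n → ℕ → WittVector p R := fun r c i => g (ee i (f (Pi.single c 1))) r
  choose L hL using fun r c => exists_limit (a r c) fun i => by
    have := hcoord _ _ (step i (f (Pi.single c 1))) r
    rwa [LinearMap.sub_apply, map_sub, Pi.sub_apply] at this
  let E : Module.End (WittVector p R) P :=
    f ∘ₗ Fintype.linearCombination (WittVector p R) (fun c r => L r c) ∘ₗ g
  have hlim : ∀ N j, ∃ i₀, ∀ i ≥ i₀, ∀ (x : P) (r : Fin n),
      piTrunc N j (g (E x) r) = piTrunc N j (g (ee i x) r) := by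
    intro N j
    choose i₀ hi₀ using fun r c => hL r c N j
    refine ⟨Finset.univ.sup fun r => Finset.univ.sup fun c => i₀ r c, fun i hi x r => ?_⟩
    have hE : ∀ r c, piTrunc N j (L r c) = piTrunc N j (a r c i) := fun r c => hi₀ r c i
      (le_trans (le_trans (Finset.le_sup (f := fun c => i₀ r c) (Finset.mem_univ c))
        (Finset.le_sup (f := fun r => Finset.univ.sup fun c => i₀ r c) (Finset.mem_univ r))) hi)
    have e1 : ∀ v, piTrunc N j (g (f v) r) = ∑ k, piTrunc N j (v k) * piTrunc N j (g (f (Pi.single k 1)) r) := by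
      intro v
      conv_lhs => rw [pi_eq_sum_univ' v]
      simp only [map_sum, map_smul, Finset.sum_apply, Pi.smul_apply, smul_eq_mul, map_mul]
    have e2 : g (ee i x) r = g (f (g (ee i x))) r := by
      rw [show f (g (ee i x)) = ee i x from LinearMap.congr_fun hfg _]
    rw [e2, e1]
    change piTrunc N j (g (f (Fintype.linearCombination (WittVector p R) (fun c r => L r c) (g x))) r) = _
    rw [e1]
    refine Finset.sum_congr rfl fun k _ => congrArg (fun t => t * _) ?_
    rw [Fintype.linearCombination_apply, hmat (ee i) x k, Finset.sum_apply, map_sum, map_sum]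
    refine Finset.sum_congr rfl fun c _ => ?_
    rw [Pi.smul_apply, smul_eq_mul, map_mul, map_mul, hE]
  refine ⟨E, fun m => ?_, fun m => ?_⟩
  · refine hgi (funext fun r => sub_eq_zero.mp (eq_zero_of_piTrunc fun N j => ?_))
    obtain ⟨i₀, hi₀⟩ := hlim N j
    obtain ⟨k, hk⟩ := exists_piTrunc_IV_pow (p := p) (R := R) N j
    have hi : i₀ ≤ max i₀ k := le_max_left _ _
    rw [map_sub, sub_eq_zero, hi₀ _ hi, hi₀ _ hi, hmat _ (E m), map_sum]
    simp only [map_mul, hi₀ _ hi]
    rw [← Finset.sum_congr rfl fun c _ => map_mul (piTrunc N j) _ _, ← map_sum, ← hmat, ← sub_eq_zero, ← map_sub]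
    refine hk _ (Ideal.pow_le_pow_right (by omega : k ≤ max i₀ k + 1) ?_)
    have := hcoord _ _ (key (max i₀ k) m) r
    rwa [LinearMap.sub_apply, Module.End.mul_apply, map_sub, Pi.sub_apply] at this
  · rw [show E m - e₀ m = f (g (E m) - g (e₀ m)) by
      rw [map_sub, show ∀ y, f (g y) = y from LinearMap.congr_fun hfg, show f (g (e₀ m)) = e₀ m from LinearMap.congr_fun hfg _]]
    rw [pi_eq_sum_univ' (g (E m) - g (e₀ m)), map_sum]
    refine Submodule.sum_mem _ fun r _ => ?_
    rw [map_smul]
    refine Submodule.smul_mem_smul ?_ Submodule.mem_top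
    have hI : ∀ i, g (ee i m) r - g (e₀ m) r ∈ IV p R := by
      intro i
      induction i with
      | zero => rw [show ee 0 = e₀ from rfl, sub_self]; exact zero_mem _
      | succ i ih =>
        have := hcoord _ _ (step i m) r
        rw [LinearMap.sub_apply, map_sub, Pi.sub_apply] at this
        rw [← sub_add_sub_cancel (g (ee (i + 1) m) r) (g (ee i m) r)]
        exact add_mem (Ideal.pow_le_self (by omega) this) ih
    rw [Pi.sub_apply, IV_eq_ker, RingHom.mem_ker]
    refine IsHausdorff.haus (I := Ideal.span {(p : R)}) inferInstance _ fun j => ?_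
    obtain ⟨i, hi⟩ := hlim 1 j
    have h1 := (piTrunc_eq_iff 1 j _ _).mp (hi i le_rfl m r) 0 zero_lt_one
    have h2 := hI i
    rw [IV_eq_ker, RingHom.mem_ker, map_sub] at h2
    rw [SModEq.zero, Ideal.span_singleton_pow, smul_eq_mul, Ideal.mul_top, map_sub,
      ← sub_eq_zero.mp h2]
    exact h1

theorem exists_normal_decomposition [IsAdicComplete (Ideal.span {(p : R)}) R]
    [Module.Finite (WittVector p R) P] [Module.Projective (WittVector p R) P]
    (Q : Submodule (WittVector p R) P)
    (hQ : ∃ C : Submodule (WittVector p R) P,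
      Q ⊔ C = ⊤ ∧ Q ⊓ C = IV p R • (⊤ : Submodule (WittVector p R) P)) :
    ∃ L T : Submodule (WittVector p R) P, IsCompl L T ∧ Q = L ⊔ IV p R • T := by
  obtain ⟨C, hsup, hinf⟩ := hQ
  set N := IV p R • (⊤ : Submodule (WittVector p R) P) with hN
  have hNQ : N ≤ Q := hinf ▸ inf_le_left
  -- the projection modulo `I P`
  let ψ : (Q × C) →ₗ[WittVector p R] P := Q.subtype.coprod C.subtype
  let χ : (Q × C) →ₗ[WittVector p R] P ⧸ N := N.mkQ ∘ₗ Q.subtype ∘ₗ LinearMap.fst _ _ _
  have hψ : Function.Surjective ψ := by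
    intro y
    obtain ⟨q, hq, c, hc, rfl⟩ := Submodule.mem_sup.mp (hsup.ge (Submodule.mem_top (x := y)))
    exact ⟨(⟨q, hq⟩, ⟨c, hc⟩), rfl⟩
  obtain ⟨sec, hsec⟩ := Module.projective_lifting_property ψ LinearMap.id hψ
  let e₀ : Module.End (WittVector p R) P := Q.subtype ∘ₗ LinearMap.fst _ _ _ ∘ₗ sec
  have hfix : ∀ q ∈ Q, e₀ q - q ∈ N := by
    intro q hq
    have h1 : ((sec q).1 : P) + (sec q).2 = q := LinearMap.congr_fun hsec q
    have h2 : q - ((sec q).1 : P) ∈ Q ⊓ C := by
      refine ⟨sub_mem hq (sec q).1.2, ?_⟩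
      rw [SetLike.mem_coe, show q - ((sec q).1 : P) = (sec q).2 by rw [sub_eq_iff_eq_add', h1]]
      exact (sec q).2.2
    rw [hinf] at h2
    rw [← neg_sub]
    exact Submodule.neg_mem _ h2
  obtain ⟨E, hE, hEe⟩ := exists_idempotent_lift_IV e₀ fun m => hfix _ (sec m).1.2
  refine ⟨LinearMap.range E, LinearMap.ker E, ⟨?_, ?_⟩, le_antisymm (fun q hq => ?_) (sup_le ?_ ?_)⟩
  · rw [disjoint_iff, eq_bot_iff]
    rintro _ ⟨⟨m, rfl⟩, h0⟩
    rw [SetLike.mem_coe, LinearMap.mem_ker, hE] at h0
    rw [Submodule.mem_bot, h0]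
  · rw [codisjoint_iff, eq_top_iff]
    exact fun m _ => Submodule.mem_sup.mpr
      ⟨E m, ⟨m, rfl⟩, m - E m, by rw [LinearMap.mem_ker, map_sub, hE, sub_self], add_sub_cancel _ _⟩
  · have h1 : q - E q ∈ N := by
      rw [show q - E q = -((E q - e₀ q) + (e₀ q - q)) by abel]
      exact Submodule.neg_mem _ (add_mem (hEe q) (hfix q hq))
    refine Submodule.mem_sup.mpr ⟨E q, ⟨q, rfl⟩, q - E q, ?_, add_sub_cancel _ _⟩
    have h2 : q - E q = (q - E q) - E (q - E q) := by rw [map_sub E q, hE, sub_self, sub_zero]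
    rw [h2]
    refine Submodule.smul_induction_on h1 (fun a ha w _ => ?_) (fun a b ha hb => ?_)
    · rw [map_smul, ← smul_sub]
      exact Submodule.smul_mem_smul ha (by rw [LinearMap.mem_ker, map_sub, hE, sub_self])
    · rw [map_add, add_sub_add_comm]; exact add_mem ha hb
  · rintro _ ⟨m, rfl⟩
    rw [← sub_add_cancel (E m) (e₀ m)]
    exact add_mem (hNQ (hEe m)) (sec m).1.2
  · exact le_trans (Submodule.smul_mono le_rfl le_top) hNQ

end DispLib
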