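import Groth.Agent.DispLib.Basic
import Groth.Agent.DispLib.ExactProj
import Mathlib.Algebra.CharP.Lemmas
import Mathlib.RingTheory.AdicCompletion.Basic

/-!
# Dieudonné modules over a perfect ring: level one conditions, normal decompositions, displays
-/

namespace DispLib

open WittVector W4c1extbt610

universe u v

variable {p : ℕ} [Fact p.Prime] {k : Type u} [CommRing k] [CharP k p] [PerfectRing k p]
variable {M : Type v} [AddCommGroup M] [Module (WittVector p k) M]


lemma IV_eq_span_p : IV p k = (Ideal.span {(p : WittVector p k)}) := by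
  rw [IV_eq_ker, WittVector.ker_constantCoeff]

lemma frob_symm (a : (WittVector p k)) : ((WittVector.frobeniusEquiv p k).symm : WittVector p k →+* WittVector p k) (frobenius a) = a :=
  (WittVector.frobeniusEquiv p k).symm_apply_apply a

lemma frob_apply_symm (a : (WittVector p k)) : frobenius (((WittVector.frobeniusEquiv p k).symm : WittVector p k →+* WittVector p k) a) = a :=
  (WittVector.frobeniusEquiv p k).apply_symm_apply a

lemma mem_pM_iff {x : M} : x ∈ (Ideal.span {(p : WittVector p k)}) • (⊤ : Submodule (WittVector p k) M) ↔ ∃ y, x = (p : (WittVector p k)) • y := by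
  rw [Submodule.ideal_span_singleton_smul, Submodule.mem_smul_pointwise_iff_exists]
  exact ⟨fun ⟨y, _, h⟩ => ⟨y, h.symm⟩, fun ⟨y, h⟩ => ⟨y, Submodule.mem_top, h.symm⟩⟩

lemma verschiebung_eq_p_mul (w : (WittVector p k)) : verschiebung w = (p : (WittVector p k)) * ((WittVector.frobeniusEquiv p k).symm : WittVector p k →+* WittVector p k) w := by
  nth_rewrite 1 [← frob_apply_symm w]
  rw [verschiebung_frobenius, mul_comm]

variable (F : M →ₛₗ[(WittVector.frobenius : WittVector p k →+* WittVector p k)] M) (V : M →ₛₗ[((WittVector.frobeniusEquiv p k).symm : WittVector p k →+* WittVector p k)] M)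

lemma F_p_smul (x : M) : F ((p : (WittVector p k)) • x) = (p : (WittVector p k)) • F x := by rw [map_smulₛₗ, map_natCast]

lemma V_p_smul (x : M) : V ((p : (WittVector p k)) • x) = (p : (WittVector p k)) • V x := by rw [map_smulₛₗ, map_natCast]

include F in
lemma level_one (hFV : ∀ m : M, F (V m) = (p : (WittVector p k)) • m) (hVF : ∀ m : M, V (F m) = (p : (WittVector p k)) • m)
    (htor : ∀ m : M, (p : (WittVector p k)) • m = 0 → m ∈ (Ideal.span {(p : WittVector p k)}) • (⊤ : Submodule (WittVector p k) M)) :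
    ((Ideal.span {(p : WittVector p k)}) • (⊤ : Submodule (WittVector p k) M)).comap F =
        Submodule.span (WittVector p k) (Set.range V) ⊔ (Ideal.span {(p : WittVector p k)}) • (⊤ : Submodule (WittVector p k) M) ∧
      ((Ideal.span {(p : WittVector p k)}) • (⊤ : Submodule (WittVector p k) M)).comap V =
        Submodule.span (WittVector p k) (Set.range F) ⊔ (Ideal.span {(p : WittVector p k)}) • (⊤ : Submodule (WittVector p k) M) := by
  constructor
  · refine le_antisymm (fun m hm => ?_) (sup_le ?_ fun m hm => ?_)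
    · obtain ⟨x, hx⟩ := mem_pM_iff.mp hm
      have h1 : m - V x ∈ (Ideal.span {(p : WittVector p k)}) • (⊤ : Submodule (WittVector p k) M) := htor _ (by
        rw [← hVF, map_sub, hFV, hx, sub_self, map_zero])
      have := add_mem (Submodule.mem_sup_left (T := (Ideal.span {(p : WittVector p k)}) • (⊤ : Submodule (WittVector p k) M))
        (Submodule.subset_span (R := WittVector p k) (Set.mem_range_self (f := ⇑V) x))) (Submodule.mem_sup_right h1)
      rwa [add_sub_cancel] at this
    · rw [Submodule.span_le]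
      rintro _ ⟨x, rfl⟩
      exact mem_pM_iff.mpr ⟨x, hFV x⟩
    · obtain ⟨y, rfl⟩ := mem_pM_iff.mp hm
      exact mem_pM_iff.mpr ⟨F y, F_p_smul F y⟩
  · refine le_antisymm (fun m hm => ?_) (sup_le ?_ fun m hm => ?_)
    · obtain ⟨x, hx⟩ := mem_pM_iff.mp hm
      have h1 : m - F x ∈ (Ideal.span {(p : WittVector p k)}) • (⊤ : Submodule (WittVector p k) M) := htor _ (by
        rw [← hFV, map_sub, hVF, hx, sub_self, map_zero])
      have := add_mem (Submodule.mem_sup_left (T := (Ideal.span {(p : WittVector p k)}) • (⊤ : Submodule (WittVector p k) M))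
        (Submodule.subset_span (R := WittVector p k) (Set.mem_range_self (f := ⇑F) x))) (Submodule.mem_sup_right h1)
      rwa [add_sub_cancel] at this
    · rw [Submodule.span_le]
      rintro _ ⟨x, rfl⟩
      exact mem_pM_iff.mpr ⟨x, hVF x⟩
    · obtain ⟨y, rfl⟩ := mem_pM_iff.mp hm
      exact mem_pM_iff.mpr ⟨V y, V_p_smul V y⟩

/-! ### torsion -/

lemma torsion_free [Module.Finite (WittVector p k) M] [Module.Projective (WittVector p k) M] {m : M} (h : (p : (WittVector p k)) • m = 0) : m = 0 := by
  obtain ⟨n, f, g, -, hg, -⟩ := Module.Finite.exists_comp_eq_id_of_projective (WittVector p k) M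
  refine hg ?_
  rw [map_zero]
  funext i
  refine WittVector.eq_zero_of_p_mul_eq_zero _ ?_
  have := congrFun (congrArg g h) i
  rw [map_smul, map_zero, Pi.smul_apply, smul_eq_mul, Pi.zero_apply, mul_comm] at this
  exact this

lemma torsion_truncated (n : ℕ) (hn : 2 ≤ n)
    [Module ((WittVector p k) ⧸ Ideal.span {(p : (WittVector p k)) ^ n}) M] [IsScalarTower (WittVector p k) ((WittVector p k) ⧸ Ideal.span {(p : (WittVector p k)) ^ n}) M]
    [Module.Finite ((WittVector p k) ⧸ Ideal.span {(p : (WittVector p k)) ^ n}) M] [Module.Projective ((WittVector p k) ⧸ Ideal.span {(p : (WittVector p k)) ^ n}) M]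
    {m : M} (h : (p : (WittVector p k)) • m = 0) : m ∈ (Ideal.span {(p : WittVector p k)}) • (⊤ : Submodule (WittVector p k) M) := by
  obtain ⟨N, f, g, -, -, hfg⟩ := Module.Finite.exists_comp_eq_id_of_projective ((WittVector p k) ⧸ Ideal.span {(p : (WittVector p k)) ^ n}) M
  choose a ha using fun i => Ideal.Quotient.mk_surjective (g m i)
  have hb : ∀ i, ∃ b, a i = (p : (WittVector p k)) * b := fun i => by
    have e : (p : (WittVector p k)) • g m = 0 := by rw [← LinearMap.map_smul_of_tower, h, map_zero]
    have e' := congrFun e i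
    rw [Pi.smul_apply, Pi.zero_apply, Algebra.smul_def, ← ha i, Ideal.Quotient.algebraMap_eq, ← map_mul,
      Ideal.Quotient.eq_zero_iff_mem, Ideal.mem_span_singleton] at e'
    obtain ⟨c, hc⟩ := e'
    refine ⟨(p : (WittVector p k)) ^ (n - 2) * c, ?_⟩
    refine sub_eq_zero.mp (WittVector.eq_zero_of_p_mul_eq_zero _ ?_)
    obtain ⟨j, rfl⟩ := Nat.exists_eq_add_of_le hn
    rw [Nat.add_sub_cancel_left, sub_mul]
    linear_combination hc
  choose b hb using hb
  refine mem_pM_iff.mpr ⟨f fun i => Ideal.Quotient.mk _ (b i), ?_⟩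
  rw [← LinearMap.map_smul_of_tower]
  conv_lhs => rw [show m = f (g m) from (LinearMap.congr_fun hfg m).symm]
  congr 1
  funext i
  rw [← ha i, hb i, map_mul, Pi.smul_apply, Algebra.smul_def, Ideal.Quotient.algebraMap_eq]

/-! ### the reduction `(WittVector p k) / p` -/

lemma quotientPEquiv_apply_mk (x : (WittVector p k)) :
    WittVector.quotientPEquiv (Ideal.Quotient.mk (Ideal.span {(p : WittVector p k)}) x) = x.coeff 0 := rfl

/-- Frobenius on `(WittVector p k) / p`. -/
noncomputable def frobQ : ((WittVector p k) ⧸ (Ideal.span {(p : WittVector p k)})) ≃+* ((WittVector p k) ⧸ (Ideal.span {(p : WittVector p k)})) :=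
  Ideal.quotientEquiv (Ideal.span {(p : WittVector p k)}) (Ideal.span {(p : WittVector p k)}) (WittVector.frobeniusEquiv p k) (by
    rw [Ideal.map_span, Set.image_singleton, map_natCast])

lemma frobQ_mk (a : (WittVector p k)) : frobQ (Ideal.Quotient.mk (Ideal.span {(p : WittVector p k)}) a) = Ideal.Quotient.mk (Ideal.span {(p : WittVector p k)}) (frobenius a) := rfl

lemma frobQ_symm_mk (a : (WittVector p k)) :
    frobQ.symm (Ideal.Quotient.mk (Ideal.span {(p : WittVector p k)}) a) = Ideal.Quotient.mk (Ideal.span {(p : WittVector p k)}) (((WittVector.frobeniusEquiv p k).symm : WittVector p k →+* WittVector p k) a) := by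
  apply frobQ.injective
  rw [RingEquiv.apply_symm_apply, frobQ_mk, frob_apply_symm]

lemma frobQ_eq_pow (x : (WittVector p k) ⧸ (Ideal.span {(p : WittVector p k)})) : frobQ x = x ^ p := by
  obtain ⟨a, rfl⟩ := Ideal.Quotient.mk_surjective x
  apply WittVector.quotientPEquiv.injective
  rw [map_pow, frobQ_mk, quotientPEquiv_apply_mk, quotientPEquiv_apply_mk, coeff_frobenius_charP]

lemma quotient_reduced : IsReduced ((WittVector p k) ⧸ (Ideal.span {(p : WittVector p k)})) :=
  have : IsReduced k := ⟨fun x ⟨m, hm⟩ => by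
    have h : x ^ (p ^ m) = 0 := pow_eq_zero_of_le (Nat.lt_pow_self (Fact.out : p.Prime).one_lt).le hm
    rw [← iterate_frobenius] at h
    exact ((injective_frobenius k p).iterate m) (h.trans (iterate_map_zero _ m).symm)⟩
  isReduced_of_injective (WittVector.quotientPEquiv (p := p) (k := k)).toRingHom
    (WittVector.quotientPEquiv).injective

variable {n : ℕ}

lemma projective_reduction (c : M →ₗ[(WittVector p k)] (Fin n → (WittVector p k) ⧸ (Ideal.span {(p : WittVector p k)}))) (e : Fin n → M)
    (hce : ∀ m, Submodule.mkQ ((Ideal.span {(p : WittVector p k)}) • (⊤ : Submodule (WittVector p k) M)) m =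
      ∑ i, c m i • Submodule.mkQ ((Ideal.span {(p : WittVector p k)}) • (⊤ : Submodule (WittVector p k) M)) (e i)) :
    Module.Finite ((WittVector p k) ⧸ (Ideal.span {(p : WittVector p k)})) (M ⧸ (Ideal.span {(p : WittVector p k)}) • (⊤ : Submodule (WittVector p k) M)) ∧
      Module.Projective ((WittVector p k) ⧸ (Ideal.span {(p : WittVector p k)})) (M ⧸ (Ideal.span {(p : WittVector p k)}) • (⊤ : Submodule (WittVector p k) M)) := by
  let d := Fintype.linearCombination ((WittVector p k) ⧸ (Ideal.span {(p : WittVector p k)})) (fun i => Submodule.mkQ ((Ideal.span {(p : WittVector p k)}) • (⊤ : Submodule (WittVector p k) M)) (e i))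
  have hker : (Ideal.span {(p : WittVector p k)}) • (⊤ : Submodule (WittVector p k) M) ≤ LinearMap.ker c := by
    intro x hx
    obtain ⟨y, rfl⟩ := mem_pM_iff.mp hx
    rw [LinearMap.mem_ker, map_smul]
    funext i
    rw [Pi.smul_apply, Algebra.smul_def, Ideal.Quotient.algebraMap_eq,
      Ideal.Quotient.eq_zero_iff_mem.mpr (Ideal.mem_span_singleton_self _), zero_mul]
    rfl
  let c' := (((Ideal.span {(p : WittVector p k)}) • (⊤ : Submodule (WittVector p k) M)).liftQ c hker).extendScalarsOfSurjective
    (Ideal.Quotient.mk_surjective : Function.Surjective (algebraMap (WittVector p k) ((WittVector p k) ⧸ (Ideal.span {(p : WittVector p k)}))))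
  have hdc : d ∘ₗ c' = LinearMap.id := by
    refine LinearMap.ext fun z => ?_
    obtain ⟨m, rfl⟩ := Submodule.Quotient.mk_surjective _ z
    change d (c m) = _
    rw [Fintype.linearCombination_apply]
    exact (hce m).symm
  refine ⟨Module.Finite.of_surjective d fun z => ⟨c' z, LinearMap.congr_fun hdc z⟩,
    Module.Projective.of_split c' d hdc⟩

/-- The reduction of `V`. -/
noncomputable def redV : (M ⧸ (Ideal.span {(p : WittVector p k)}) • (⊤ : Submodule (WittVector p k) M)) →ₛₗ[((WittVector.frobeniusEquiv p k).symm : WittVector p k →+* WittVector p k)] (M ⧸ (Ideal.span {(p : WittVector p k)}) • (⊤ : Submodule (WittVector p k) M)) :=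
  Submodule.mapQ _ _ V fun m hm => by
    obtain ⟨y, rfl⟩ := mem_pM_iff.mp hm
    exact mem_pM_iff.mpr ⟨V y, V_p_smul V y⟩

/-- The reduction of `F`. -/
noncomputable def redF : (M ⧸ (Ideal.span {(p : WittVector p k)}) • (⊤ : Submodule (WittVector p k) M)) →ₛₗ[(WittVector.frobenius : WittVector p k →+* WittVector p k)] (M ⧸ (Ideal.span {(p : WittVector p k)}) • (⊤ : Submodule (WittVector p k) M)) :=
  Submodule.mapQ _ _ F fun m hm => by
    obtain ⟨y, rfl⟩ := mem_pM_iff.mp hm
    exact mem_pM_iff.mpr ⟨F y, F_p_smul F y⟩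

lemma range_redV :
    Set.range (redV V) = Set.range fun m : M => ((Ideal.span {(p : WittVector p k)}) • (⊤ : Submodule (WittVector p k) M)).mkQ (V m) := by
  ext z
  constructor
  · rintro ⟨y, rfl⟩
    obtain ⟨m, rfl⟩ := Submodule.Quotient.mk_surjective _ y
    exact ⟨m, rfl⟩
  · rintro ⟨m, rfl⟩
    exact ⟨Submodule.Quotient.mk m, rfl⟩

include F in
lemma exists_retraction_V [Module.Finite ((WittVector p k) ⧸ (Ideal.span {(p : WittVector p k)})) (M ⧸ (Ideal.span {(p : WittVector p k)}) • (⊤ : Submodule (WittVector p k) M))]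
    [Module.Projective ((WittVector p k) ⧸ (Ideal.span {(p : WittVector p k)})) (M ⧸ (Ideal.span {(p : WittVector p k)}) • (⊤ : Submodule (WittVector p k) M))]
    (hFV : ∀ m : M, F (V m) = (p : (WittVector p k)) • m) (hVF : ∀ m : M, V (F m) = (p : (WittVector p k)) • m)
    (htor : ∀ m : M, (p : (WittVector p k)) • m = 0 → m ∈ (Ideal.span {(p : WittVector p k)}) • (⊤ : Submodule (WittVector p k) M)) :
    ∃ h : (M ⧸ (Ideal.span {(p : WittVector p k)}) • (⊤ : Submodule (WittVector p k) M)) →ₗ[(WittVector p k) ⧸ (Ideal.span {(p : WittVector p k)})]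
        (Submodule.span ((WittVector p k) ⧸ (Ideal.span {(p : WittVector p k)})) (Set.range fun m : M => ((Ideal.span {(p : WittVector p k)}) • (⊤ : Submodule (WittVector p k) M)).mkQ (V m))),
      h ∘ₗ (Submodule.span ((WittVector p k) ⧸ (Ideal.span {(p : WittVector p k)})) (Set.range fun m : M => ((Ideal.span {(p : WittVector p k)}) • (⊤ : Submodule (WittVector p k) M)).mkQ (V m))).subtype =
        LinearMap.id := by
  rw [← range_redV V]
  have := quotient_reduced (p := p) (k := k)
  have : CharP ((WittVector p k) ⧸ (Ideal.span {(p : WittVector p k)})) p := charP_of_injective_ringHom (f := (WittVector.quotientPEquiv (p := p) (k := k)).symm.toRingHom)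
    (WittVector.quotientPEquiv).symm.injective p
  have hlev := level_one F V hFV hVF htor
  refine ExactProj.exists_retraction_of_exact p (Fact.out : p.Prime).two_le (fun x y => sub_pow_char ..)
    (fun a => ⟨frobQ.symm a, by rw [← frobQ_eq_pow, RingEquiv.apply_symm_apply]⟩) frobQ
    (fun J hJ a => ?_) (redF F).toAddMonoidHom (redV V).toAddMonoidHom ?_ ?_ ?_ ?_ ?_ ?_
  · rw [frobQ_eq_pow]
    exact ⟨fun h => hJ ⟨p, h⟩, fun h => J.pow_mem_of_mem h p (Fact.out : p.Prime).pos⟩
  · intro a x
    obtain ⟨a, rfl⟩ := Ideal.Quotient.mk_surjective a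
    obtain ⟨x, rfl⟩ := Submodule.Quotient.mk_surjective _ x
    change Submodule.Quotient.mk (F (a • x)) = _
    rw [map_smulₛₗ]
    rfl
  · intro a x
    obtain ⟨a, rfl⟩ := Ideal.Quotient.mk_surjective a
    obtain ⟨x, rfl⟩ := Submodule.Quotient.mk_surjective _ x
    rw [frobQ_symm_mk]
    change Submodule.Quotient.mk (V (a • x)) = _
    rw [map_smulₛₗ]
    rfl
  · intro z
    obtain ⟨x, rfl⟩ := Submodule.Quotient.mk_surjective _ z
    exact (Submodule.Quotient.mk_eq_zero _).mpr (mem_pM_iff.mpr ⟨x, hFV x⟩)
  · intro z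
    obtain ⟨x, rfl⟩ := Submodule.Quotient.mk_surjective _ z
    exact (Submodule.Quotient.mk_eq_zero _).mpr (mem_pM_iff.mpr ⟨x, hVF x⟩)
  · intro z hz
    obtain ⟨x, rfl⟩ := Submodule.Quotient.mk_surjective _ z
    have hx : x ∈ ((Ideal.span {(p : WittVector p k)}) • (⊤ : Submodule (WittVector p k) M)).comap F :=
      (Submodule.Quotient.mk_eq_zero _ (x := F x)).mp hz
    rw [hlev.1, Submodule.mem_sup] at hx
    obtain ⟨s, hs, t, ht, rfl⟩ := hx
    clear hz
    obtain ⟨u, rfl⟩ : ∃ u, V u = s := by
      induction hs using Submodule.span_induction with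
      | mem x hx => exact hx
      | zero => exact ⟨0, map_zero V⟩
      | add a b _ _ ha hb =>
        obtain ⟨u, rfl⟩ := ha
        obtain ⟨u', rfl⟩ := hb
        exact ⟨u + u', map_add V u u'⟩
      | smul a b _ hb =>
        obtain ⟨u, rfl⟩ := hb
        exact ⟨frobenius a • u, by rw [map_smulₛₗ, frob_symm]⟩
    refine ⟨Submodule.Quotient.mk u, ?_⟩
    change Submodule.Quotient.mk (V u) = _
    rw [Submodule.Quotient.mk_add, (Submodule.Quotient.mk_eq_zero _).mpr ht, add_zero]
  · intro z hz
    obtain ⟨x, rfl⟩ := Submodule.Quotient.mk_surjective _ z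
    have hx : x ∈ ((Ideal.span {(p : WittVector p k)}) • (⊤ : Submodule (WittVector p k) M)).comap V :=
      (Submodule.Quotient.mk_eq_zero _ (x := V x)).mp hz
    rw [hlev.2, Submodule.mem_sup] at hx
    obtain ⟨s, hs, t, ht, rfl⟩ := hx
    clear hz
    obtain ⟨u, rfl⟩ : ∃ u, F u = s := by
      induction hs using Submodule.span_induction with
      | mem x hx => exact hx
      | zero => exact ⟨0, map_zero F⟩
      | add a b _ _ ha hb =>
        obtain ⟨u, rfl⟩ := ha
        obtain ⟨u', rfl⟩ := hb
        exact ⟨u + u', map_add F u u'⟩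
      | smul a b _ hb =>
        obtain ⟨u, rfl⟩ := hb
        exact ⟨((WittVector.frobeniusEquiv p k).symm : WittVector p k →+* WittVector p k) a • u, by rw [map_smulₛₗ, frob_apply_symm]⟩
    refine ⟨Submodule.Quotient.mk u, ?_⟩
    change Submodule.Quotient.mk (F u) = _
    rw [Submodule.Quotient.mk_add, (Submodule.Quotient.mk_eq_zero _).mpr ht, add_zero]

include F in
lemma projective_coker_V [Module.Finite ((WittVector p k) ⧸ (Ideal.span {(p : WittVector p k)})) (M ⧸ (Ideal.span {(p : WittVector p k)}) • (⊤ : Submodule (WittVector p k) M))]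
    [Module.Projective ((WittVector p k) ⧸ (Ideal.span {(p : WittVector p k)})) (M ⧸ (Ideal.span {(p : WittVector p k)}) • (⊤ : Submodule (WittVector p k) M))]
    (hFV : ∀ m : M, F (V m) = (p : (WittVector p k)) • m) (hVF : ∀ m : M, V (F m) = (p : (WittVector p k)) • m)
    (htor : ∀ m : M, (p : (WittVector p k)) • m = 0 → m ∈ (Ideal.span {(p : WittVector p k)}) • (⊤ : Submodule (WittVector p k) M)) :
    Module.Projective ((WittVector p k) ⧸ (Ideal.span {(p : WittVector p k)})) ((M ⧸ (Ideal.span {(p : WittVector p k)}) • (⊤ : Submodule (WittVector p k) M)) ⧸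
      Submodule.span ((WittVector p k) ⧸ (Ideal.span {(p : WittVector p k)})) (Set.range fun m : M => ((Ideal.span {(p : WittVector p k)}) • (⊤ : Submodule (WittVector p k) M)).mkQ (V m))) := by
  obtain ⟨h, hh⟩ := exists_retraction_V F V hFV hVF htor
  exact ExactProj.projective_quotient_of_retraction _ h hh

lemma reduction_of_projective [Module.Finite (WittVector p k) M] [Module.Projective (WittVector p k) M] :
    Module.Finite ((WittVector p k) ⧸ (Ideal.span {(p : WittVector p k)})) (M ⧸ (Ideal.span {(p : WittVector p k)}) • (⊤ : Submodule (WittVector p k) M)) ∧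
      Module.Projective ((WittVector p k) ⧸ (Ideal.span {(p : WittVector p k)})) (M ⧸ (Ideal.span {(p : WittVector p k)}) • (⊤ : Submodule (WittVector p k) M)) := by
  obtain ⟨N, f, g, -, -, hfg⟩ := Module.Finite.exists_comp_eq_id_of_projective (WittVector p k) M
  refine projective_reduction (LinearMap.pi fun i => (Algebra.linearMap (WittVector p k) ((WittVector p k) ⧸ (Ideal.span {(p : WittVector p k)}))) ∘ₗ LinearMap.proj i ∘ₗ g)
    (fun i => f (Pi.single i 1)) fun m => ?_
  conv_lhs => rw [show m = f (g m) from (LinearMap.congr_fun hfg m).symm, pi_eq_sum_univ' (g m), map_sum, map_sum]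
  refine Finset.sum_congr rfl fun i _ => ?_
  rw [map_smul, map_smul]
  rfl

lemma reduction_of_truncated (n : ℕ) (hn : 1 ≤ n)
    [Module ((WittVector p k) ⧸ Ideal.span {(p : (WittVector p k)) ^ n}) M] [IsScalarTower (WittVector p k) ((WittVector p k) ⧸ Ideal.span {(p : (WittVector p k)) ^ n}) M]
    [Module.Finite ((WittVector p k) ⧸ Ideal.span {(p : (WittVector p k)) ^ n}) M] [Module.Projective ((WittVector p k) ⧸ Ideal.span {(p : (WittVector p k)) ^ n}) M] :
    Module.Finite ((WittVector p k) ⧸ (Ideal.span {(p : WittVector p k)})) (M ⧸ (Ideal.span {(p : WittVector p k)}) • (⊤ : Submodule (WittVector p k) M)) ∧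
      Module.Projective ((WittVector p k) ⧸ (Ideal.span {(p : WittVector p k)})) (M ⧸ (Ideal.span {(p : WittVector p k)}) • (⊤ : Submodule (WittVector p k) M)) := by
  obtain ⟨N, f, g, -, -, hfg⟩ := Module.Finite.exists_comp_eq_id_of_projective ((WittVector p k) ⧸ Ideal.span {(p : (WittVector p k)) ^ n}) M
  have hle : Ideal.span {(p : (WittVector p k)) ^ n} ≤ (Ideal.span {(p : WittVector p k)}) := by
    rw [Ideal.span_singleton_le_span_singleton]
    exact dvd_pow_self _ (by omega)
  refine projective_reduction (LinearMap.pi fun i => (Ideal.Quotient.factorₐ (WittVector p k) hle).toLinearMap ∘ₗ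
    LinearMap.proj i ∘ₗ g.restrictScalars (WittVector p k)) (fun i => f (Pi.single i 1)) fun m => ?_
  conv_lhs => rw [show m = f (g m) from (LinearMap.congr_fun hfg m).symm, pi_eq_sum_univ' (g m), map_sum, map_sum]
  refine Finset.sum_congr rfl fun i _ => ?_
  rw [map_smul]
  obtain ⟨a, ha⟩ := Ideal.Quotient.mk_surjective (g m i)
  rw [LinearMap.pi_apply]
  simp only [LinearMap.comp_apply, LinearMap.proj_apply, LinearMap.coe_restrictScalars, AlgHom.toLinearMap_apply]
  rw [← ha, ← Ideal.Quotient.algebraMap_eq, algebraMap_smul, map_smul, AlgHom.commutes, algebraMap_smul]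

end DispLib
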